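import Mathlib.LinearAlgebra.Matrix.SpecialLinearGroup
import Mathlib.RingTheory.PowerBasis
import Mathlib.RingTheory.Adjoin.PowerBasis
import Mathlib.LinearAlgebra.Matrix.NonsingularInverse
import Mathlib.LinearAlgebra.Determinant
import Mathlib.Algebra.Polynomial.Roots
import Mathlib.LinearAlgebra.Dual.Lemmas
import Mathlib.RingTheory.IntegralClosure.Algebra.Basic

set_option autoImplicit false
set_option linter.unusedSectionVars false

/-!
Dickson's lemma over an infinite field: `up(k)` and `low(k α)` generate every elementary matrix over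
`k[α]`, `α` a unit.
-/

namespace CfsgLib.QP

open Polynomial

section Gens

variable {A : Type*} [CommRing A]

/-- The matrix `(1 r; 0 1)`. -/
def up (r : A) : Matrix.SpecialLinearGroup (Fin 2) A :=
  ⟨!![1, r; 0, 1], by simp [Matrix.det_fin_two]⟩

/-- The matrix `(1 0; r 1)`. -/
def low (r : A) : Matrix.SpecialLinearGroup (Fin 2) A :=
  ⟨!![1, 0; r, 1], by simp [Matrix.det_fin_two]⟩

theorem up_coe (r : A) : (up r : Matrix (Fin 2) (Fin 2) A) = !![1, r; 0, 1] := rfl

theorem low_coe (r : A) : (low r : Matrix (Fin 2) (Fin 2) A) = !![1, 0; r, 1] := rfl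

theorem up_mul (r s : A) : up r * up s = up (r + s) := by
  ext i j; fin_cases i <;> fin_cases j <;> simp [up_coe, Matrix.mul_apply, Fin.sum_univ_two, add_comm]

theorem low_mul (r s : A) : low r * low s = low (r + s) := by
  ext i j; fin_cases i <;> fin_cases j <;> simp [low_coe, Matrix.mul_apply, Fin.sum_univ_two, add_comm]

theorem up_zero : up (0 : A) = 1 := by ext i j; fin_cases i <;> fin_cases j <;> simp [up]

theorem low_zero : low (0 : A) = 1 := by ext i j; fin_cases i <;> fin_cases j <;> simp [low]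

theorem up_inv (r : A) : (up r)⁻¹ = up (-r) :=
  inv_eq_of_mul_eq_one_right (by rw [up_mul, add_neg_cancel, up_zero])

theorem low_inv (r : A) : (low r)⁻¹ = low (-r) :=
  inv_eq_of_mul_eq_one_right (by rw [low_mul, add_neg_cancel, low_zero])

variable (k : Type*) [Field k] [Algebra k A]

/-- The subgroup generated by `up(k)` and `low(k α)`. -/
def gen (α : A) : Subgroup (Matrix.SpecialLinearGroup (Fin 2) A) :=
  Subgroup.closure ({g | ∃ c : k, g = up (algebraMap k A c)} ∪ {g | ∃ c : k, g = low (c • α)})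

variable {k}

theorem up_mem_gen (α : A) (c : k) : up (algebraMap k A c) ∈ gen k α :=
  Subgroup.subset_closure (Or.inl ⟨c, rfl⟩)

theorem low_mem_gen (α : A) (c : k) : low (c • α) ∈ gen k α :=
  Subgroup.subset_closure (Or.inr ⟨c, rfl⟩)

/-- Scaling of a matrix: upper right entry by `t`, lower left one by `t⁻¹`. -/
def dilM (t : kˣ) (g : Matrix (Fin 2) (Fin 2) A) : Matrix (Fin 2) (Fin 2) A :=
  !![g 0 0, algebraMap k A t * g 0 1; algebraMap k A (t⁻¹ : kˣ) * g 1 0, g 1 1]

theorem dilM_mul (t : kˣ) (g h : Matrix (Fin 2) (Fin 2) A) :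
    dilM t (g * h) = dilM t g * dilM t h := by
  have e : algebraMap k A t * algebraMap k A (t⁻¹ : kˣ) = 1 := by
    rw [← map_mul, ← Units.val_mul, mul_inv_cancel, Units.val_one, map_one]
  simp only [dilM]
  generalize algebraMap k A (t⁻¹ : kˣ) = u at e
  generalize algebraMap k A t = s at e
  rw [Matrix.eta_fin_two (g * h), Matrix.eta_fin_two g, Matrix.eta_fin_two h]
  ext i j
  fin_cases i <;> fin_cases j <;> simp [Matrix.mul_apply, Fin.sum_univ_two]
  · linear_combination -(g 0 1 * h 1 0) * e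
  · ring
  · ring
  · linear_combination -(g 1 0 * h 0 1) * e

theorem dilM_det (t : kˣ) (g : Matrix (Fin 2) (Fin 2) A) : (dilM t g).det = g.det := by
  have e : algebraMap k A t * algebraMap k A (t⁻¹ : kˣ) = 1 := by
    rw [← map_mul, ← Units.val_mul, mul_inv_cancel, Units.val_one, map_one]
  simp only [dilM]
  generalize algebraMap k A (t⁻¹ : kˣ) = u at e
  generalize algebraMap k A t = s at e
  simp [Matrix.det_fin_two]
  linear_combination (g 0 1 * g 1 0) * e

/-- Scaling the upper right entry by `t` and the lower left one by `t⁻¹`. -/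
noncomputable def dil (t : kˣ) :
    Matrix.SpecialLinearGroup (Fin 2) A →* Matrix.SpecialLinearGroup (Fin 2) A :=
  MonoidHom.mk' (fun g => ⟨dilM t g.1, (dilM_det t g.1).trans g.2⟩)
    fun g h => Subtype.ext (dilM_mul t g.1 h.1)

theorem dil_coe (t : kˣ) (g : Matrix.SpecialLinearGroup (Fin 2) A) :
    (dil t g : Matrix (Fin 2) (Fin 2) A) = dilM t g.1 := rfl

theorem dil_up (t : kˣ) (r : A) : dil t (up r) = up (algebraMap k A t * r) := by
  apply Subtype.ext; ext i j; fin_cases i <;> fin_cases j <;> simp [dil_coe, dilM, up_coe]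

theorem dil_low (t : kˣ) (r : A) : dil t (low r) = low (algebraMap k A (t⁻¹ : kˣ) * r) := by
  apply Subtype.ext; ext i j; fin_cases i <;> fin_cases j <;> simp [dil_coe, dilM, low_coe]

theorem dil_mem (α : A) (t : kˣ) {g : Matrix.SpecialLinearGroup (Fin 2) A} (hg : g ∈ gen k α) :
    dil t g ∈ gen k α := by
  induction hg using Subgroup.closure_induction with
  | mem x hx =>
    rcases hx with ⟨c, rfl⟩ | ⟨c, rfl⟩
    · rw [dil_up, ← map_mul]; exact up_mem_gen α _
    · rw [dil_low, ← Algebra.smul_def, smul_smul]; exact low_mem_gen α _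
  | one => rw [map_one]; exact one_mem _
  | mul x y _ _ hx hy => rw [map_mul]; exact mul_mem hx hy
  | inv x _ hx => rw [map_inv]; exact inv_mem hx

/-- The `k`-subspace of the lower root group inside `gen k α`. -/
noncomputable def lowSub (α : A) : Submodule k A where
  carrier := {r | low r ∈ gen k α}
  zero_mem' := by simp [low_zero]
  add_mem' := fun {r s} hr hs => by
    show low (r + s) ∈ gen k α
    rw [← low_mul]; exact mul_mem hr hs
  smul_mem' := fun c r hr => by
    show low (c • r) ∈ gen k α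
    by_cases hc : c = 0
    · simp [hc, low_zero]
    · have := dil_mem α (Units.mk0 c hc)⁻¹ hr
      rwa [dil_low, inv_inv, Units.val_mk0, ← Algebra.smul_def] at this

theorem mem_lowSub {α r : A} : r ∈ lowSub (k := k) α ↔ low r ∈ gen k α := Iff.rfl

end Gens

section Infinite

variable {k : Type*} [Field k] {A : Type*} [CommRing A] [Algebra k A] [FiniteDimensional k A]

/-- Finitely many open conditions on a vector space over an infinite field are met together. -/
theorem exists_det_ne_zero [Infinite k] {V : Type*} [AddCommGroup V] [Module k V] {ι : Type*}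
    (s : Finset ι) (m : ι → ℕ) (L : ∀ i, V →ₗ[k] Matrix (Fin (m i)) (Fin (m i)) k)
    (hw : ∀ i ∈ s, ∃ w, (L i w).det ≠ 0) : ∃ p, ∀ i ∈ s, (L i p).det ≠ 0 := by
  classical
  induction s using Finset.induction with
  | empty => exact ⟨0, by simp⟩
  | @insert j s hj ih =>
    obtain ⟨p, hp⟩ := ih fun i hi => hw i (Finset.mem_insert_of_mem hi)
    obtain ⟨w, hw'⟩ := hw j (Finset.mem_insert_self j s)
    let D : ι → k[X] := fun i =>
      ((L i p).map C + (X : k[X]) • (L i (w - p)).map C).det
    have hD : ∀ i t, (D i).eval t = (L i (p + t • (w - p))).det := by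
      intro i t
      have e := RingHom.map_det (evalRingHom t) ((L i p).map C + (X : k[X]) • (L i (w - p)).map C)
      rw [coe_evalRingHom] at e
      rw [show (D i).eval t = _ from e]
      congr 1
      ext a b
      simp
    have hne : ∀ i ∈ insert j s, D i ≠ 0 := by
      intro i hi h0
      rcases Finset.mem_insert.1 hi with rfl | hi
      · have := hD i 1
        rw [h0, eval_zero, one_smul, add_sub_cancel] at this
        exact hw' this.symm
      · have := hD i 0
        rw [h0, eval_zero, zero_smul, add_zero] at this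
        exact hp i hi this.symm
    have hprod : ∏ i ∈ insert j s, D i ≠ 0 := Finset.prod_ne_zero_iff.2 hne
    obtain ⟨t, ht⟩ := Infinite.exists_notMem_finset (∏ i ∈ insert j s, D i).roots.toFinset
    rw [Multiset.mem_toFinset, mem_roots hprod, IsRoot.def, eval_prod, Finset.prod_eq_zero_iff] at ht
    push Not at ht
    exact ⟨p + t • (w - p), fun i hi => hD i t ▸ ht i hi⟩

variable (pb : PowerBasis k A)

/-- The elements of degree less than `j` in the power basis. -/
def degLT (j : ℕ) : Submodule k A where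
  carrier := {r | ∀ l : Fin pb.dim, j ≤ l → pb.basis.repr r l = 0}
  zero_mem' := fun l _ => by simp
  add_mem' := fun {r s} hr hs l hl => by simp [hr l hl, hs l hl]
  smul_mem' := fun c r hr l hl => by simp [hr l hl]

variable {pb}

theorem mem_degLT {j : ℕ} {r : A} :
    r ∈ degLT pb j ↔ ∀ l : Fin pb.dim, j ≤ l → pb.basis.repr r l = 0 := Iff.rfl

theorem degLT_top {j : ℕ} (h : pb.dim ≤ j) (r : A) : r ∈ degLT pb j :=
  fun l hl => absurd l.2 (by omega)

theorem degLT_mono {i j : ℕ} (h : i ≤ j) : degLT pb i ≤ degLT pb j :=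
  fun _ hr l hl => hr l (h.trans hl)

/-- The coefficient in degree `l`. -/
noncomputable def coeff' (pb : PowerBasis k A) (l : ℕ) : A →ₗ[k] k :=
  if h : l < pb.dim then pb.basis.coord ⟨l, h⟩ else 0

theorem coeff'_eq {l : ℕ} (h : l < pb.dim) (r : A) : coeff' pb l r = pb.basis.repr r ⟨l, h⟩ := by
  simp [coeff', h]

theorem mem_degLT_iff {j : ℕ} {r : A} : r ∈ degLT pb j ↔ ∀ l, j ≤ l → coeff' pb l r = 0 := by
  constructor
  · intro h l hl
    by_cases hd : l < pb.dim
    · rw [coeff'_eq hd]; exact h _ hl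
    · simp [coeff', hd]
  · intro h l hl
    have := h l hl
    rwa [coeff'_eq l.2] at this

theorem mem_degLT_of_top {j : ℕ} {r : A} (h : r ∈ degLT pb (j + 1)) (h0 : coeff' pb j r = 0) :
    r ∈ degLT pb j := by
  rw [mem_degLT_iff] at h ⊢
  intro l hl
  rcases Nat.eq_or_lt_of_le hl with rfl | hl
  · exact h0
  · exact h l hl

theorem gen_pow_mem {i j : ℕ} (hij : i < j) (hj : i < pb.dim) : pb.gen ^ i ∈ degLT pb j := by
  intro l hl
  have e : pb.gen ^ i = pb.basis ⟨i, hj⟩ := by rw [PowerBasis.coe_basis]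
  rw [e, Module.Basis.repr_self, Finsupp.single_apply, if_neg]
  exact fun h => absurd (congrArg Fin.val h) (by simp only; omega)

theorem coeff'_gen_pow {i : ℕ} (hi : i < pb.dim) (l : ℕ) :
    coeff' pb l (pb.gen ^ i) = if l = i then 1 else 0 := by
  by_cases hl : l < pb.dim
  · have e : pb.gen ^ i = pb.basis ⟨i, hi⟩ := by rw [PowerBasis.coe_basis]
    rw [coeff'_eq hl, e, Module.Basis.repr_self, Finsupp.single_apply]
    simp [Fin.ext_iff, eq_comm]
  · simp [coeff', hl]; omega

theorem eq_sum (r : A) : r = ∑ i : Fin pb.dim, coeff' pb i r • pb.gen ^ (i : ℕ) := by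
  conv_lhs => rw [← pb.basis.sum_repr r]
  refine Finset.sum_congr rfl fun i _ => ?_
  rw [coeff'_eq i.2, PowerBasis.coe_basis]

theorem degLT_zero {r : A} (h : r ∈ degLT pb 0) : r = 0 := by
  rw [eq_sum (pb := pb) r]
  rw [mem_degLT_iff] at h
  simp [h]

theorem coeff'_mul_gen {j : ℕ} (hj : j < pb.dim) {r : A} (h : r ∈ degLT pb j) (l : ℕ) :
    coeff' pb (l + 1) (pb.gen * r) = coeff' pb l r ∧ coeff' pb 0 (pb.gen * r) = 0 := by
  have hterm : ∀ (i : Fin pb.dim) (m : ℕ), coeff' pb i r * coeff' pb m (pb.gen ^ ((i : ℕ) + 1)) =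
      if m = (i : ℕ) + 1 then coeff' pb i r else 0 := by
    intro i m
    by_cases hi : j ≤ (i : ℕ)
    · rw [mem_degLT_iff.1 h i hi]; simp
    · rw [coeff'_gen_pow (show (i : ℕ) + 1 < pb.dim by omega)]; split_ifs <;> simp
  have hexp : ∀ m, coeff' pb m (pb.gen * r) =
      ∑ i : Fin pb.dim, if m = (i : ℕ) + 1 then coeff' pb i r else 0 := by
    intro m
    conv_lhs => rw [eq_sum (pb := pb) r]
    rw [Finset.mul_sum, map_sum]
    refine Finset.sum_congr rfl fun i _ => ?_
    rw [mul_smul_comm, map_smul, smul_eq_mul, ← pow_succ', hterm]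
  refine ⟨?_, ?_⟩
  · rw [hexp]
    by_cases hl : l < pb.dim
    · rw [Finset.sum_eq_single ⟨l, hl⟩]
      · simp
      · intro b _ hb; rw [if_neg]; intro e; exact hb (Fin.ext (by simp only; omega))
      · simp
    · rw [Finset.sum_eq_zero, show coeff' pb l r = 0 by simp [coeff', hl]]
      intro b _; rw [if_neg]; have := b.2; omega
  · rw [hexp]; exact Finset.sum_eq_zero fun b _ => if_neg (by omega)

theorem mul_gen_mem {j : ℕ} (hj : j < pb.dim) {r : A} (h : r ∈ degLT pb j) :
    pb.gen * r ∈ degLT pb (j + 1) := by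
  rw [mem_degLT_iff]
  intro l hl
  obtain ⟨l, rfl⟩ : ∃ l', l = l' + 1 := ⟨l - 1, by omega⟩
  rw [(coeff'_mul_gen hj h l).1]
  exact mem_degLT_iff.1 h l (by omega)

/-- The genericity condition used by the Euclidean descent. -/
def Good (pb : PowerBasis k A) (p : A) : Prop :=
  IsUnit p ∧ ∀ i < pb.dim, ∀ v ∈ degLT pb (i + 1), v ≠ 0 →
    p * v ∉ degLT pb (pb.dim - 1 - i) ∧ pb.gen * p * v ∉ degLT pb (pb.dim - 1 - i)

/-- The matrices whose determinants detect genericity. -/
noncomputable def detMap (pb : PowerBasis k A) (u : A) (i : ℕ) :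
    A →ₗ[k] Matrix (Fin (i + 1)) (Fin (i + 1)) k where
  toFun p := Matrix.of fun a b => coeff' pb (pb.dim - 1 - i + a) (u * p * pb.gen ^ (b : ℕ))
  map_add' p q := by ext a b; simp [mul_add, add_mul]
  map_smul' c p := by ext a b; simp

theorem not_mem_of_det {u p : A} {i : ℕ} (hi : i < pb.dim) (hdet : (detMap pb u i p).det ≠ 0)
    {v : A} (hv : v ∈ degLT pb (i + 1)) (hv0 : v ≠ 0) :
    u * p * v ∉ degLT pb (pb.dim - 1 - i) := by
  intro hmem
  apply hv0
  have hzero : (detMap pb u i p).mulVec (fun b => coeff' pb b v) = 0 := by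
    ext a
    have h1 := mem_degLT_iff.1 hmem (pb.dim - 1 - i + a) (by omega)
    have e : v = ∑ b : Fin (i + 1), coeff' pb b v • pb.gen ^ (b : ℕ) := by
      conv_lhs => rw [eq_sum (pb := pb) v]
      rw [Fin.sum_univ_eq_sum_range (fun b => coeff' pb b v • pb.gen ^ b),
        Fin.sum_univ_eq_sum_range (fun b => coeff' pb b v • pb.gen ^ b)]
      refine (Finset.sum_subset (Finset.range_subset_range.2 (by omega)) fun b _ hb => ?_).symm
      rw [mem_degLT_iff.1 hv b (by simpa using hb), zero_smul]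
    conv at h1 => arg 1; arg 2; rw [e]
    rw [Finset.mul_sum, map_sum] at h1
    simp only [mul_smul_comm, map_smul, smul_eq_mul] at h1
    simpa [Matrix.mulVec, dotProduct, detMap, mul_comm] using h1
  have h0 := Matrix.eq_zero_of_mulVec_eq_zero hdet hzero
  rw [eq_sum (pb := pb) v]
  refine Finset.sum_eq_zero fun b _ => ?_
  by_cases hb : (b : ℕ) < i + 1
  · rw [show coeff' pb b v = 0 from congrFun h0 ⟨b, hb⟩, zero_smul]
  · rw [mem_degLT_iff.1 hv b (by omega), zero_smul]

theorem detMap_witness {u w : A} {i : ℕ} (hi : i < pb.dim)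
    (h : u * w = pb.gen ^ (pb.dim - 1 - i)) : (detMap pb u i w).det ≠ 0 := by
  have e : detMap pb u i w = 1 := by
    ext a b
    simp only [detMap, LinearMap.coe_mk, AddHom.coe_mk, Matrix.of_apply]
    rw [h, ← pow_add, coeff'_gen_pow (by omega)]
    simp [Matrix.one_apply, Fin.ext_iff]
  rw [e, Matrix.det_one]; exact one_ne_zero

/-- A line through a good point is good outside finitely many parameters. -/
theorem good_line [Infinite k] (hgen : IsUnit pb.gen) (hd : 1 ≤ pb.dim) :
    ∃ p, Good pb p ∧ ∀ q : A, ∃ s : Finset k, ∀ t ∉ s, Good pb (p + t • q) := by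
  classical
  let bA := Module.finBasis k A
  let unitMap : A →ₗ[k] Matrix (Fin (Module.finrank k A)) (Fin (Module.finrank k A)) k :=
    (LinearMap.toMatrix bA bA).toLinearMap.comp (LinearMap.mul k A)
  let ι := Option (Fin pb.dim × Bool)
  let m : ι → ℕ := fun i => match i with
    | none => Module.finrank k A
    | some (i, _) => (i : ℕ) + 1
  let u : Bool → A := fun b => if b then pb.gen else 1
  let L : ∀ i : ι, A →ₗ[k] Matrix (Fin (m i)) (Fin (m i)) k := fun i => match i with
    | none => unitMap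
    | some (i, b) => detMap pb (u b) i
  have hunit : ∀ p, (L none p).det ≠ 0 ↔ IsUnit p := by
    intro p
    show (LinearMap.toMatrix bA bA (LinearMap.mul k A p)).det ≠ 0 ↔ _
    rw [LinearMap.det_toMatrix, ← isUnit_iff_ne_zero, ← LinearMap.isUnit_iff_isUnit_det,
      Module.End.isUnit_iff]
    constructor
    · intro hb
      obtain ⟨q, hq⟩ := hb.2 1
      exact IsUnit.of_mul_eq_one q hq
    · exact fun hp => ⟨fun a b hab => hp.mul_left_cancel hab,
        fun y => ⟨((hp.unit⁻¹ : Aˣ) : A) * y, by simp [← mul_assoc]⟩⟩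
  have hgood : ∀ p, (∀ i, (L i p).det ≠ 0) → Good pb p := by
    intro p hp
    refine ⟨(hunit p).1 (hp none), fun i hi v hv hv0 => ⟨?_, ?_⟩⟩
    · have h := not_mem_of_det hi (hp (some (⟨i, hi⟩, false))) hv hv0
      rwa [show u false = 1 from rfl, one_mul] at h
    · exact not_mem_of_det hi (hp (some (⟨i, hi⟩, true))) hv hv0
  obtain ⟨p, hp⟩ := exists_det_ne_zero Finset.univ m L (by
    rintro (_ | ⟨i, b⟩) -
    · exact ⟨1, (hunit 1).2 isUnit_one⟩
    · obtain ⟨g, hg⟩ := hgen
      cases b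
      · exact ⟨pb.gen ^ (pb.dim - 1 - i), detMap_witness i.2 (by simp [u])⟩
      · exact ⟨((g⁻¹ : Aˣ) : A) * pb.gen ^ (pb.dim - 1 - i), detMap_witness i.2
          (by simp [u, ← hg])⟩)
  refine ⟨p, hgood p fun i => hp i (Finset.mem_univ i), fun q => ?_⟩
  let D : ι → k[X] := fun i => ((L i p).map C + (X : k[X]) • (L i q).map C).det
  have hD : ∀ i t, (D i).eval t = (L i (p + t • q)).det := by
    intro i t
    have e := RingHom.map_det (evalRingHom t) ((L i p).map C + (X : k[X]) • (L i q).map C)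
    rw [coe_evalRingHom] at e
    rw [show (D i).eval t = _ from e]
    congr 1
    ext a b
    simp
    ring
  have hne : ∏ i, D i ≠ 0 := Finset.prod_ne_zero_iff.2 fun i _ h0 => by
    have := hD i 0
    rw [h0, eval_zero, zero_smul, add_zero] at this
    exact hp i (Finset.mem_univ i) this.symm
  refine ⟨(∏ i, D i).roots.toFinset, fun t ht => hgood _ fun i => ?_⟩
  rw [Multiset.mem_toFinset, mem_roots hne, IsRoot.def, eval_prod, Finset.prod_eq_zero_iff] at ht
  push Not at ht
  exact hD i t ▸ ht i (Finset.mem_univ i)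

theorem mulVec_up (r : A) (x y : A) :
    (up r : Matrix (Fin 2) (Fin 2) A).mulVec ![x, y] = ![x + r * y, y] := by
  ext i; fin_cases i <;> simp [up_coe, Matrix.mulVec, dotProduct, Fin.sum_univ_two]

theorem mulVec_low (r : A) (x y : A) :
    (low r : Matrix (Fin 2) (Fin 2) A).mulVec ![x, y] = ![x, r * x + y] := by
  ext i; fin_cases i <;> simp [low_coe, Matrix.mulVec, dotProduct, Fin.sum_univ_two]

/-- The Euclidean descent. -/
theorem exists_corner_zero (hd : 1 ≤ pb.dim) {p : A} (hp : Good pb p) :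
    ∃ h ∈ gen k pb.gen, ∃ y : k, y ≠ 0 ∧
      (h : Matrix (Fin 2) (Fin 2) A).mulVec ![p, 0] = ![0, algebraMap k A y] := by
  set n := pb.dim
  set α := pb.gen
  obtain ⟨hpu, hpg⟩ := hp
  have key : ∀ i, i < n → ∃ h ∈ gen k α, ∃ P R : A,
      (h : Matrix (Fin 2) (Fin 2) A).mulVec ![p, 0] = ![p * P, α * p * R] ∧
      P ∈ degLT pb (i + 1) ∧ coeff' pb i P ≠ 0 ∧ R ∈ degLT pb (i + 1) ∧ coeff' pb i R ≠ 0 ∧
      p * P ∈ degLT pb (n - i) ∧ α * p * R ∈ degLT pb (n - i) := by
    intro i
    induction i with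
    | zero =>
      intro _
      have h1 : (1 : A) ∈ degLT pb 1 := by
        have := gen_pow_mem (pb := pb) (i := 0) (j := 1) one_pos hd
        simpa using this
      have h2 : coeff' pb 0 (1 : A) ≠ 0 := by
        have := coeff'_gen_pow (pb := pb) (i := 0) hd 0
        rw [pow_zero] at this
        rw [this]; simp
      refine ⟨low ((1 : k) • α), low_mem_gen α 1, 1, 1, ?_, h1, h2, h1, h2,
        degLT_top (by simp [n]) _, degLT_top (by simp [n]) _⟩
      rw [mulVec_low]; simp
    | succ i ih =>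
      intro hi
      obtain ⟨h, hh, P, R, hv, hP, hPt, hR, hRt, hx, hy⟩ := ih (by omega)
      have hne : ∀ {Q : A}, coeff' pb i Q ≠ 0 → Q ≠ 0 := fun hQ e => hQ (by rw [e, map_zero])
      have hm : n - i = (n - 1 - i) + 1 := by omega
      rw [hm] at hx hy
      have htx : coeff' pb (n - 1 - i) (p * P) ≠ 0 := fun e =>
        (hpg i (by omega) P hP (hne hPt)).1 (mem_degLT_of_top hx e)
      have hty : coeff' pb (n - 1 - i) (α * p * R) ≠ 0 := fun e =>
        (hpg i (by omega) R hR (hne hRt)).2 (mem_degLT_of_top hy e)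
      set a : k := coeff' pb (n - 1 - i) (p * P) / coeff' pb (n - 1 - i) (α * p * R) with ha
      have ha0 : a ≠ 0 := div_ne_zero htx hty
      set P' := P - a • (α * R) with hP'
      have hαR : α * R ∈ degLT pb (i + 2) := mul_gen_mem (by omega) hR
      have hP'm : P' ∈ degLT pb (i + 2) := sub_mem (degLT_mono (by omega) hP) (Submodule.smul_mem _ _ hαR)
      have hP't : coeff' pb (i + 1) P' ≠ 0 := by
        rw [hP', map_sub, map_smul, mem_degLT_iff.1 hP (i + 1) le_rfl,
          (coeff'_mul_gen (by omega) hR i).1, zero_sub, neg_ne_zero, smul_eq_mul]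
        exact mul_ne_zero ha0 hRt
      have hx' : p * P' = p * P - a • (α * p * R) := by
        rw [hP', mul_sub, mul_smul_comm, mul_left_comm p α R, mul_assoc α p R]
      have hx'm : p * P' ∈ degLT pb (n - 1 - i) := by
        rw [hx']
        refine mem_degLT_of_top (sub_mem hx (Submodule.smul_mem _ _ hy)) ?_
        rw [map_sub, map_smul, smul_eq_mul, ha, div_mul_cancel₀ _ hty, sub_self]
      have hx't : coeff' pb (n - 1 - (i + 1)) (p * P') ≠ 0 := fun e =>
        (hpg (i + 1) hi P' hP'm (fun e' => hP't (by rw [e', map_zero]))).1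
          (mem_degLT_of_top (by rwa [show n - 1 - (i + 1) + 1 = n - 1 - i by omega]) e)
      have hαx : α * (p * P') ∈ degLT pb (n - 1 - i + 1) := mul_gen_mem (by omega) hx'm
      have htαx : coeff' pb (n - 1 - i) (α * (p * P')) = coeff' pb (n - 1 - (i + 1)) (p * P') := by
        have := (coeff'_mul_gen (pb := pb) (by omega) hx'm (n - 1 - (i + 1))).1
        rwa [show n - 1 - (i + 1) + 1 = n - 1 - i by omega] at this
      set b : k := coeff' pb (n - 1 - i) (α * p * R) / coeff' pb (n - 1 - (i + 1)) (p * P') with hb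
      have hb0 : b ≠ 0 := div_ne_zero hty hx't
      set R' := R - b • P' with hR'
      have hR't : coeff' pb (i + 1) R' ≠ 0 := by
        rw [hR', map_sub, map_smul, mem_degLT_iff.1 hR (i + 1) le_rfl, zero_sub, neg_ne_zero,
          smul_eq_mul]
        exact mul_ne_zero hb0 hP't
      have hy' : α * p * R' = α * p * R - b • (α * (p * P')) := by
        rw [hR', mul_sub, mul_smul_comm, mul_assoc α p P']
      refine ⟨low ((-b) • α) * up (algebraMap k A (-a)) * h,
        mul_mem (mul_mem (low_mem_gen α _) (up_mem_gen α _)) hh, P', R', ?_, hP'm, hP't,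
        sub_mem (degLT_mono (by omega) hR) (Submodule.smul_mem _ _ hP'm), hR't, ?_, ?_⟩
      · rw [Matrix.SpecialLinearGroup.coe_mul, Matrix.SpecialLinearGroup.coe_mul,
          ← Matrix.mulVec_mulVec, ← Matrix.mulVec_mulVec, hv, mulVec_up, mulVec_low]
        have e1 : p * P + algebraMap k A (-a) * (α * p * R) = p * P' := by
          rw [hx', ← Algebra.smul_def, neg_smul, sub_eq_add_neg]
        rw [e1]
        congr 1
        rw [hy', smul_mul_assoc, neg_smul]
        ext j; fin_cases j; simp only [sub_eq_add_neg, add_comm]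
      · rwa [show n - (i + 1) = n - 1 - i by omega]
      · rw [show n - (i + 1) = n - 1 - i by omega, hy']
        refine mem_degLT_of_top (sub_mem hy (Submodule.smul_mem _ _ hαx)) ?_
        rw [map_sub, map_smul, smul_eq_mul, htαx, hb, div_mul_cancel₀ _ hx't, sub_self]
  obtain ⟨h, hh, P, R, hv, hP, hPt, hR, hRt, hx, hy⟩ := key (n - 1) (by omega)
  rw [show n - (n - 1) = 0 + 1 by omega] at hx hy
  have hconst : ∀ {z : A}, z ∈ degLT pb (0 + 1) → z = algebraMap k A (coeff' pb 0 z) := by
    intro z hz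
    conv_lhs => rw [eq_sum (pb := pb) z]
    rw [Finset.sum_eq_single ⟨0, hd⟩]
    · simp [Algebra.algebraMap_eq_smul_one]
    · intro b _ hb
      rw [mem_degLT_iff.1 hz b (by
        rcases Nat.eq_zero_or_pos (b : ℕ) with h | h
        · exact absurd (Fin.ext h) hb
        · omega), zero_smul]
    · simp
  have hP0 : P ≠ 0 := fun e => hPt (by rw [e, map_zero])
  have hR0 : R ≠ 0 := fun e => hRt (by rw [e, map_zero])
  have hnm : n - 1 - (n - 1) = 0 := by omega
  have htx : coeff' pb 0 (p * P) ≠ 0 := fun e =>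
    (hpg (n - 1) (by omega) P hP hP0).1 (hnm.symm ▸ mem_degLT_of_top hx e)
  have hty : coeff' pb 0 (α * p * R) ≠ 0 := fun e =>
    (hpg (n - 1) (by omega) R hR hR0).2 (hnm.symm ▸ mem_degLT_of_top hy e)
  refine ⟨up (algebraMap k A (-(coeff' pb 0 (p * P) / coeff' pb 0 (α * p * R)))) * h,
    mul_mem (up_mem_gen α _) hh, coeff' pb 0 (α * p * R), hty, ?_⟩
  rw [Matrix.SpecialLinearGroup.coe_mul, ← Matrix.mulVec_mulVec, hv, mulVec_up]
  congr 1
  · rw [hconst hy, hconst hx, ← map_mul, ← map_add]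
    simp only [← hconst hy, ← hconst hx]
    rw [show coeff' pb 0 (p * P) + -(coeff' pb 0 (p * P) / coeff' pb 0 (α * p * R)) *
      coeff' pb 0 (α * p * R) = 0 by field_simp; ring, map_zero]
  · rw [← hconst hy]

/-- **Dickson's lemma** over an infinite field. -/
theorem gen_contains_of_infinite [Infinite k] (h2 : (2 : k) ≠ 0) {α : A}
    (hα : IsUnit α) (hA : Algebra.adjoin k {α} = ⊤) (r : A) :
    up r ∈ gen k α ∧ low r ∈ gen k α := by
  classical
  rcases subsingleton_or_nontrivial A with hs | hn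
  · rw [Subsingleton.elim r 0, up_zero, low_zero]; exact ⟨one_mem _, one_mem _⟩
  let pb := PowerBasis.ofAdjoinEqTop (Algebra.IsIntegral.isIntegral (R := k) α) hA
  have hg : pb.gen = α := PowerBasis.ofAdjoinEqTop_gen _ _
  have hd : 1 ≤ pb.dim := by
    rw [← pb.finrank]; exact Module.finrank_pos
  obtain ⟨p₀, hp₀, hline⟩ := good_line (pb := pb) (hg ▸ hα) hd
  -- every good element gives a Weyl element and a new lower transvection
  have hgood : ∀ p, Good pb p → ∃ h ∈ gen k α, ∃ l : A,
      (h : Matrix (Fin 2) (Fin 2) A) 0 0 = 0 ∧ l = (h : Matrix (Fin 2) (Fin 2) A) 1 0 ∧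
      (∀ c, h * up c * h⁻¹ = low (-(l * l) * c)) ∧ ∃ y : k, y ≠ 0 ∧ l * p = algebraMap k A y := by
    intro p hp
    obtain ⟨h, hh, y, hy, hv⟩ := exists_corner_zero hd hp
    rw [hg] at hh
    have e0 := congrFun hv 0
    have e1 := congrFun hv 1
    simp [Matrix.mulVec, dotProduct, Fin.sum_univ_two] at e0 e1
    have h00 : (h : Matrix (Fin 2) (Fin 2) A) 0 0 = 0 := (hp.1.mul_left_eq_zero).1 e0
    refine ⟨h, hh, _, h00, rfl, fun c => ?_, y, hy, e1⟩
    rw [mul_inv_eq_iff_eq_mul]
    have hdet := h.2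
    rw [Matrix.det_fin_two, h00] at hdet
    apply Subtype.ext
    rw [Matrix.SpecialLinearGroup.coe_mul, Matrix.SpecialLinearGroup.coe_mul, up_coe, low_coe]
    ext i j
    fin_cases i <;> fin_cases j <;> simp [Matrix.mul_apply, Fin.sum_univ_two, h00]
    linear_combination -(c * (h : Matrix (Fin 2) (Fin 2) A) 1 0) * hdet
  obtain ⟨h₀, hh₀, l₀, -, -, hconj₀, y₀, hy₀, hl₀⟩ := hgood p₀ hp₀
  set W := lowSub (k := k) α with hW
  -- the multipliers of `W` include the squares `(p / p₀) ^ 2`
  have hmul : ∀ p, Good pb p → ∀ r ∈ W, ∀ b : A, p = p₀ * b → b * b * r ∈ W := by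
    intro p hp r hr b hb
    obtain ⟨h, hh, l, -, -, hconj, y, hy, hl⟩ := hgood p hp
    -- `h⁻¹ low(-(l l) c) h = up c`
    have hy' : IsUnit (algebraMap k A y) := (isUnit_iff_ne_zero.2 hy).map _
    obtain ⟨li, hli⟩ := (isUnit_of_mul_isUnit_left (hl ▸ hy') : IsUnit l)
    set c : A := -(((li⁻¹ : Aˣ) : A) * ((li⁻¹ : Aˣ) : A) * r) with hc
    have hlc : -(l * l) * c = r := by
      have : l * ((li⁻¹ : Aˣ) : A) = 1 := by rw [← hli]; exact li.mul_inv
      linear_combination r * (1 + l * ((li⁻¹ : Aˣ) : A)) * this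
    have hupc : up c ∈ gen k α := by
      have e : up c = h⁻¹ * low r * h := by rw [← hlc, ← hconj c]; group
      rw [e]; exact mul_mem (mul_mem (inv_mem hh) hr) hh
    have hmem : -(l₀ * l₀) * c ∈ W := by
      show low _ ∈ gen k α
      rw [← hconj₀ c]; exact mul_mem (mul_mem hh₀ hupc) (inv_mem hh₀)
    have e : b * b * r = ((y / y₀) ^ 2 : k) • (-(l₀ * l₀) * c) := by
      have hli' : algebraMap k A y * ((li⁻¹ : Aˣ) : A) = p₀ * b := by
        rw [← hl, hb, ← hli, mul_comm (li : A), mul_assoc, li.mul_inv, mul_one]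
      rw [Algebra.smul_def, map_pow]
      have hyy : algebraMap k A (y / y₀) * algebraMap k A y₀ = algebraMap k A y := by
        rw [← map_mul, div_mul_cancel₀ _ hy₀]
      have h1 : algebraMap k A (y / y₀) * l₀ * ((li⁻¹ : Aˣ) : A) = b := by
        have hy0u : IsUnit (algebraMap k A y₀) := (isUnit_iff_ne_zero.2 hy₀).map _
        refine hy0u.mul_left_cancel ?_
        calc algebraMap k A y₀ * (algebraMap k A (y / y₀) * l₀ * ((li⁻¹ : Aˣ) : A))
            = l₀ * (algebraMap k A y * ((li⁻¹ : Aˣ) : A)) := by rw [← hyy]; ring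
          _ = algebraMap k A y₀ * b := by rw [hli', ← mul_assoc, hl₀]
      calc b * b * r = (algebraMap k A (y / y₀) * l₀ * ((li⁻¹ : Aˣ) : A)) *
            (algebraMap k A (y / y₀) * l₀ * ((li⁻¹ : Aˣ) : A)) * r := by rw [h1]
        _ = algebraMap k A (y / y₀) ^ 2 * (-(l₀ * l₀) * c) := by rw [hc]; ring
    rw [e]; exact W.smul_mem _ hmem
  have hlow : ∀ b : A, low b ∈ gen k α := by
    suffices hall : ∀ b : A, ∀ r ∈ W, b * r ∈ W by
      intro b
      obtain ⟨u, hu⟩ := id hα
      have hαW : α ∈ W := by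
        show low α ∈ gen k α
        simpa using low_mem_gen (k := k) α 1
      have := hall (b * ((u⁻¹ : Aˣ) : A)) α hαW
      have e : b * ((u⁻¹ : Aˣ) : A) * α = b := by rw [← hu, mul_assoc, u.inv_mul, mul_one]
      rwa [e, hW, mem_lowSub] at this
    intro b r hr
    obtain ⟨s, hs⟩ := hline (p₀ * b)
    have hx : ∀ t ∉ s, (2 * t : k) • (b * r) + (t * t) • (b * b * r) ∈ W := by
      intro t ht
      have hm := hmul _ (hs t ht) r hr (1 + t • b) (by rw [mul_add, mul_one, mul_smul_comm])
      have e : (2 * t : k) • (b * r) + (t * t) • (b * b * r) =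
          (1 + t • b) * (1 + t • b) * r - r := by
        simp only [Algebra.smul_def, map_mul, map_ofNat]; ring
      rw [e]; exact sub_mem hm hr
    obtain ⟨t₁, ht₁⟩ := Infinite.exists_notMem_finset (insert 0 s)
    obtain ⟨t₂, ht₂⟩ := Infinite.exists_notMem_finset (insert t₁ (insert 0 s))
    simp only [Finset.mem_insert, not_or] at ht₁ ht₂
    have hc : (2 * t₁) * (t₂ * t₂) - (t₁ * t₁) * (2 * t₂) ≠ 0 := by
      have e : (2 * t₁) * (t₂ * t₂) - (t₁ * t₁) * (2 * t₂) = 2 * t₁ * t₂ * (t₂ - t₁) := by ring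
      rw [e]
      exact mul_ne_zero (mul_ne_zero (mul_ne_zero h2 ht₁.1) ht₂.2.1) (sub_ne_zero.2 ht₂.1)
    have hsum := sub_mem (W.smul_mem (t₂ * t₂) (hx t₁ ht₁.2)) (W.smul_mem (t₁ * t₁) (hx t₂ ht₂.2.2))
    have e : (t₂ * t₂) • ((2 * t₁ : k) • (b * r) + (t₁ * t₁) • (b * b * r)) -
        (t₁ * t₁) • ((2 * t₂ : k) • (b * r) + (t₂ * t₂) • (b * b * r)) =
        ((2 * t₁) * (t₂ * t₂) - (t₁ * t₁) * (2 * t₂)) • (b * r) := by module
    rw [e] at hsum
    simpa [smul_smul, inv_mul_cancel₀ hc] using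
      W.smul_mem ((2 * t₁) * (t₂ * t₂) - (t₁ * t₁) * (2 * t₂))⁻¹ hsum
  refine ⟨?_, hlow r⟩
  have e : up r = h₀⁻¹ * low (-(l₀ * l₀) * r) * h₀ := by rw [← hconj₀ r]; group
  rw [e]
  exact mul_mem (mul_mem (inv_mem hh₀) (hlow _)) hh₀

end Infinite

end CfsgLib.QP
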