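import Cfsg.Agent.QuadPairs.FiniteField
import Cfsg.Agent.Classical.Transvections
import Mathlib.RingTheory.Nilpotent.Lemmas
import Mathlib.RingTheory.Ideal.Quotient.Operations

set_option autoImplicit false
set_option linter.unusedSectionVars false

/-!
Dickson's lemma over a finite algebra `k[α]`, `α` a unit.
-/

universe u v

namespace CfsgLib.QP

open Matrix

section Ring

variable {A : Type*} [CommRing A]

theorem coe_map {B : Type*} [CommRing B] (f : A →+* B) (g : Matrix.SpecialLinearGroup (Fin 2) A)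
    (i j : Fin 2) : (Matrix.SpecialLinearGroup.map f g : Matrix (Fin 2) (Fin 2) B) i j = f (g.1 i j) := rfl

theorem map_up {B : Type*} [CommRing B] (f : A →+* B) (r : A) :
    Matrix.SpecialLinearGroup.map f (up r) = up (f r) := by
  apply Subtype.ext; ext i j; rw [coe_map]; fin_cases i <;> fin_cases j <;> simp [up_coe]

theorem map_low {B : Type*} [CommRing B] (f : A →+* B) (r : A) :
    Matrix.SpecialLinearGroup.map f (low r) = low (f r) := by
  apply Subtype.ext; ext i j; rw [coe_map]; fin_cases i <;> fin_cases j <;> simp [low_coe]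

theorem commute_up {x : A} {g : Matrix.SpecialLinearGroup (Fin 2) A} (hx : IsUnit x) :
    g * up x = up x * g ↔ g.1 1 0 = 0 ∧ g.1 0 0 = g.1 1 1 := by
  constructor
  · intro h
    have h00 := congrArg (fun m : Matrix.SpecialLinearGroup (Fin 2) A => m.1 0 0) h
    have h01 := congrArg (fun m : Matrix.SpecialLinearGroup (Fin 2) A => m.1 0 1) h
    simp [Matrix.mul_apply, Fin.sum_univ_two, up_coe] at h00 h01
    refine ⟨(hx.mul_right_eq_zero).1 h00, ?_⟩
    exact hx.mul_left_cancel (by linear_combination h01)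
  · rintro ⟨h1, h2⟩
    apply Subtype.ext
    ext i j
    fin_cases i <;> fin_cases j <;> simp [Matrix.mul_apply, Fin.sum_univ_two, up_coe, h1, h2] <;> ring

theorem commute_low {x : A} {g : Matrix.SpecialLinearGroup (Fin 2) A} (hx : IsUnit x) :
    g * low x = low x * g ↔ g.1 0 1 = 0 ∧ g.1 0 0 = g.1 1 1 := by
  constructor
  · intro h
    have h00 := congrArg (fun m : Matrix.SpecialLinearGroup (Fin 2) A => m.1 0 0) h
    have h10 := congrArg (fun m : Matrix.SpecialLinearGroup (Fin 2) A => m.1 1 0) h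
    simp [Matrix.mul_apply, Fin.sum_univ_two, low_coe] at h00 h10
    refine ⟨(hx.mul_left_eq_zero).1 h00, ?_⟩
    exact hx.mul_left_cancel (by linear_combination -h10)
  · rintro ⟨h1, h2⟩
    apply Subtype.ext
    ext i j
    fin_cases i <;> fin_cases j <;> simp [Matrix.mul_apply, Fin.sum_univ_two, low_coe, h1, h2] <;> ring

theorem up_pow (x : A) (m : ℕ) : up x ^ m = up ((m : A) * x) := by
  induction m with
  | zero => simp [up_zero]
  | succ m ih => rw [pow_succ, ih, up_mul]; push_cast; ring_nf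

theorem low_pow (x : A) (m : ℕ) : low x ^ m = low ((m : A) * x) := by
  induction m with
  | zero => simp [low_zero]
  | succ m ih => rw [pow_succ, ih, low_mul]; push_cast; ring_nf

theorem pow_coe_of_upper {g : Matrix.SpecialLinearGroup (Fin 2) A} (h : g.1 1 0 = 0) (m : ℕ) :
    (g ^ m).1 0 0 = g.1 0 0 ^ m ∧ (g ^ m).1 1 0 = 0 := by
  induction m with
  | zero => simp
  | succ m ih => constructor <;> simp only [pow_succ, Matrix.SpecialLinearGroup.coe_mul, Matrix.mul_apply, Fin.sum_univ_two, ih.1, ih.2, h, mul_zero, zero_mul, add_zero]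

theorem pow_coe_of_lower {g : Matrix.SpecialLinearGroup (Fin 2) A} (h : g.1 0 1 = 0) (m : ℕ) :
    (g ^ m).1 0 0 = g.1 0 0 ^ m ∧ (g ^ m).1 0 1 = 0 := by
  induction m with
  | zero => simp
  | succ m ih => constructor <;> simp only [pow_succ, Matrix.SpecialLinearGroup.coe_mul, Matrix.mul_apply, Fin.sum_univ_two, ih.1, ih.2, h, mul_zero, zero_mul, add_zero]

theorem one_of_sq_of_pow {a : A} {p : ℕ} (hp : Odd p) (h2 : a * a = 1) (hap : a ^ p = 1) : a = 1 := by
  obtain ⟨m, rfl⟩ := hp
  rw [pow_add, pow_mul, sq, h2, one_pow, one_mul, pow_one] at hap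
  exact hap

/-- An element of order `p` commuting with a root element lies in its root group. -/
theorem eq_up_of_commute {p : ℕ} (hp : Odd p) {g : Matrix.SpecialLinearGroup (Fin 2) A}
    (h : g * up 1 = up 1 * g) (hg : g ^ p = 1) : g = up (g.1 0 1) := by
  obtain ⟨h10, hd⟩ := (commute_up isUnit_one).1 h
  have hdet := g.2
  rw [Matrix.det_fin_two, h10, mul_zero, sub_zero, ← hd] at hdet
  have e := (pow_coe_of_upper h10 p).1
  rw [hg] at e
  simp at e
  have ha := one_of_sq_of_pow hp hdet e.symm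
  apply Subtype.ext
  ext i j
  fin_cases i <;> fin_cases j <;> simp [up_coe, h10, ha, ← hd]

theorem eq_low_of_commute {p : ℕ} (hp : Odd p) {x : A} (hx : IsUnit x)
    {g : Matrix.SpecialLinearGroup (Fin 2) A} (h : g * low x = low x * g) (hg : g ^ p = 1) :
    g = low (g.1 1 0) := by
  obtain ⟨h01, hd⟩ := (commute_low hx).1 h
  have hdet := g.2
  rw [Matrix.det_fin_two, h01, zero_mul, sub_zero, ← hd] at hdet
  have e := (pow_coe_of_lower h01 p).1
  rw [hg] at e
  simp at e
  have ha := one_of_sq_of_pow hp hdet e.symm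
  apply Subtype.ext
  ext i j
  fin_cases i <;> fin_cases j <;> simp [low_coe, h01, ha, ← hd]

theorem weyl_up {u : Aˣ} (y : A) :
    (low (u : A) * up (-((u⁻¹ : Aˣ) : A)) * low (u : A)) * up y *
      (low (u : A) * up (-((u⁻¹ : Aˣ) : A)) * low (u : A))⁻¹ = low (-((u : A) * u) * y) := by
  rw [mul_inv_eq_iff_eq_mul]
  have e := u.mul_inv
  apply Subtype.ext
  generalize (u : A) = a at e
  generalize ((u⁻¹ : Aˣ) : A) = b at e
  ext i j
  fin_cases i <;> fin_cases j <;>
    simp [Matrix.mul_apply, Fin.sum_univ_two, up_coe, low_coe] <;> grind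

end Ring

variable {k : Type u} [Field k]

theorem exists_sq_ne_one [Finite k] (h2 : (2 : k) ≠ 0) (h3 : Nat.card k ≠ 3) :
    ∃ a : k, a ≠ 0 ∧ a ^ 2 ≠ 1 := by
  classical
  by_contra h
  push Not at h
  let _ := Fintype.ofFinite k
  have hsub : (Finset.univ : Finset k) ⊆ {0, 1, -1} := by
    intro a _
    by_cases ha : a = 0
    · simp [ha]
    · rcases sq_eq_one_iff.1 (h a ha) with h' | h' <;> simp [h']
  have h1 := (Finset.card_le_card hsub).trans Finset.card_le_three
  have h11 : (1 : k) ≠ -1 := fun e => h2 (by linear_combination e)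
  have h10 : 3 ≤ Fintype.card k := by
    have : ({0, 1, -1} : Finset k).card = 3 := by
      rw [Finset.card_insert_of_notMem (by simp [h11]), Finset.card_insert_of_notMem (by simpa using h11),
        Finset.card_singleton]
    exact this ▸ Finset.card_le_univ _
  rw [Nat.card_eq_fintype_card] at h3
  rw [Finset.card_univ] at h1
  omega

theorem exists_pow_idem {A : Type*} [CommRing A] [Finite A] (x : A) :
    ∃ m, 0 < m ∧ x ^ m * x ^ m = x ^ m := by
  obtain ⟨i, j, hne, hij⟩ := Finite.exists_ne_map_eq_of_infinite (fun n : ℕ => x ^ n)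
  wlog hlt : i < j generalizing i j
  · exact this j i hne.symm hij.symm (by omega)
  replace hij : x ^ i = x ^ j := hij
  have hper : ∀ t n, i ≤ n → x ^ (n + t * (j - i)) = x ^ n := by
    intro t
    induction t with
    | zero => simp
    | succ t ih =>
      intro n hn
      rw [show n + (t + 1) * (j - i) = (n - i) + j + t * (j - i) by rw [add_mul]; omega,
        ih _ (by omega), pow_add, ← hij, ← pow_add]
      congr 1; omega
  refine ⟨(i + 1) * (j - i), Nat.mul_pos (by omega) (by omega), ?_⟩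
  rw [← pow_add]
  exact hper (i + 1) _ (le_trans (Nat.le_succ i) (Nat.le_mul_of_pos_right _ (by omega)))

/-- A subalgebra of a finite algebra containing all squares of units is everything. -/
theorem eq_top_of_sq [Finite k] (h2 : (2 : k) ≠ 0) (h3 : Nat.card k ≠ 3) {A : Type*} [CommRing A]
    [Algebra k A] [Finite A] (S : Subalgebra k A) (hS : ∀ x, IsUnit x → x * x ∈ S) (x : A) : x ∈ S := by
  obtain ⟨a, ha0, ha⟩ := exists_sq_ne_one h2 h3
  have hsc : ∀ (c : k) (y : A), c ≠ 0 → algebraMap k A c * y ∈ S → y ∈ S := fun c y hc hy => by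
    have := S.smul_mem hy c⁻¹
    rwa [Algebra.smul_def, ← mul_assoc, ← map_mul, inv_mul_cancel₀ hc, map_one, one_mul] at this
  have hnil : ∀ n : A, IsNilpotent n → n ∈ S := fun n hn => by
    have h4 := sub_mem (hS _ hn.isUnit_one_add) (hS _ hn.isUnit_one_sub)
    refine hsc 4 n (fun e => h2 ?_) ?_
    · have : (2 : k) * 2 = 0 := by linear_combination e
      simpa using this
    · rw [map_ofNat]; convert h4 using 1; ring
  have hsq : ∀ y : A, y * y ∈ S := by
    intro y
    obtain ⟨m, hm, he⟩ := exists_pow_idem y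
    obtain ⟨m, rfl⟩ : ∃ m', m = m' + 1 := ⟨m - 1, by omega⟩
    set e := y ^ (m + 1) with hee
    have hya : algebraMap k A a * algebraMap k A a⁻¹ = 1 := by
      rw [← map_mul, mul_inv_cancel₀ ha0, map_one]
    have heS : e ∈ S := by
      have hu : IsUnit (algebraMap k A a * e + (1 - e)) :=
        IsUnit.of_mul_eq_one (algebraMap k A a⁻¹ * e + (1 - e))
          (by linear_combination (e * e) * hya + (2 - algebraMap k A a - algebraMap k A a⁻¹) * he)
      refine hsc (a ^ 2 - 1) e (sub_ne_zero.2 ha) ?_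
      have := sub_mem (hS _ hu) S.one_mem
      convert this using 1
      rw [map_sub, map_one, map_pow]
      linear_combination (-(algebraMap k A a) ^ 2 + 2 * algebraMap k A a - 1) * he
    have hu : IsUnit (y * e + (1 - e)) :=
      IsUnit.of_mul_eq_one (y ^ m * e + (1 - e))
        (by linear_combination (y ^ (m + 1) + 1 - y - y ^ m + 1) * he - (e) * hee)
    have hn : IsNilpotent (y * (1 - e)) := ⟨m + 1, by
      rw [mul_pow, pow_succ (1 - e), ← hee]
      linear_combination (-(1 - e) ^ m) * he⟩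
    have := sub_mem (add_mem (hS _ hu) (mul_mem (hnil _ hn) (hnil _ hn))) (sub_mem S.one_mem heS)
    convert this using 1
    linear_combination (-2 * y * y + 2 * y - 1) * he
  refine hsc 2 x h2 ?_
  rw [map_ofNat]
  convert sub_mem (sub_mem (hsq (x + 1)) (hsq x)) S.one_mem using 1
  ring

theorem map_gen {A B : Type*} [CommRing A] [CommRing B] [Algebra k A] [Algebra k B] (f : A →ₐ[k] B)
    (α : A) : (gen k α).map (Matrix.SpecialLinearGroup.map (f : A →+* B)) = gen k (f α) := by
  rw [gen, gen, MonoidHom.map_closure]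
  congr 1
  ext g
  simp only [Set.mem_image, Set.mem_union, Set.mem_ofPred_eq]
  constructor
  · rintro ⟨_, ⟨c, rfl⟩ | ⟨c, rfl⟩, rfl⟩
    · exact Or.inl ⟨c, by rw [map_up]; simp⟩
    · exact Or.inr ⟨c, by rw [map_low]; simp⟩
  · rintro (⟨c, rfl⟩ | ⟨c, rfl⟩)
    · exact ⟨_, Or.inl ⟨c, rfl⟩, by rw [map_up]; simp⟩
    · exact ⟨_, Or.inr ⟨c, rfl⟩, by rw [map_low]; simp⟩

theorem adjoin_map {A B : Type*} [CommRing A] [CommRing B] [Algebra k A] [Algebra k B] (f : A →ₐ[k] B)
    (hf : Function.Surjective f) {α : A} (hA : Algebra.adjoin k {α} = ⊤) :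
    Algebra.adjoin k {f α} = ⊤ := by
  rw [← Set.image_singleton, ← AlgHom.map_adjoin, hA, Algebra.map_top, AlgHom.range_eq_top]
  exact hf

theorem conj_mem_of_normal_field {F : Type*} [Field F] [DecidableEq F] {p : ℕ} [CharP F p]
    (hp : Odd p) (h : ∃ x : F, x ≠ 0 ∧ x ^ 2 ≠ 1)
    (N : Subgroup (Matrix.SpecialLinearGroup (Fin 2) F)) [N.Normal]
    {g : Matrix.SpecialLinearGroup (Fin 2) F} (hg : g ∈ N) (hgz : g ∉ Subgroup.center _) :
    up (1 : F) ∈ N := by
  have hsimple : IsSimpleGroup (Matrix.ProjectiveSpecialLinearGroup (Fin 2) F) :=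
    CfsgLib.Linear.isSimpleGroup_PSL (Or.inr h)
  let q := QuotientGroup.mk' (Subgroup.center (Matrix.SpecialLinearGroup (Fin 2) F))
  have hn : (N.map q).Normal := Subgroup.Normal.map inferInstance q (QuotientGroup.mk'_surjective _)
  rcases hsimple.eq_bot_or_eq_top_of_normal _ hn with hb | ht
  · exfalso
    have : q g ∈ N.map q := ⟨g, hg, rfl⟩
    rw [hb, Subgroup.mem_bot] at this
    exact hgz ((QuotientGroup.eq_one_iff g).1 this)
  · obtain ⟨z, hz, hzq⟩ : q (up 1) ∈ N.map q := ht ▸ Subgroup.mem_top _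
    have hc : z⁻¹ * up (1 : F) ∈ Subgroup.center _ := QuotientGroup.eq.1 hzq
    have hsq : (z⁻¹ * up (1 : F)) ^ 2 = 1 := by
      obtain ⟨c, hc', hce⟩ := Matrix.SpecialLinearGroup.mem_center_iff.1 hc
      apply Subtype.ext
      rw [Matrix.SpecialLinearGroup.coe_pow, ← hce, ← map_pow]
      simp at hc'
      rw [show c ^ 2 = 1 by rcases hc' with rfl | rfl <;> simp, map_one]; rfl
    obtain ⟨j, hj⟩ : ∃ j, p + 1 = 2 * j := ⟨(p + 1) / 2, by obtain ⟨i, rfl⟩ := hp; omega⟩
    have e : up (1 : F) = z ^ (p + 1) := by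
      calc up (1 : F) = up 1 ^ (p + 1) := by rw [up_pow]; simp
        _ = (z * (z⁻¹ * up 1)) ^ (p + 1) := by rw [mul_inv_cancel_left]
        _ = z ^ (p + 1) := by
          rw [Commute.mul_pow (Subgroup.mem_center_iff.1 hc z), hj, pow_mul (z⁻¹ * up 1), hsq,
            one_pow, mul_one]
    rw [e]; exact pow_mem hz _

section Step

variable {A : Type v} [CommRing A] [Algebra k A]

/-- The `k`-subspace of the upper root group inside `gen k α`. -/
noncomputable def upSub (α : A) : Submodule k A where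
  carrier := {x | up x ∈ gen k α}
  zero_mem' := by simp [up_zero]
  add_mem' := fun {x y} hx hy => by
    show up (x + y) ∈ gen k α
    rw [← up_mul]; exact mul_mem hx hy
  smul_mem' := fun c x hx => by
    show up (c • x) ∈ gen k α
    by_cases hc : c = 0
    · simp [hc, up_zero]
    · have := dil_mem α (Units.mk0 c hc) hx
      rwa [dil_up, Units.val_mk0, ← Algebra.smul_def] at this

theorem mem_upSub {α x : A} : x ∈ upSub (k := k) α ↔ up x ∈ gen k α := Iff.rfl

theorem one_mem_upSub (α : A) : (1 : A) ∈ upSub (k := k) α := by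
  show up 1 ∈ gen k α
  simpa using up_mem_gen (k := k) α 1

theorem low_alpha_mem (α : A) : low α ∈ gen k α := by simpa using low_mem_gen (k := k) α 1

theorem low_of_up {α : A} (hα : IsUnit α) (hU : ∀ x, up x ∈ gen k α) (r : A) : low r ∈ gen k α := by
  obtain ⟨u, rfl⟩ := hα
  have hw : low (u : A) * up (-((u⁻¹ : Aˣ) : A)) * low (u : A) ∈ gen k (u : A) :=
    mul_mem (mul_mem (low_alpha_mem _) (hU _)) (low_alpha_mem _)
  have := mul_mem (mul_mem hw (hU (-(((u⁻¹ : Aˣ) : A) * ((u⁻¹ : Aˣ) : A)) * r))) (inv_mem hw)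
  rw [weyl_up] at this
  have e : -((u : A) * u) * (-(((u⁻¹ : Aˣ) : A) * ((u⁻¹ : Aˣ) : A)) * r) = r := by
    linear_combination r * ((u : A) * ((u⁻¹ : Aˣ) : A) + 1) * u.mul_inv
  rwa [e] at this

theorem exists_lift {B : Type v} [CommRing B] [Algebra k B] (f : A →ₐ[k] B) {α : A}
    {y : Matrix.SpecialLinearGroup (Fin 2) B} (hy : y ∈ gen k (f α)) :
    ∃ g ∈ gen k α, Matrix.SpecialLinearGroup.map (f : A →+* B) g = y := by
  rw [← map_gen f α] at hy
  exact hy

variable [Finite k] [Finite A]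

/-- The step with central kernel. -/
theorem step_central (h2 : (2 : k) ≠ 0) (h3 : Nat.card k ≠ 3) {α : A} (hα : IsUnit α)
    (hA : Algebra.adjoin k {α} = ⊤) {B : Type v} [CommRing B] [Algebra k B] [Finite B] (f : A →ₐ[k] B)
    (hB : ∀ x, up x ∈ gen k (f α))
    (hV : ∀ g ∈ gen k α, Matrix.SpecialLinearGroup.map (f : A →+* B) g = 1 →
      g * up 1 = up 1 * g ∧ g * low α = low α * g) (r : A) : up r ∈ gen k α := by
  obtain ⟨p, hchar⟩ := CharP.exists k
  have hp' : p.Prime := CharP.char_is_prime k p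
  have hp : Odd p := hp'.odd_of_ne_two (by rintro rfl; exact h2 (CharP.cast_eq_zero k 2))
  have hpA : ((p : ℕ) : A) = 0 := by rw [← map_natCast (algebraMap k A), CharP.cast_eq_zero, map_zero]
  have hpB : ((p : ℕ) : B) = 0 := by rw [← map_natCast f, hpA, map_zero]
  have hupp : ∀ x : A, up x ^ p = 1 := fun x => by rw [up_pow, hpA, zero_mul, up_zero]
  let mf := Matrix.SpecialLinearGroup.map (n := Fin 2) (f : A →+* B)
  have hf_up : ∀ x, mf (up x) = up (f x) := fun x => map_up _ x
  have hf_low : ∀ x, mf (low x) = low (f x) := fun x => map_low _ x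
  have hlowα := low_alpha_mem (k := k) α
  set U := upSub (k := k) α with hUdef
  have hUone : (1 : A) ∈ U := one_mem_upSub α
  have hscal : ∀ g ∈ gen k α, mf g = 1 → g.1 1 0 = 0 ∧ g.1 0 1 = 0 ∧ g.1 0 0 = g.1 1 1 := by
    intro g hg hg1
    obtain ⟨h1, h2'⟩ := hV g hg hg1
    obtain ⟨h10, hd⟩ := (commute_up isUnit_one).1 h1
    exact ⟨h10, ((commute_low hα).1 h2').1, hd⟩
  have hV2 : ∀ g ∈ gen k α, mf g = 1 → g * g = 1 := by
    intro g hg hg1
    obtain ⟨h10, h01, hd⟩ := hscal g hg hg1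
    have hdet := g.2
    rw [Matrix.det_fin_two, h10, h01, mul_zero, sub_zero, ← hd] at hdet
    apply Subtype.ext
    ext a b
    fin_cases a <;> fin_cases b <;>
      simp [Matrix.mul_apply, Fin.sum_univ_two, h10, h01, ← hd, hdet]
  have hup_unique : ∀ x ∈ U, f x = 0 → x = 0 := by
    intro x hx hx0
    have := (hscal _ hx (by rw [hf_up, hx0, up_zero])).2.1
    simpa [up_coe] using this
  have hroot : ∀ g ∈ gen k α, ∀ z ∈ gen k α,
      z ^ p = 1 → mf g * mf z = mf z * mf g → g * z = z * g := by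
    intro g hg z hz hzp he
    set c := g * z * g⁻¹ * z⁻¹ with hc
    have hck : mf c = 1 := by
      rw [hc, map_mul, map_mul, map_mul, map_inv, map_inv, he, mul_inv_cancel_right, mul_inv_cancel]
    have hcg : c ∈ gen k α := mul_mem (mul_mem (mul_mem hg hz) (inv_mem hg)) (inv_mem hz)
    have hcom : c * z = z * c := by
      obtain ⟨h10, h01, hd⟩ := hscal c hcg hck
      apply Subtype.ext
      ext a b
      fin_cases a <;> fin_cases b <;>
        simp [Matrix.mul_apply, Fin.sum_univ_two, h10, h01, ← hd, mul_comm]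
    have e1 : g * z * g⁻¹ = c * z := by rw [hc]; group
    have e2 := congrArg (· ^ p) e1
    simp only [conj_pow, hzp, mul_one, mul_inv_cancel, Commute.mul_pow hcom] at e2
    have hc1 : c = 1 := by
      obtain ⟨m, hm⟩ := hp
      rw [hm, pow_add, pow_mul, sq, hV2 c hcg hck, one_pow, one_mul, pow_one] at e2
      exact e2.symm
    rw [hc1, one_mul] at e1
    exact mul_inv_eq_iff_eq_mul.1 e1
  -- every root element lifts uniquely
  have hUsur : ∀ x, ∃ u ∈ U, f u = x := by
    intro x
    obtain ⟨g₀, hg₀, hg₀x⟩ := exists_lift f (hB x)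
    have hk₀ : mf (g₀ ^ p) = 1 := by
      rw [map_pow, show mf g₀ = up x from hg₀x, up_pow, hpB, zero_mul, up_zero]
    have hgp : (g₀ ^ (p + 1)) ^ p = 1 := by
      obtain ⟨i, hi⟩ : ∃ i, p + 1 = 2 * i := ⟨(p + 1) / 2, by obtain ⟨m, rfl⟩ := hp; omega⟩
      rw [← pow_mul, mul_comm, pow_mul, hi, pow_mul, sq, hV2 _ (pow_mem hg₀ p) hk₀, one_pow]
    have hgx : mf (g₀ ^ (p + 1)) = up x := by rw [pow_succ, map_mul, hk₀, one_mul]; exact hg₀x
    have hcom := hroot _ (pow_mem hg₀ (p + 1)) _ hUone (hupp 1)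
      (by rw [hgx, hf_up, map_one, up_mul, up_mul, add_comm])
    have e := eq_up_of_commute hp hcom hgp
    refine ⟨(g₀ ^ (p + 1)).1 0 1, ?_, ?_⟩
    · show up _ ∈ gen k α
      rw [← e]; exact pow_mem hg₀ _
    · rw [e, hf_up] at hgx
      have := congrArg (fun m : Matrix.SpecialLinearGroup (Fin 2) B => m.1 0 1) hgx
      simpa [up_coe] using this
  set W : Submodule k A := lowSub α with hWdef
  -- Weyl elements of the units
  have hweyl : ∀ u ∈ U, ∀ v ∈ W, f u * f v = -1 →
      u * v = -1 ∧ ∀ y, (y ∈ U → -(v * v) * y ∈ W) ∧ (-(v * v) * y ∈ W → y ∈ U) := by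
    intro u hu v hv huv
    set w := low v * up u * low v with hw
    have hwg : w ∈ gen k α := mul_mem (mul_mem hv hu) hv
    set g := w * up 1 * w⁻¹ with hg
    have hgg : g ∈ gen k α := mul_mem (mul_mem hwg hUone) (inv_mem hwg)
    have hgp : g ^ p = 1 := by rw [hg, conj_pow, hupp, mul_one, mul_inv_cancel]
    have hgim : mf g = low (-(f v * f v)) := by
      rw [hg, hw, map_mul, map_mul, map_inv, map_mul, map_mul, hf_low, hf_up, hf_up, map_one]
      rw [mul_inv_eq_iff_eq_mul]
      generalize f u = U' at huv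
      generalize f v = V' at huv
      apply Subtype.ext
      ext a b
      fin_cases a <;> fin_cases b <;>
        simp [Matrix.mul_apply, Fin.sum_univ_two, up_coe, low_coe] <;> grind
    have hcom := hroot g hgg _ hlowα
      (by rw [low_pow, hpA, zero_mul, low_zero])
      (by rw [hgim, hf_low, low_mul, low_mul, add_comm])
    have e := eq_low_of_commute hp hα hcom hgp
    rw [hg, mul_inv_eq_iff_eq_mul] at e
    have h01 := congrArg (fun m : Matrix.SpecialLinearGroup (Fin 2) A => m.1 0 1) e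
    have h00 := congrArg (fun m : Matrix.SpecialLinearGroup (Fin 2) A => m.1 0 0) e
    simp [hw, Matrix.mul_apply, Fin.sum_univ_two, up_coe, low_coe] at h00 h01
    have hd : 1 + u * v = 0 := by linear_combination h01
    refine ⟨by linear_combination hd, fun y => ?_⟩
    have hyc : w * up y * w⁻¹ = low (-(v * v) * y) := by
      rw [mul_inv_eq_iff_eq_mul, hw]
      apply Subtype.ext
      ext a b
      fin_cases a <;> fin_cases b <;>
        simp [Matrix.mul_apply, Fin.sum_univ_two, up_coe, low_coe] <;> grind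
    refine ⟨fun hy => ?_, fun hy => ?_⟩
    · show low _ ∈ gen k α
      rw [← hyc]; exact mul_mem (mul_mem hwg hy) (inv_mem hwg)
    · show up y ∈ gen k α
      have : up y = w⁻¹ * low (-(v * v) * y) * w := by rw [← hyc]; group
      rw [this]; exact mul_mem (mul_mem (inv_mem hwg) hy) hwg
  have hlow1 : (-1 : A) ∈ W := by
    -- the Weyl element of `α`
    obtain ⟨uα, huα⟩ := hα
    obtain ⟨u, hu, hfu⟩ := hUsur (-(f ((uα⁻¹ : Aˣ) : A)))
    have h1 := hweyl u hu α hlowα (by
      rw [hfu, neg_mul, ← map_mul, ← huα, Units.inv_mul, map_one])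
    obtain ⟨u1, hu1, hfu1⟩ := hUsur (f (((uα⁻¹ : Aˣ) : A) * ((uα⁻¹ : Aˣ) : A)))
    have h2' := (h1.2 u1).1 hu1
    have hval : f (-(α * α) * u1) = -1 := by
      rw [map_mul, hfu1, ← map_mul, ← huα]
      have := uα.mul_inv
      rw [show -((uα : A) * uα) * (((uα⁻¹ : Aˣ) : A) * ((uα⁻¹ : Aˣ) : A)) =
        -(((uα : A) * ((uα⁻¹ : Aˣ) : A)) * ((uα : A) * ((uα⁻¹ : Aˣ) : A))) by ring, this]
      simp
    have h3' := hweyl 1 hUone _ h2' (by rw [map_one, one_mul, hval])
    have hv : -(α * α) * u1 = -1 := by linear_combination h3'.1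
    rwa [hv] at h2'
  have h1 := (hweyl 1 hUone _ hlow1 (by simp)).2
  have hWU : ∀ y, y ∈ W ↔ y ∈ U := fun y => by
    constructor
    · intro hy
      have := (h1 (-y)).2 (by simpa using hy)
      simpa using U.neg_mem this
    · intro hy
      have := (h1 y).1 hy
      simpa using W.neg_mem this
  let T : Subalgebra k A :=
    { carrier := {s | ∀ y ∈ U, s * y ∈ U}
      one_mem' := fun y hy => by rwa [one_mul]
      mul_mem' := fun {a b} ha hb y hy => by rw [mul_assoc]; exact ha _ (hb y hy)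
      zero_mem' := fun y _ => by rw [zero_mul]; exact U.zero_mem
      add_mem' := fun {a b} ha hb y hy => by rw [add_mul]; exact U.add_mem (ha y hy) (hb y hy)
      algebraMap_mem' := fun c y hy => by rw [← Algebra.smul_def]; exact U.smul_mem c hy }
  have hTU : ∀ s ∈ T, s ∈ U := fun s hs => by simpa using hs 1 hUone
  have hTsur : ∀ x, x ∈ T.map f := by
    refine eq_top_of_sq h2 h3 (T.map f) ?_
    intro x hx
    obtain ⟨u, hu, hfu⟩ := hUsur x
    obtain ⟨fx, rfl⟩ := id hx
    obtain ⟨v', hv', hfv⟩ := hUsur (-((fx⁻¹ : Bˣ) : B))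
    have huv := hweyl u hu v' ((hWU v').2 hv') (by rw [hfu, hfv, mul_neg, Units.mul_inv])
    refine ⟨u * u, fun y hy => ?_, (map_mul f u u).trans (by rw [hfu])⟩
    have e : -(v' * v') * (u * u * y) = -y := by linear_combination (-y) * (u * v' - 1) * huv.1
    exact (huv.2 _).2 (e ▸ (hWU _).2 (U.neg_mem hy))
  have hUT : ∀ u ∈ U, u ∈ T := fun u hu => by
    obtain ⟨t, ht, htu⟩ := hTsur (f u)
    have := hup_unique (u - t) (U.sub_mem hu (hTU t ht)) (by
      show f (u - t) = 0
      rw [map_sub, sub_eq_zero]; exact htu.symm)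
    rw [sub_eq_zero] at this
    exact this ▸ ht
  have hαT : α ∈ T := hUT α ((hWU α).1 hlowα)
  have : r ∈ T := by
    have hr : r ∈ Algebra.adjoin k {α} := hA ▸ Algebra.mem_top
    exact Algebra.adjoin_le (Set.singleton_subset_iff.2 hαT) hr
  exact hTU r this

/-- A nilpotent layer: some non-trivial upper root element. -/
theorem start_nilpotent (h2 : (2 : k) ≠ 0) {α : A} (I : Ideal A)
    (hII : ∀ s ∈ I, ∀ t ∈ I, s * t = 0) {g : Matrix.SpecialLinearGroup (Fin 2) A} (hg : g ∈ gen k α)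
    (ha : g.1 0 0 - 1 ∈ I) (hb : g.1 0 1 ∈ I) (hc : g.1 1 0 ∈ I) (hd : g.1 1 1 - 1 ∈ I)
    (hgc : g * up 1 = up 1 * g → ¬ g * low α = low α * g) : ∃ s ∈ I, s ≠ 0 ∧ up s ∈ gen k α := by
  have hUone : up (1 : A) ∈ gen k α := one_mem_upSub α
  have h2u : ∀ x : A, 2 * x = 0 → x = 0 := fun x hx => by
    have : algebraMap k A 2 * x = 0 := by rw [map_ofNat]; exact hx
    exact ((isUnit_iff_ne_zero.2 h2).map (algebraMap k A)).mul_right_eq_zero.1 this
  have hdet := g.2
  rw [Matrix.det_fin_two] at hdet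
  set c := g.1 1 0 with hcd
  set a := g.1 0 0 - 1 with had
  set b := g.1 0 1 with hbd
  set d := g.1 1 1 - 1 with hdd
  have had' : a + d = 0 := by
    rw [had, hdd]
    linear_combination hdet - hII _ ha _ hd + hII _ hb _ hc
  have hge : g.1 = !![1 + a, b; c, 1 + d] := by
    ext i l; fin_cases i <;> fin_cases l <;> simp [had, hdd, hbd, hcd]
  clear_value a b c d
  obtain ⟨x1, hx1⟩ : ∃ x1, x1 = up 1 * g * (up 1)⁻¹ * g⁻¹ := ⟨_, rfl⟩
  have hx1g : x1 ∈ gen k α := hx1 ▸ mul_mem (mul_mem (mul_mem hUone hg) (inv_mem hUone)) (inv_mem hg)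
  have hx1e : x1.1 = !![1 + c, d - a - c; 0, 1 - c] := by
    have h0 : x1 * (g * up 1) = up 1 * g := by rw [hx1]; group
    have h : (x1 * (g * up 1)).1 = (up 1 * g).1 := congrArg Subtype.val h0
    have hi : IsUnit (g * up (1 : A)).1 :=
      (Matrix.isUnit_iff_isUnit_det _).2 (by rw [(g * up (1 : A)).2]; exact isUnit_one)
    refine hi.mul_right_cancel ?_
    rw [← Matrix.SpecialLinearGroup.coe_mul, h, Matrix.SpecialLinearGroup.coe_mul,
      Matrix.SpecialLinearGroup.coe_mul, hge, up_coe]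
    have h1 := hII _ hc _ ha; have h2' := hII _ hc _ hb; have h3' := hII _ hc _ hc; have h4 := hII _ hc _ hd
    have h5 := hII _ hd _ ha; have h6 := hII _ hd _ hb; have h7 := hII _ hd _ hc; have h8 := hII _ hd _ hd
    have h9 := hII _ ha _ ha; have h10 := hII _ ha _ hb; have h11 := hII _ ha _ hc
    ext i l
    fin_cases i <;> fin_cases l <;> simp [Matrix.mul_apply, Fin.sum_univ_two] <;> grind
  by_cases hc0 : c = 0
  · by_cases hda : d - a = 0
    · have ha0 : a = 0 := h2u a (by linear_combination had' - hda)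
      have hd0 : d = 0 := by linear_combination had' - ha0
      have hg2 : g = up b := Subtype.ext (by rw [hge, up_coe, ha0, hd0, hc0]; simp)
      refine ⟨b, hb, fun hb0 => ?_, hg2 ▸ hg⟩
      rw [hg2, hb0, up_zero] at hgc
      simp at hgc
    · refine ⟨d - a, sub_mem hd ha, hda, ?_⟩
      have : up (d - a) = x1 := Subtype.ext (by rw [hx1e, hc0]; simp [up_coe])
      rw [this]; exact hx1g
  · refine ⟨-(2 * c), neg_mem (I.mul_mem_left 2 hc), fun e => hc0 (h2u c (neg_eq_zero.1 e)), ?_⟩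
    have h : up (-(2 * c)) * x1 * up 1 = up 1 * x1 := by
      apply Subtype.ext
      rw [Matrix.SpecialLinearGroup.coe_mul, Matrix.SpecialLinearGroup.coe_mul,
        Matrix.SpecialLinearGroup.coe_mul, hx1e, up_coe, up_coe]
      have h1 := hII _ hc _ hc
      ext i l
      fin_cases i <;> fin_cases l <;> simp [Matrix.mul_apply, Fin.sum_univ_two] <;> grind
    have : up (-(2 * c)) = up 1 * x1 * (up 1)⁻¹ * x1⁻¹ := by rw [← h]; group
    rw [this]
    exact mul_mem (mul_mem (mul_mem hUone hx1g) (inv_mem hUone)) (inv_mem hx1g)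

theorem eq_of_sep {B F : Type v} [CommRing B] [Algebra k B] [CommRing F] [Algebra k F] (f : A →ₐ[k] B)
    (f' : A →ₐ[k] F) (hsep : ∀ x, f x = 0 → f' x = 0 → x = 0)
    {g h : Matrix.SpecialLinearGroup (Fin 2) A}
    (h1 : Matrix.SpecialLinearGroup.map (f : A →+* B) g = Matrix.SpecialLinearGroup.map (f : A →+* B) h)
    (h2 : Matrix.SpecialLinearGroup.map (f' : A →+* F) g = Matrix.SpecialLinearGroup.map (f' : A →+* F) h) :
    g = h := by
  apply Subtype.ext
  ext a b
  refine sub_eq_zero.1 (hsep _ ?_ ?_)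
  · rw [map_sub, sub_eq_zero]
    exact congrArg (fun m : Matrix.SpecialLinearGroup (Fin 2) B => m.1 a b) h1
  · rw [map_sub, sub_eq_zero]
    exact congrArg (fun m : Matrix.SpecialLinearGroup (Fin 2) F => m.1 a b) h2

/-- An idempotent layer: some non-trivial upper root element. -/
theorem start_idem {p : ℕ} (hp : Odd p) (hsq : ∃ x : k, x ≠ 0 ∧ x ^ 2 ≠ 1) [CharP k p]
    {α : A} {B F : Type v} [CommRing B] [Algebra k B] [Field F] [Algebra k F] (f : A →ₐ[k] B)
    (f' : A →ₐ[k] F) (hsep : ∀ x, f x = 0 → f' x = 0 → x = 0) (hF : ∀ x, up x ∈ gen k (f' α))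
    (hαF : IsUnit (f' α)) {e : A} (he : f e = 0) (he' : f' e = 1)
    {g : Matrix.SpecialLinearGroup (Fin 2) A} (hg : g ∈ gen k α)
    (hgk : Matrix.SpecialLinearGroup.map (f : A →+* B) g = 1)
    (hgc : g * up 1 = up 1 * g → ¬ g * low α = low α * g) : up e ∈ gen k α := by
  classical
  have : CharP F p := ((algebraMap k F).charP_iff (algebraMap k F).injective p).1 inferInstance
  obtain ⟨a, ha0, ha⟩ := hsq
  have hsqF : ∃ x : F, x ≠ 0 ∧ x ^ 2 ≠ 1 := ⟨algebraMap k F a, (map_ne_zero _).2 ha0, fun e => ha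
    ((algebraMap k F).injective (by rw [map_pow, e, map_one]))⟩
  let mf := Matrix.SpecialLinearGroup.map (n := Fin 2) (f : A →+* B)
  let mf' := Matrix.SpecialLinearGroup.map (n := Fin 2) (f' : A →+* F)
  let Kr : Subgroup (Matrix.SpecialLinearGroup (Fin 2) A) := gen k α ⊓ mf.ker
  have hgen' : gen k (f' α) = ⊤ := by
    rw [eq_top_iff, ← CfsgLib.SL2Pair.sup_eq_top]
    refine sup_le (fun x hx => ?_) (fun x hx => ?_)
    · obtain ⟨c, rfl⟩ := CfsgLib.SL2Pair.mem_lower.1 hx
      exact low_of_up hαF hF c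
    · obtain ⟨c, rfl⟩ := CfsgLib.SL2Pair.mem_upper.1 hx
      exact hF c
  have : (Kr.map mf').Normal := by
    refine ⟨?_⟩
    rintro _ ⟨x, hx, rfl⟩ y
    obtain ⟨y, hy, rfl⟩ := exists_lift f' (α := α) (show y ∈ gen k (f' α) by rw [hgen']; exact Subgroup.mem_top y)
    exact ⟨y * x * y⁻¹, ⟨(gen k α).mul_mem ((gen k α).mul_mem hy hx.1) ((gen k α).inv_mem hy), (MonoidHom.normal_ker mf).conj_mem x hx.2 y⟩,
      by simp [mf']⟩
  have hnc : mf' g ∉ Subgroup.center (Matrix.SpecialLinearGroup (Fin 2) F) := by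
    intro hz
    have key : ∀ z ∈ gen k α, g * z = z * g := fun z _ => by
      refine eq_of_sep f f' hsep ?_ ?_
      · rw [map_mul, map_mul, hgk, mul_one, one_mul]
      · rw [map_mul, map_mul]; exact (Subgroup.mem_center_iff.1 hz (mf' z)).symm
    exact hgc (key _ (one_mem_upSub α)) (key _ (low_alpha_mem α))
  obtain ⟨h, ⟨hh, hhk⟩, hhe⟩ := conj_mem_of_normal_field hp hsqF (Kr.map mf') ⟨g, ⟨hg, hgk⟩, rfl⟩ hnc
  have : up e = h := by
    refine eq_of_sep f f' hsep ?_ ?_
    · rw [map_up, show mf h = 1 from hhk]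
      show up (f e) = 1
      rw [he, up_zero]
    · rw [map_up]
      show up (f' e) = mf' h
      rw [he', hhe]
  rw [this]; exact hh

/-- The layer `A j` is filled by the root groups. -/
theorem layer_full (h2 : (2 : k) ≠ 0) (h3 : Nat.card k ≠ 3) {α : A} {F : Type v} [CommRing F]
    [Algebra k F] [Finite F] (f' : A →ₐ[k] F) (hfs' : Function.Surjective f')
    (hαF : IsUnit (f' α)) (hF : ∀ x, up x ∈ gen k (f' α)) {j : A}
    (hJ : ∀ x, f' x = 0 → x * j = 0) {c₀ z : A} (hs : up (c₀ * j) ∈ gen k α) (hz : z * (c₀ * j) = j)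
    (c : A) : up (c * j) ∈ gen k α ∧ low (c * j) ∈ gen k α := by
  have hconj : ∀ (X : Matrix.SpecialLinearGroup (Fin 2) A) (y : A) (Y : Matrix (Fin 2) (Fin 2) A),
      (∀ a b, f' (X.1 a b) = f' (Y a b)) → ∀ a b, X.1 a b * (y * j) = Y a b * (y * j) := by
    intro X y Y hXY a b
    have := hJ (X.1 a b - Y a b) (by rw [map_sub, hXY, sub_self])
    linear_combination y * this
  have hlow := low_of_up hαF hF
  let T : Subalgebra k A :=
    { carrier := {t | ∀ y, up (y * j) ∈ gen k α → up (t * y * j) ∈ gen k α}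
      one_mem' := fun y hy => by rwa [one_mul]
      mul_mem' := fun {a b} ha hb y hy => by rw [mul_assoc a b]; exact ha _ (hb y hy)
      zero_mem' := fun y _ => by rw [zero_mul, zero_mul, up_zero]; exact one_mem _
      add_mem' := fun {a b} ha hb y hy => by
        rw [add_mul, add_mul, ← up_mul]; exact mul_mem (ha y hy) (hb y hy)
      algebraMap_mem' := fun c y hy => by
        rw [mul_assoc, ← Algebra.smul_def]; exact (upSub (k := k) α).smul_mem c hy }
  have hTtop : ∀ x, x ∈ T := by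
    intro x
    obtain ⟨t, ht, hte⟩ := eq_top_of_sq h2 h3 (T.map f') (fun w hw => by
      obtain ⟨w, rfl⟩ := id hw
      obtain ⟨t, ht⟩ := hfs' (w : F)
      obtain ⟨t', ht'⟩ := hfs' ((w⁻¹ : Fˣ) : F)
      refine ⟨t * t, fun y hy => ?_, (map_mul f' t t).trans (by rw [ht])⟩
      obtain ⟨d, hdg, hde'⟩ := exists_lift f' (α := α)
        (y := (low (-((w⁻¹ : Fˣ) : F)) * up (w : F) * low (-((w⁻¹ : Fˣ) : F))) * (low 1 * up (-1) * low 1))
        (mul_mem (mul_mem (mul_mem (hlow _) (hF _)) (hlow _)) (mul_mem (mul_mem (hlow _) (hF _)) (hlow _)))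
      have hde : ∀ a b, f' (d.1 a b) = f' ((!![t, 0; 0, t'] : Matrix (Fin 2) (Fin 2) A) a b) := by
        intro a b
        have h := congrArg (fun m : Matrix.SpecialLinearGroup (Fin 2) F => m.1 a b) hde'
        refine h.trans ?_
        have := w.mul_inv
        fin_cases a <;> fin_cases b <;>
          simp [Matrix.mul_apply, Fin.sum_univ_two, up_coe, low_coe, ht, ht'] <;> grind
      have h00 := hconj d y _ hde 0 0
      have h10 := hconj d y _ hde 1 0
      have h11 := hconj d y _ hde 1 1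
      simp at h00 h10 h11
      have htt : t * t' * (y * j) = y * j := by
        have : (t * t' - 1) * j = 0 := hJ _ (by rw [map_sub, map_mul, ht, ht', Units.mul_inv, map_one, sub_self])
        linear_combination y * this
      have e : d * up (y * j) = up (t * t * y * j) * d := by
        apply Subtype.ext
        ext a b
        fin_cases a <;> fin_cases b <;> simp [Matrix.mul_apply, Fin.sum_univ_two, up_coe] <;> grind
      rw [eq_mul_inv_of_mul_eq e.symm]
      exact mul_mem (mul_mem hdg hy) (inv_mem hdg)) (f' x)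
    have : x - t ∈ T := fun y _ => by
      have h0 := hJ (x - t) (by rw [map_sub]; exact sub_eq_zero.2 hte.symm)
      rw [show (x - t) * y * j = 0 by linear_combination y * h0, up_zero]
      exact one_mem _
    simpa using T.add_mem this ht
  have hup : ∀ c, up (c * j) ∈ gen k α := fun c => by
    have := hTtop (c * z) c₀ hs
    rwa [show c * z * c₀ * j = c * (z * (c₀ * j)) by ring, hz] at this
  refine ⟨hup c, ?_⟩
  obtain ⟨d, hdg, hde'⟩ := exists_lift f' (α := α) (y := low 1 * up (-1) * low 1)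
    (mul_mem (mul_mem (hlow _) (hF _)) (hlow _))
  have hde : ∀ a b, f' (d.1 a b) = f' ((!![0, -1; 1, 0] : Matrix (Fin 2) (Fin 2) A) a b) := by
    intro a b
    have h := congrArg (fun m : Matrix.SpecialLinearGroup (Fin 2) F => m.1 a b) hde'
    refine h.trans ?_
    fin_cases a <;> fin_cases b <;> simp [Matrix.mul_apply, Fin.sum_univ_two, up_coe, low_coe]
  have h00 := hconj d c _ hde 0 0
  have h10 := hconj d c _ hde 1 0
  have h01 := hconj d c _ hde 0 1
  have h11 := hconj d c _ hde 1 1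
  simp at h00 h10 h01 h11
  have e : d * up (-c * j) = low (c * j) * d := by
    apply Subtype.ext
    ext a b
    fin_cases a <;> fin_cases b <;> simp [Matrix.mul_apply, Fin.sum_univ_two, up_coe, low_coe] <;> grind
  rw [eq_mul_inv_of_mul_eq e.symm]
  exact mul_mem (mul_mem hdg (hup _)) (inv_mem hdg)

/-- The kernel of a nilpotent layer. -/
theorem kernel_nilpotent {α : A} {F : Type v} [CommRing F] [Algebra k F]
    (f' : A →ₐ[k] F) (hlowF : low (1 : F) ∈ gen k (f' α)) (I : Ideal A)
    (hJI : ∀ x, f' x = 0 → ∀ s ∈ I, x * s = 0)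
    (hII : ∀ s ∈ I, ∀ t ∈ I, s * t = 0) (hIU : ∀ s ∈ I, up s ∈ gen k α) (hIW : ∀ s ∈ I, low s ∈ gen k α)
    {q : Matrix.SpecialLinearGroup (Fin 2) A}
    (ha : q.1 0 0 - 1 ∈ I) (hb : q.1 0 1 ∈ I) (hc : q.1 1 0 ∈ I) (hd : q.1 1 1 - 1 ∈ I) :
    q ∈ gen k α := by
  obtain ⟨l1, hl1, el1⟩ := exists_lift f' hlowF
  have hdet := q.2
  rw [Matrix.det_fin_two] at hdet
  set a := q.1 0 0 - 1 with had
  have hent : ∀ i l, l1.1 i l * a = (!![1, 0; 1, 1] : Matrix (Fin 2) (Fin 2) A) i l * a := by
    intro i l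
    refine sub_eq_zero.1 ?_
    rw [← sub_mul]
    refine hJI _ ?_ a ha
    rw [map_sub, sub_eq_zero]
    have h := congrArg (fun m : Matrix.SpecialLinearGroup (Fin 2) F => m.1 i l) el1
    refine h.trans ?_
    fin_cases i <;> fin_cases l <;> simp [low_coe]
  have h00 := hent 0 0
  have h10 := hent 1 0
  have h01 := hent 0 1
  have h11 := hent 1 1
  simp at h00 h10 h01 h11
  have hdiag : (l1 * up (-a) * l1⁻¹).1 = !![1 + a, -a; a, 1 - a] := by
    have hi : IsUnit l1.1 := (Matrix.isUnit_iff_isUnit_det _).2 (by rw [l1.2]; exact isUnit_one)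
    refine hi.mul_right_cancel ?_
    rw [← Matrix.SpecialLinearGroup.coe_mul, inv_mul_cancel_right, Matrix.SpecialLinearGroup.coe_mul]
    ext i l
    fin_cases i <;> fin_cases l <;> simp [Matrix.mul_apply, Fin.sum_univ_two, up_coe] <;> grind
  have hq' : q = low (q.1 1 0 - a) * (l1 * up (-a) * l1⁻¹) * up (a + q.1 0 1) := by
    apply Subtype.ext
    rw [Matrix.SpecialLinearGroup.coe_mul (low (q.1 1 0 - a) * _), Matrix.SpecialLinearGroup.coe_mul, hdiag]
    have h1 := hII _ ha _ ha; have h2' := hII _ ha _ hb; have h3' := hII _ ha _ hc; have h4 := hII _ hc _ hb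
    have h5 := hII _ ha _ hd; have h6 := hII _ hb _ hc
    ext i l
    fin_cases i <;> fin_cases l <;> simp [Matrix.mul_apply, Fin.sum_univ_two, up_coe, low_coe] <;> grind
  rw [hq']
  exact mul_mem (mul_mem (hIW _ (sub_mem hc ha))
    (mul_mem (mul_mem hl1 (hIU _ (I.neg_mem ha))) (inv_mem hl1))) (hIU _ (add_mem ha hb))

/-- The kernel of an idempotent layer. -/
theorem kernel_idem {α : A} {B F : Type v} [CommRing B] [Algebra k B] [CommRing F] [Algebra k F]
    (f : A →ₐ[k] B) (f' : A →ₐ[k] F) (hsep : ∀ x, f x = 0 → f' x = 0 → x = 0) {e : A} (he : f e = 0)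
    (he' : f' e = 1) (hU : ∀ c, up (c * e) ∈ gen k α) (hW : ∀ c, low (c * e) ∈ gen k α)
    {q : Matrix.SpecialLinearGroup (Fin 2) A} (hq : Matrix.SpecialLinearGroup.map (f : A →+* B) q = 1)
    (hq' : Matrix.SpecialLinearGroup.map (f' : A →+* F) q ∈ gen k (f' α)) : q ∈ gen k α := by
  let mf := Matrix.SpecialLinearGroup.map (n := Fin 2) (f : A →+* B)
  let mf' := Matrix.SpecialLinearGroup.map (n := Fin 2) (f' : A →+* F)
  have hsurj : gen k (f' α) ≤ (gen k α ⊓ mf.ker).map mf' := by
    rw [gen, Subgroup.closure_le]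
    rintro _ (⟨c, rfl⟩ | ⟨c, rfl⟩)
    · refine ⟨up (algebraMap k A c * e), ⟨hU _, ?_⟩, ?_⟩
      · show mf _ = 1
        rw [map_up]
        show up (f _) = 1
        rw [map_mul, he, mul_zero, up_zero]
      · rw [map_up]
        show up (f' _) = _
        rw [map_mul, he', mul_one, AlgHom.commutes]
    · refine ⟨low (c • α * e), ⟨hW _, ?_⟩, ?_⟩
      · show mf _ = 1
        rw [map_low]
        show low (f _) = 1
        rw [map_mul, he, mul_zero, low_zero]
      · rw [map_low]
        show low (f' _) = _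
        rw [map_mul, he', mul_one, map_smul]
  obtain ⟨h, ⟨hh, hhk⟩, hhe⟩ := hsurj hq'
  rw [eq_of_sep f f' hsep (hq.trans (MonoidHom.mem_ker.1 hhk).symm) hhe.symm]
  exact hh

end Step

/-- Dickson's lemma for finite algebras. -/
theorem gen_contains_of_finite [Finite k] (h2 : (2 : k) ≠ 0) (h3 : Nat.card k ≠ 3) :
    ∀ (A : Type v) [CommRing A] [Algebra k A] [Finite A] (α : A), IsUnit α →
      Algebra.adjoin k {α} = ⊤ → ∀ r : A, up r ∈ gen k α ∧ low r ∈ gen k α := by
  classical
  suffices hup : ∀ (N : ℕ) (A : Type v) [CommRing A] [Algebra k A] [Finite A], Nat.card A = N →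
      ∀ α : A, IsUnit α → Algebra.adjoin k {α} = ⊤ → ∀ r : A, up r ∈ gen k α by
    intro A _ _ _ α hα hA r
    exact ⟨hup _ A rfl α hα hA r, low_of_up hα (hup _ A rfl α hα hA) r⟩
  intro N
  induction N using Nat.strong_induction_on with
  | _ N ih =>
  intro A _ _ _ hN α hα hA r
  rcases subsingleton_or_nontrivial A with hs | hnt
  · rw [Subsingleton.elim r 0, up_zero]; exact one_mem _
  obtain ⟨p, hchar⟩ := CharP.exists k
  have hp' : p.Prime := CharP.char_is_prime k p
  have hp : Odd p := hp'.odd_of_ne_two (by rintro rfl; exact h2 (CharP.cast_eq_zero k 2))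
  -- a minimal principal ideal
  obtain ⟨j, hj, hjmin⟩ := Finset.exists_min_image
    ((Set.toFinite {x : A | x ≠ 0}).toFinset) (fun x => Nat.card (Ideal.span {x} : Ideal A))
    ⟨1, by simp⟩
  simp only [Set.Finite.mem_toFinset, Set.mem_ofPred_eq] at hj hjmin
  have hmin : ∀ x : A, x * j ≠ 0 → ∃ s, s * (x * j) = j := by
    intro x hx
    have hle : (Ideal.span {x * j} : Ideal A) ≤ Ideal.span {j} :=
      Ideal.span_singleton_le_span_singleton.2 (dvd_mul_left j x)
    have heq : (Ideal.span {x * j} : Ideal A) = Ideal.span {j} :=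
      SetLike.coe_injective (Set.eq_of_subset_of_ncard_le hle
        (by rw [← Nat.card_coe_set_eq, ← Nat.card_coe_set_eq]; exact hjmin _ hx) (Set.toFinite _))
    exact Ideal.mem_span_singleton'.1 (heq ▸ Ideal.mem_span_singleton_self j)
  set J : Ideal A := LinearMap.ker (LinearMap.toSpanSingleton A A j) with hJdef
  have hJ : ∀ x, x ∈ J ↔ x * j = 0 := fun x => by rw [hJdef, LinearMap.mem_ker]; rfl
  by_cases hJ0 : J = ⊥
  · have hF : IsField A := ⟨⟨0, 1, zero_ne_one⟩, mul_comm, fun {a} ha => by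
      have : a * j ≠ 0 := fun e => ha (by simpa [hJ0] using (hJ a).2 e)
      obtain ⟨s, hs⟩ := hmin a this
      refine ⟨s, ?_⟩
      have : (a * s - 1) * j = 0 := by linear_combination hs
      have h0 : a * s - 1 ∈ J := (hJ _).2 this
      rw [hJ0, Submodule.mem_bot, sub_eq_zero] at h0
      exact h0⟩
    let _ : Field A := hF.toField
    exact (gen_contains_of_field h2 h3 hα.ne_zero hA r).1
  set I : Ideal A := Ideal.span {j} with hIdef
  have hI0 : I ≠ ⊥ := by rw [hIdef, Ne, Ideal.span_singleton_eq_bot]; exact hj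
  have hjI : j ∈ I := Ideal.mem_span_singleton_self j
  have hfinq : ∀ L : Ideal A, Finite (A ⧸ L) := fun L => Finite.of_surjective _ Ideal.Quotient.mk_surjective
  have hlt : ∀ L : Ideal A, L ≠ ⊥ → Nat.card (A ⧸ L) < N := by
    intro L hL
    have := hfinq L
    rw [← hN]
    have := Fintype.ofFinite A
    have := Fintype.ofFinite (A ⧸ L)
    rw [Nat.card_eq_fintype_card, Nat.card_eq_fintype_card]
    refine Fintype.card_lt_of_surjective_not_injective _ Ideal.Quotient.mk_surjective fun hi => hL ?_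
    rw [← Ideal.mk_ker (I := L), RingHom.ker_eq_bot_iff_eq_zero]
    exact fun x hx => hi (hx.trans (map_zero _).symm)
  let f : A →ₐ[k] A ⧸ I := Ideal.Quotient.mkₐ k I
  let f' : A →ₐ[k] A ⧸ J := Ideal.Quotient.mkₐ k J
  have hfs : Function.Surjective f := Ideal.Quotient.mkₐ_surjective k I
  have hfs' : Function.Surjective f' := Ideal.Quotient.mkₐ_surjective k J
  have hf0 : ∀ {x}, f x = 0 ↔ x ∈ I := fun {x} => Ideal.Quotient.eq_zero_iff_mem
  have hf0' : ∀ {x}, f' x = 0 ↔ x ∈ J := fun {x} => Ideal.Quotient.eq_zero_iff_mem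
  have := hfinq I
  have := hfinq J
  let mf := Matrix.SpecialLinearGroup.map (n := Fin 2) (f : A →+* A ⧸ I)
  have hIq := ih _ (hlt I hI0) (A ⧸ I) rfl (f α) (hα.map f) (adjoin_map f hfs hA)
  have hJq := ih _ (hlt J hJ0) (A ⧸ J) rfl (f' α) (hα.map f') (adjoin_map f' hfs' hA)
  by_cases hV : ∀ g ∈ gen k α, mf g = 1 → g * up 1 = up 1 * g ∧ g * low α = low α * g
  · exact step_central h2 h3 hα hA f hIq hV r
  push Not at hV
  obtain ⟨g, hg, hgk, hgc⟩ := hV
  have hent : ∀ {q : Matrix.SpecialLinearGroup (Fin 2) A}, mf q = 1 →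
      q.1 0 0 - 1 ∈ I ∧ q.1 0 1 ∈ I ∧ q.1 1 0 ∈ I ∧ q.1 1 1 - 1 ∈ I := by
    intro q hq
    have h := fun a b => congrArg (fun m : Matrix.SpecialLinearGroup (Fin 2) (A ⧸ I) => m.1 a b) hq
    refine ⟨?_, ?_, ?_, ?_⟩ <;> rw [← hf0]
    · rw [map_sub, map_one, sub_eq_zero]; exact h 0 0
    · exact h 0 1
    · exact h 1 0
    · rw [map_sub, map_one, sub_eq_zero]; exact h 1 1
  have hJI : ∀ x, f' x = 0 → ∀ s ∈ I, x * s = 0 := by
    intro x hx s hs
    obtain ⟨c, rfl⟩ := Ideal.mem_span_singleton'.1 hs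
    linear_combination c * (hJ x).1 (hf0'.1 hx)
  obtain ⟨g₀, hg₀, hg₀e⟩ := exists_lift f (hIq (f r))
  set q := g₀⁻¹ * up r with hq
  have hqk : mf q = 1 := by
    rw [hq, map_mul, map_inv, show mf g₀ = up (f r) from hg₀e, show mf (up r) = up (f r) from map_up _ r,
      inv_mul_cancel]
  suffices q ∈ gen k α by
    have := mul_mem hg₀ this
    rwa [hq, mul_inv_cancel_left] at this
  by_cases hjj : j * j = 0
  · have hII : ∀ s ∈ I, ∀ t ∈ I, s * t = 0 := by
      intro s hs t ht
      obtain ⟨c, rfl⟩ := Ideal.mem_span_singleton'.1 hs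
      obtain ⟨d, rfl⟩ := Ideal.mem_span_singleton'.1 ht
      linear_combination c * d * hjj
    obtain ⟨ha, hb, hc, hd⟩ := hent hgk
    obtain ⟨s, hsI, hs0, hsU⟩ := start_nilpotent h2 I hII hg ha hb hc hd hgc
    obtain ⟨c₀, rfl⟩ := Ideal.mem_span_singleton'.1 hsI
    obtain ⟨z, hz⟩ := hmin c₀ hs0
    have hfull := layer_full h2 h3 f' hfs' (hα.map f') hJq (fun x hx => (hJ x).1 (hf0'.1 hx)) hsU hz
    obtain ⟨qa, qb, qc, qd⟩ := hent hqk
    refine kernel_nilpotent f' (low_of_up (hα.map f') hJq 1) I hJI hII ?_ ?_ qa qb qc qd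
    · intro s hs; obtain ⟨c, rfl⟩ := Ideal.mem_span_singleton'.1 hs; exact (hfull c).1
    · intro s hs; obtain ⟨c, rfl⟩ := Ideal.mem_span_singleton'.1 hs; exact (hfull c).2
  · obtain ⟨ε, hε⟩ := hmin j hjj
    have hsep : ∀ x, f x = 0 → f' x = 0 → x = 0 := by
      intro x hx hx'
      obtain ⟨c, rfl⟩ := Ideal.mem_span_singleton'.1 (hf0.1 hx)
      have := (hJ _).1 (hf0'.1 hx')
      linear_combination ε * this - c * hε
    have he : f (ε * j) = 0 := hf0.2 (Ideal.mul_mem_left _ _ hjI)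
    have he' : f' (ε * j) = 1 := by
      rw [← map_one f', ← sub_eq_zero, ← map_sub, hf0', hJ]
      linear_combination hε
    have hJfield : IsField (A ⧸ J) := by
      refine ⟨⟨0, 1, ?_⟩, mul_comm, ?_⟩
      · intro e
        have h1 : (1 : A) ∈ J := hf0'.1 (by rw [map_one]; exact e.symm)
        exact hj (by simpa using (hJ _).1 h1)
      · intro x hx
        obtain ⟨x, rfl⟩ := hfs' x
        obtain ⟨s, hs⟩ := hmin x (fun e => hx (hf0'.2 ((hJ x).2 e)))
        refine ⟨f' s, ?_⟩
        rw [← map_mul, ← map_one f', ← sub_eq_zero, ← map_sub, hf0', hJ]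
        linear_combination hs
    have hstart : up (ε * j) ∈ gen k α := by
      let _ : Field (A ⧸ J) := hJfield.toField
      exact start_idem hp (exists_sq_ne_one h2 h3) f f' hsep hJq (hα.map f') he he' hg hgk hgc
    have hfull := layer_full h2 h3 f' hfs' (hα.map f') hJq (fun x hx => (hJ x).1 (hf0'.1 hx)) hstart
      (z := j) (by linear_combination hε)
    refine kernel_idem f f' hsep he he' (fun c => ?_) (fun c => ?_) hqk ?_
    · rw [← mul_assoc]; exact (hfull _).1
    · rw [← mul_assoc]; exact (hfull _).2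
    · rw [hq, map_mul, map_inv, map_up]
      exact mul_mem (inv_mem (map_gen f' α ▸ ⟨g₀, hg₀, rfl⟩)) (hJq _)

end CfsgLib.QP
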