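import Cfsg.Agent.QuadPairs.GenericSL2
import Cfsg.Agent.QuadPairs.FiniteAlg

set_option autoImplicit false

/-!
Dickson's lemma: `up(k)` and `low(k α)` generate every root element over `k[α]`.
-/

universe u v

namespace CfsgLib.QP

theorem gen_contains {k : Type u} [Field k] (h2 : (2 : k) ≠ 0) (h3 : Nat.card k ≠ 3) {A : Type v}
    [CommRing A] [Algebra k A] [FiniteDimensional k A] {α : A} (hα : IsUnit α)
    (hA : Algebra.adjoin k {α} = ⊤) (r : A) : up r ∈ gen k α ∧ low r ∈ gen k α := by
  rcases finite_or_infinite k with hk | hk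
  · have : Finite A := Module.finite_of_finite k
    exact gen_contains_of_finite h2 h3 A α hα hA r
  · exact gen_contains_of_infinite h2 hα hA r

theorem two_ne_zero_of_ringChar {k : Type u} [Field k] (hk : ringChar k ≠ 2) : (2 : k) ≠ 0 := by
  intro h
  have h' : ((2 : ℕ) : k) = 0 := by exact_mod_cast h
  rcases (Nat.dvd_prime Nat.prime_two).1 (ringChar.dvd h') with e | e
  · exact CharP.ringChar_ne_one e
  · exact hk e

end CfsgLib.QP
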