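import Cfsg.Agent.QuadPairs.GenericSL2
import Cfsg.Agent.Dickson.Transfer
import Mathlib.FieldTheory.Finite.Basic

set_option autoImplicit false
set_option linter.unusedSectionVars false

/-!
Dickson's lemma over a finite field.
-/

namespace CfsgLib.QP

open CfsgLib.Dickson OnePoint Matrix

variable {K : Type*} [Field K] [DecidableEq K]

theorem exists_pslImage_smul_infty {L : Type*} [Field L] [DecidableEq L] (φ : L →+* K)
    (w : OnePoint L) : ∃ s ∈ pslImage φ, s • OnePoint.map φ w = (∞ : OnePoint K) := by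
  rcases w with _ | t
  · exact ⟨1, one_mem _, one_smul _ _⟩
  · let s := pslHom φ (QuotientGroup.mk (CfsgLib.SL2Pair.up (t - 1) * CfsgLib.SL2Pair.low (1 : L)))
    have hs : s • (∞ : OnePoint K) = ((φ t : K) : OnePoint K) := by
      show pslHom φ _ • _ = _
      rw [QuotientGroup.mk_mul, map_mul, mul_smul, pslHom_low_smul_infty, pslHom_up, aff_smul_coe]
      simp
    exact ⟨s⁻¹, inv_mem ⟨_, rfl⟩, inv_smul_eq_iff.2 hs.symm⟩

theorem pslImage_le_pglImage {L : Type*} [Field L] (φ : L →+* K) : pslImage φ ≤ pglImage φ := by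
  rintro _ ⟨x, rfl⟩; exact ⟨_, rfl⟩

theorem pglImage_smul_map {L : Type*} [Field L] [DecidableEq L] (φ : L →+* K) {g : PGL2 K}
    (hg : g ∈ pglImage φ) (w : OnePoint L) : ∃ w', g • OnePoint.map φ w = OnePoint.map φ w' := by
  obtain ⟨g, rfl⟩ := hg
  exact ⟨g • w, mapHom_smul φ g w⟩

/-- Dickson's lemma over a finite field, the field with three elements allowed when `5` is prime to
the order of the group. -/
theorem gen_contains_of_field' {k F : Type*} [Field k] [Finite k] [Field F] [Finite F] [Algebra k F]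
    (h2 : (2 : k) ≠ 0)
    (h3 : Nat.card k ≠ 3 ∨ ¬ 5 ∣ Nat.card (Matrix.SpecialLinearGroup (Fin 2) F)) {α : F} (hα : α ≠ 0)
    (hA : Algebra.adjoin k {α} = ⊤) (r : F) : up r ∈ gen k α ∧ low r ∈ gen k α := by
  classical
  suffices hup : ∀ β : F, β ≠ 0 → Algebra.adjoin k {β} = ⊤ → ∀ r : F, up r ∈ gen k β by
    refine ⟨hup α hα hA r, ?_⟩
    -- transposing and rescaling exchanges the two root groups
    let d : GL (Fin 2) F := GeneralLinearGroup.mkOfDetNeZero !![0, 1; α, 0]
      (by simp [Matrix.det_fin_two_of, hα])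
    have hd : ∀ x : F, ((d : Matrix (Fin 2) (Fin 2) F) * (up x : Matrix (Fin 2) (Fin 2) F) =
        (low (α * x) : Matrix (Fin 2) (Fin 2) F) * d) ∧
        ((d : Matrix (Fin 2) (Fin 2) F) * (low x : Matrix (Fin 2) (Fin 2) F) =
        (up (x * α⁻¹) : Matrix (Fin 2) (Fin 2) F) * d) := by
      intro x
      constructor <;> ext i j <;> fin_cases i <;> fin_cases j <;>
        simp [d, GeneralLinearGroup.mkOfDetNeZero, up_coe, low_coe, Matrix.mul_apply, Fin.sum_univ_two,
          hα, mul_comm]
    let τ : Matrix.SpecialLinearGroup (Fin 2) F →* Matrix.SpecialLinearGroup (Fin 2) F :=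
      MonoidHom.mk' (fun g => ⟨(d : Matrix (Fin 2) (Fin 2) F) * g.1 * ((d⁻¹ : GL (Fin 2) F) : Matrix (Fin 2) (Fin 2) F),
        by rw [Matrix.det_units_conj]; exact g.2⟩)
        (fun g h => Subtype.ext (by
          show _ * (g.1 * h.1) * _ = (_ * g.1 * _) * (_ * h.1 * _)
          simp [mul_assoc]))
    have hτ : ∀ {g g' : Matrix.SpecialLinearGroup (Fin 2) F},
        (d : Matrix (Fin 2) (Fin 2) F) * g.1 = g'.1 * d → τ g = g' := by
      intro g g' h
      apply Subtype.ext
      show (d : Matrix (Fin 2) (Fin 2) F) * g.1 * _ = g'.1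
      rw [h, mul_assoc, Units.mul_inv, mul_one]
    have hmem : ∀ g ∈ gen k α, τ g ∈ gen k α := by
      intro g hg
      induction hg using Subgroup.closure_induction with
      | mem x hx =>
        rcases hx with ⟨c, rfl⟩ | ⟨c, rfl⟩
        · rw [hτ (hd _).1, mul_comm, ← Algebra.smul_def]; exact low_mem_gen α c
        · rw [hτ (hd _).2, smul_mul_assoc, mul_inv_cancel₀ hα, ← Algebra.algebraMap_eq_smul_one]
          exact up_mem_gen α c
      | one => rw [map_one]; exact one_mem _
      | mul x y _ _ hx hy => rw [map_mul]; exact mul_mem hx hy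
      | inv x _ hx => rw [map_inv]; exact inv_mem hx
    have := hmem _ (hup α hα hA (r / α))
    rwa [hτ (hd _).1, mul_div_cancel₀ _ hα] at this
  intro α hα hA r
  obtain ⟨p, hchar⟩ := CharP.exists F
  have hp : p.Prime := CharP.char_is_prime F p
  have : Fact p.Prime := ⟨hp⟩
  have hck : CharP k p := ((algebraMap k F).charP_iff (algebraMap k F).injective p).2 hchar
  have hp2 : p ≠ 2 := by
    rintro rfl
    exact h2 (CharP.cast_eq_zero k 2)
  let _ := Fintype.ofFinite k
  obtain ⟨n, -, hn⟩ := FiniteField.card k p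
  let K := AlgebraicClosure F
  let φ : F →+* K := algebraMap F K
  have : CharP K p := (φ.charP_iff φ.injective p).1 hchar
  let ι : Matrix.SpecialLinearGroup (Fin 2) F →* PGL2 K := (pslHom φ).comp (QuotientGroup.mk' _)
  have hιup : ∀ x : F, ι (up x) = aff (1 : Kˣ) (φ x) := fun x => pslHom_up φ x
  have hιlow : ∀ x : F, ι (low x) = mob 1 0 (φ x) 1 (by simp) := fun x => by
    show pslHom φ (QuotientGroup.mk (low x)) = _
    rw [pslHom_mk, mob]
    simp only [MonoidHom.comp_apply]
    congr 1
    ext i j
    fin_cases i <;> fin_cases j <;> simp [low_coe]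
  let H : Subgroup (PGL2 K) := (gen k α).map ι
  have : Finite H := by
    have : Finite (Matrix.SpecialLinearGroup (Fin 2) F) := inferInstance
    exact Finite.of_surjective _ (MonoidHom.subgroupMap_surjective ι (gen k α))
  let e : Multiplicative k →* H :=
    MonoidHom.mk' (fun c => ⟨aff (1 : Kˣ) (φ (algebraMap k F c.toAdd)), _, up_mem_gen α _, hιup _⟩)
      (fun a b => Subtype.ext (by
        show aff _ _ = aff _ _ * aff _ _
        rw [aff_mul, toAdd_mul, map_add, map_add, one_mul, Units.val_one, one_mul, add_comm]))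
  have he : Function.Injective e := by
    intro a b hab
    have := (aff_inj (congrArg Subtype.val hab)).2
    exact Multiplicative.toAdd.injective ((algebraMap k F).injective (φ.injective this))
  have hk : Nat.card k ∣ Nat.card H := by
    rw [show Nat.card k = Nat.card (Multiplicative k) from Nat.card_congr Multiplicative.ofAdd]
    exact Subgroup.card_dvd_of_injective e he
  have hqk : Nat.card k = p ^ (n : ℕ) := by rw [Nat.card_eq_fintype_card, hn]
  have hpH : p ∣ Nat.card H := (dvd_pow_self p n.pos.ne').trans (hqk ▸ hk)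
  have hu1 : aff (1 : Kˣ) (1 : K) ∈ H := ⟨up 1, by simpa using up_mem_gen (k := k) α 1, by rw [hιup, map_one]⟩
  have hlα : mob 1 0 (φ α) 1 (by simp) ∈ H :=
    ⟨low α, by simpa using low_mem_gen (k := k) α 1, hιlow α⟩
  have hup1 : ∀ g : PGL2 K, g = aff (1 : Kˣ) (1 : K) → g ≠ 1 := by
    rintro g rfl; rw [Ne, aff_eq_one]; simp
  rcases classification p H with ⟨x, hx⟩ | ⟨m, -, hm, hN, -⟩ | ⟨hp5, hN, -⟩ | ⟨hp5, hN, -⟩ |
    ⟨-, hp5, hN, -⟩ | ⟨f, hf, g, hg⟩
  · exfalso
    have hxi : x ∈ fix (aff (1 : Kˣ) (1 : K)) := hx _ hu1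
    rw [fix_aff_one one_ne_zero, Set.mem_singleton_iff] at hxi
    subst hxi
    have := hx _ hlα
    rw [mob_smul_infty] at this
    simp [hα] at this
  · exfalso
    rw [hN] at hpH
    rcases hp.dvd_mul.1 hpH with h | h
    · exact hp2 ((Nat.prime_dvd_prime_iff_eq hp Nat.prime_two).1 h)
    · exact hm h
  · exfalso
    rw [hN] at hpH
    rcases (hp.dvd_mul (m := 4) (n := 3)).1 hpH with h | h
    · exact absurd (Nat.le_of_dvd (by norm_num) h) (by omega)
    · exact absurd (Nat.le_of_dvd (by norm_num) h) (by omega)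
  · exfalso
    rw [hN] at hpH
    rcases (hp.dvd_mul (m := 8) (n := 3)).1 hpH with h | h
    · exact absurd (Nat.le_of_dvd (by norm_num) (hp.dvd_of_dvd_pow (m := 2) (n := 3) h)) (by omega)
    · exact absurd (Nat.le_of_dvd (by norm_num) h) (by omega)
  · exfalso
    replace h3 : Nat.card k ≠ 3 := by
      rcases h3 with h | h
      · exact h
      · refine absurd ?_ h
        refine (show (5 : ℕ) ∣ Nat.card H from hN ▸ (by norm_num)).trans ?_
        exact ((gen k α).card_map_dvd ι).trans (Subgroup.card_subgroup_dvd_card _)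
    rw [hN] at hpH hk
    have hp3 : p = 3 := by
      rcases (hp.dvd_mul (m := 12) (n := 5)).1 hpH with h | h
      · rcases (hp.dvd_mul (m := 4) (n := 3)).1 h with h | h
        · exact absurd ((Nat.prime_dvd_prime_iff_eq hp Nat.prime_two).1 (hp.dvd_of_dvd_pow (m := 2) (n := 2) h)) hp2
        · exact (Nat.prime_dvd_prime_iff_eq hp Nat.prime_three).1 h
      · exact absurd ((Nat.prime_dvd_prime_iff_eq hp Nat.prime_five).1 h) hp5
    subst hp3
    rw [hqk] at hk h3
    rcases Nat.lt_or_ge (n : ℕ) 2 with h | h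
    · exact h3 (by rw [show (n : ℕ) = 1 by have := n.pos; omega, pow_one])
    · exact absurd ((pow_dvd_pow 3 h).trans hk) (by norm_num)
  · set F0 := frobFix (K := K) p f with hF0
    have hsub : conjH g H ≤ pglImage F0.subtype ∧ pslImage F0.subtype ≤ conjH g H := by
      rcases hg with hg | ⟨-, hg⟩
      · exact ⟨hg.le, hg ▸ pslImage_le_pglImage _⟩
      · exact ⟨hg ▸ pslImage_le_pglImage _, hg.ge⟩
    have : Finite F0 := finite_frobFix p hf
    have hchar0 : CharP F0 p := (F0.subtype.charP_iff Subtype.val_injective p).2 inferInstance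
    -- `g` moves `∞` to a rational point
    obtain ⟨w, hw⟩ := rational_fix p F0.subtype (hsub.1 (mem_conjH (g := g) hu1))
      (by rw [conj_pow, aff_one_pow]; simp [aff_one_zero])
      (x := g • (∞ : OnePoint K)) (by rw [fix_conj, fix_aff_one one_ne_zero, Set.image_singleton])
    obtain ⟨s, hs, hsw⟩ := exists_pslImage_smul_infty F0.subtype w
    obtain ⟨u, a, ha⟩ := eq_aff_of_fix_infty (g := s * g) (by rw [mul_smul, hw, hsw])
    have hconj : ∀ x, (x ∈ H → (s * g) * x * (s * g)⁻¹ ∈ pglImage F0.subtype) ∧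
        ((s * g) * x * (s * g)⁻¹ ∈ pslImage F0.subtype → x ∈ H) := by
      intro x
      have e : (s * g) * x * (s * g)⁻¹ = s * (g * x * g⁻¹) * s⁻¹ := by group
      refine ⟨fun hx => ?_, fun hx => ?_⟩
      · rw [e]
        exact mul_mem (mul_mem (pslImage_le_pglImage _ hs) (hsub.1 (mem_conjH hx)))
          (inv_mem (pslImage_le_pglImage _ hs))
      · rw [e] at hx
        have h1 : g * x * g⁻¹ ∈ pslImage F0.subtype := by
          have := mul_mem (mul_mem (inv_mem hs) hx) hs
          simpa [mul_assoc] using this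
        obtain ⟨y, hy, hyx⟩ := hsub.2 h1
        simp only [MulEquiv.coe_toMonoidHom, MulAut.conj_apply, mul_left_inj, mul_right_inj] at hyx
        exact hyx ▸ hy
    rw [ha] at hconj
    have hrat : ∀ {x : PGL2 K}, x ∈ pglImage F0.subtype → ∀ t ∈ F0, ∀ z : K,
        x • ((t : K) : OnePoint K) = (z : OnePoint K) → z ∈ F0 := by
      intro x hx t ht z hz
      obtain ⟨w', hw'⟩ := pglImage_smul_map F0.subtype hx ((⟨t, ht⟩ : F0) : OnePoint F0)
      rw [OnePoint.map_some, Subfield.coe_subtype, hz] at hw'
      rcases w' with _ | z'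
      · exact absurd hw' (coe_ne_infty _)
      · have := coe_injective hw'
        rw [this]; exact z'.2
    have hua : ∀ b : K, aff u a * aff (1 : Kˣ) b * (aff u a)⁻¹ = aff (1 : Kˣ) ((u : K) * b) := fun b => by
      rw [mul_inv_eq_iff_eq_mul, aff_mul, aff_mul]
      congr 1
      · rw [mul_one, one_mul]
      · simp [add_comm]
    have hu : (u : K) ∈ F0 := by
      have h := hrat ((hconj _).1 hu1) 0 F0.zero_mem (u : K) (by rw [hua, aff_smul_coe]; simp)
      exact h
    -- the lower root element shows that `φ α` lies in `F0`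
    have haF : a ∈ F0 ∧ φ α ∈ F0 := by
      have hl := (hconj _).1 hlα
      have hfix : fix (aff u a * mob 1 0 (φ α) 1 (by simp) * (aff u a)⁻¹) = {((a : K) : OnePoint K)} := by
        rw [fix_conj]
        have : fix (mob 1 0 (φ α) 1 (by simp) : PGL2 K) = {((0 : K) : OnePoint K)} := by
          ext y
          simp only [fix, Set.mem_ofPred_eq, Set.mem_singleton_iff]
          induction y using OnePoint.rec with
          | infty => rw [mob_smul_infty]; simp [hα]
          | coe y =>
            rw [mob_smul_coe]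
            by_cases hy : φ α * y + 1 = 0
            · simp only [hy, if_true, infty_ne_coe, false_iff, coe_eq_coe]
              rintro rfl; simp at hy
            · simp only [hy, if_false, coe_eq_coe, one_mul, add_zero, div_eq_iff hy]
              constructor
              · intro h
                have : φ α * y * y = 0 := by linear_combination -h
                simpa [hα] using this
              · rintro rfl; simp
        rw [this, Set.image_singleton, aff_smul_coe, mul_zero, zero_add]
      have hlp : (mob 1 0 (φ α) 1 (by simp) : PGL2 K) ^ p = 1 := by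
        rw [← hιlow, ← map_pow]
        have : ∀ m : ℕ, low α ^ m = low ((m : F) * α) := by
          intro m
          induction m with
          | zero => simp [low_zero]
          | succ m ih => rw [pow_succ, ih, low_mul]; push_cast; ring_nf
        rw [this, CharP.cast_eq_zero F p, zero_mul, low_zero, map_one]
      obtain ⟨w', hw'⟩ := rational_fix p F0.subtype hl (by rw [conj_pow, hlp, mul_one, mul_inv_cancel]) hfix
      have haa : a ∈ F0 := by
        rcases w' with _ | t
        · exact absurd hw' (coe_ne_infty _)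
        · rw [coe_injective hw']; exact t.2
      have hinv : (aff u a)⁻¹ • (∞ : OnePoint K) = ∞ := inv_smul_eq_iff.2 (aff_smul_infty u a).symm
      obtain ⟨v, hv⟩ := pglImage_smul_map F0.subtype hl (∞ : OnePoint F0)
      rw [OnePoint.map_infty, mul_smul, mul_smul, hinv, mob_smul_infty, if_neg (by simpa using hα),
        aff_smul_coe] at hv
      rcases v with _ | v
      · exact absurd hv (coe_ne_infty _)
      · refine ⟨haa, ?_⟩
        have hv' : (v : K) - a = (u : K) * (1 / φ α) := by rw [show (v : K) = _ from (coe_injective hv).symm]; ring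
        have : φ α = (u : K) / ((v : K) - a) := by
          rw [hv', mul_one_div, div_div_cancel₀ u.ne_zero]
        rw [this]; exact div_mem hu (sub_mem v.2 haa)
    have hkF : ∀ c : k, φ (algebraMap k F c) ∈ F0 := by
      intro c
      have h := hrat ((hconj _).1 ⟨up _, up_mem_gen α c, rfl⟩) 0 F0.zero_mem ((u : K) * φ (algebraMap k F c))
        (by rw [hιup, hua, aff_smul_coe]; simp)
      have := mul_mem (inv_mem hu) h
      rwa [← mul_assoc, inv_mul_cancel₀ u.ne_zero, one_mul] at this
    have hall : φ r ∈ F0 := by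
      have hr : r ∈ Algebra.adjoin k {α} := hA ▸ Algebra.mem_top
      induction hr using Algebra.adjoin_induction with
      | mem x hx => rw [Set.mem_singleton_iff.1 hx]; exact haF.2
      | algebraMap c => exact hkF c
      | add x y _ _ hx hy => rw [map_add]; exact add_mem hx hy
      | mul x y _ _ hx hy => rw [map_mul]; exact mul_mem hx hy
    have hmem : aff (1 : Kˣ) (φ r) ∈ H := by
      refine (hconj _).2 ?_
      rw [hua]
      exact ⟨QuotientGroup.mk (CfsgLib.SL2Pair.up (⟨(u : K) * φ r, mul_mem hu hall⟩ : F0)), pslHom_up _ _⟩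
    obtain ⟨g', hg', hg'e⟩ := hmem
    rw [← hιup] at hg'e
    have hz : g'⁻¹ * up r ∈ Subgroup.center (Matrix.SpecialLinearGroup (Fin 2) F) :=
      QuotientGroup.eq.1 (pslHom_injective φ hg'e)
    obtain ⟨c, hc, hce⟩ := Matrix.SpecialLinearGroup.mem_center_iff.1 hz
    have hsq : (g'⁻¹ * up r) ^ 2 = 1 := by
      apply Subtype.ext
      rw [Matrix.SpecialLinearGroup.coe_pow, ← hce, ← map_pow]
      simp at hc
      rw [show c ^ 2 = 1 by rcases hc with rfl | rfl <;> simp, map_one]; rfl
    have hupp : ∀ (x : F) (m : ℕ), up x ^ m = up ((m : F) * x) := by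
      intro x m
      induction m with
      | zero => simp [up_zero]
      | succ m ih => rw [pow_succ, ih, up_mul]; push_cast; ring_nf
    obtain ⟨j, hj⟩ : ∃ j, p + 1 = 2 * j := ⟨(p + 1) / 2, by
      have := hp.odd_of_ne_two hp2; obtain ⟨i, rfl⟩ := this; omega⟩
    have e1 : up r = g' * (g'⁻¹ * up r) := by group
    have e2 : up r = g' ^ (p + 1) := by
      calc up r = up r ^ (p + 1) := by rw [hupp]; simp [CharP.cast_eq_zero F p]
        _ = (g' * (g'⁻¹ * up r)) ^ (p + 1) := by rw [← e1]
        _ = g' ^ (p + 1) := by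
          rw [(Subgroup.mem_center_iff.1 hz g').symm.symm |> Commute.mul_pow, hj, pow_mul (g'⁻¹ * up r),
            hsq, one_pow, mul_one]
    rw [e2]; exact pow_mem hg' _

/-- Dickson's lemma over a finite field. -/
theorem gen_contains_of_field {k F : Type*} [Field k] [Finite k] [Field F] [Finite F] [Algebra k F]
    (h2 : (2 : k) ≠ 0) (h3 : Nat.card k ≠ 3) {α : F} (hα : α ≠ 0)
    (hA : Algebra.adjoin k {α} = ⊤) (r : F) : up r ∈ gen k α ∧ low r ∈ gen k α :=
  gen_contains_of_field' h2 (Or.inl h3) hα hA r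

end CfsgLib.QP
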