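import Cfsg.Agent.QuadPairs.Central

set_option autoImplicit false
set_option linter.unusedSectionVars false

/-!
A quadratic pair is a central product of quasisimple groups.
-/

universe u v

namespace CfsgLib.QP

open Cfsg commutatorElement

variable {k : Type u} [Field k] {M : Type v} [AddCommGroup M] [Module k M] [FiniteDimensional k M]
  {G H : Subgroup (LinearMap.GeneralLinearGroup k M)} {S T N : Module.End k M}

/-- There are only finitely many components. -/
theorem exists_components (hopp : HasOpposites H) (h2 : (2 : k) ≠ 0) (h3 : Nat.card k ≠ 3) :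
    ∃ (r : ℕ) (R : Fin r → Module.End k M), (∀ i, IsMinRoot H (R i)) ∧
      (∀ i j, i ≠ j → ¬ Conn H (R i) (R j)) ∧ ∀ T, IsMinRoot H T → ∃ i, Conn H (R i) T := by
  classical
  let rel : Setoid {S : Module.End k M // IsMinRoot H S} :=
    ⟨fun a b => Conn H a.1 b.1, fun _ => Relation.ReflTransGen.refl, fun h => h.symm h2 h3, Conn.trans⟩
  let v : Quotient rel → Module.End k M := fun q => q.out.1
  have hne : ∀ q q' : Quotient rel, q ≠ q' → ¬ Conn H (v q) (v q') := fun q q' hqq hc => hqq (by
    rw [← Quotient.out_eq q, ← Quotient.out_eq q']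
    exact Quotient.sound hc)
  have hli : LinearIndependent k v := by
    rw [linearIndependent_iff_notMem_span]
    intro q hq
    obtain ⟨T, hT, hT'⟩ := hopp _ q.out.2
    let C : Submodule k (Module.End k M) :=
      { carrier := {X | X * T = T * X}
        zero_mem' := by simp
        add_mem' := fun {a b} (ha : a * T = T * a) (hb : b * T = T * b) => by
          show (a + b) * T = T * (a + b)
          rw [add_mul, mul_add, ha, hb]
        smul_mem' := fun c a (ha : a * T = T * a) => by
          show (c • a) * T = T * (c • a)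
          rw [smul_mul_assoc, mul_smul_comm, ha] }
    have hle : Submodule.span k (v '' (Set.univ \ {q})) ≤ C := by
      rw [Submodule.span_le]
      rintro _ ⟨q', ⟨-, hq'⟩, rfl⟩
      show v q' * T = T * v q'
      by_contra hne'
      exact hne q' q hq' ((conn_of_br q'.out.2 hT hopp h2 h3 hne').trans
        ((conn_single q.out.2 hT hT').symm h2 h3))
    have h : v q * T = T * v q := hle hq
    apply hT'
    show v q * T * v q = 0
    rw [h, mul_assoc, q.out.2.sq, mul_zero]
  have : Finite (Quotient rel) := hli.finite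
  let e := Finite.equivFin (Quotient rel)
  refine ⟨Nat.card (Quotient rel), fun i => v (e.symm i), fun i => (e.symm i).out.2,
    fun i j hij => hne _ _ fun h => hij (e.symm.injective h), fun T hT => ?_⟩
  refine ⟨e (Quotient.mk rel ⟨T, hT⟩), ?_⟩
  show Conn H (v (e.symm (e _))) T
  rw [e.symm_apply_apply]
  exact Quotient.exact (Quotient.out_eq (Quotient.mk rel ⟨T, hT⟩))

theorem exists_minRoot (h : ∃ N, IsRoot H N) : ∃ S, IsMinRoot H S := by
  classical
  have hex : ∃ n, ∃ N, IsRoot H N ∧ rk N = n := h.elim fun N hN => ⟨_, N, hN, rfl⟩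
  obtain ⟨N, hN, hn⟩ := Nat.find_spec hex
  exact ⟨N, hN, fun T hT => hn ▸ Nat.find_le ⟨T, hT, rfl⟩⟩

theorem iSup_comp_eq {r : ℕ} {R : Fin r → Module.End k M} (hR : ∀ T, IsMinRoot H T → ∃ i, Conn H (R i) T) :
    (⨆ i, comp H (R i)) = ⨆ A ∈ quadraticRootSubgroups H, A := by
  refine le_antisymm (iSup_le fun i => biSup_mono fun A hA => part_subset hA) (iSup₂_le fun A hA => ?_)
  obtain ⟨σ, hσ, rfl⟩ := hA
  obtain ⟨i, hi⟩ := hR _ (mem_minimal_iff.1 hσ)
  exact (sameAction_le_comp (mem_minimal_iff.1 hσ) hi).trans (le_iSup (fun i => comp H (R i)) i)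

theorem commutator_comp_eq_bot (hopp : HasOpposites H) (h2 : (2 : k) ≠ 0) (h3 : Nat.card k ≠ 3)
    (h : ¬ Conn H S T) : ⁅comp H S, comp H T⁆ = ⊥ := by
  rw [eq_bot_iff, Subgroup.commutator_le]
  intro x hx y hy
  rw [Subgroup.mem_bot, commutatorElement_eq_one_iff_commute]
  exact commute_of_not_conn hopp h2 h3 h x hx y hy

theorem closure_quadratic_comp (hle : H ≤ G) (hS : IsMinRoot H S) :
    Subgroup.closure (quadraticElements G ∩ (comp H S : Set (LinearMap.GeneralLinearGroup k M))) = comp H S := by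
  refine le_antisymm ((Subgroup.closure_le _).2 fun x hx => hx.2) (iSup₂_le fun A hA => ?_)
  obtain ⟨σ, hσ, hc, rfl⟩ := hA
  intro y hy
  by_cases hy0 : (y : Module.End k M) - 1 = 0
  · rw [show y = 1 from Units.ext (sub_eq_zero.1 hy0)]; exact one_mem _
  refine Subgroup.subset_closure ⟨mem_quadratic_iff.2 ?_, sameAction_le_comp hσ hc hy⟩
  have h := (hσ.of_mem_rootSpace ((mem_sameActionSubgroup hσ).1 hy) hy0).1.toIsRoot
  exact ⟨h.sq, h.ne, fun c => (h.fam c).imp fun g hg => ⟨hle hg.1, hg.2⟩⟩

theorem central_isLevel (hL : IsLevel G H) (hH : RadFree H) (h2 : (2 : k) ≠ 0) (h3 : Nat.card k ≠ 3) :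
    IsLevel G (centralPart H) := by
  have hroot : ∀ N, IsRoot H N → RootCentral H N → IsRoot (centralPart H) N := fun N hN hc =>
    ⟨hN.sq, hN.ne, fun c => ⟨fam hN.sq c, Subgroup.subset_closure ⟨N, hN, hc, c, fam_val _ _⟩, fam_val _ _⟩⟩
  refine ⟨centralPart_le.trans hL.le, ?_, ?_, ?_⟩
  · have hle : ∀ g ∈ G, conjBy (centralPart H) g ≤ centralPart H := fun g hg => by
      rw [conjBy, centralPart, MonoidHom.map_closure, Subgroup.closure_le]
      rintro _ ⟨x, ⟨N, hN, hc, c, hx⟩, rfl⟩
      refine Subgroup.subset_closure ⟨conjEnd g N, hN.conj_of_normalizes (hL.normal g hg), fun S hS => ?_, c,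
        conj_one_add g x hx⟩
      have := congrArg (conjEnd g) (hc _ (hS.conj_of_normalizes (conjBy_inv_eq_self (hL.normal g hg))))
      rwa [← conjEnd_mul, ← conjEnd_mul, conjEnd_conjEnd, mul_inv_cancel, conjEnd_one] at this
    intro g hg
    refine le_antisymm (hle g hg) fun x hx => ?_
    exact ⟨g⁻¹ * x * g, hle g⁻¹ (inv_mem hg) ⟨x, hx, by simp⟩, by
      simp only [MulEquiv.coe_toMonoidHom, MulAut.conj_apply]; group⟩
  · conv_lhs => rw [centralPart]
    rw [Subgroup.closure_le]
    rintro g ⟨N, hN, hc, c, hg⟩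
    exact Subgroup.subset_closure ⟨N, hroot N hN hc, c, hg⟩
  · have h1 : (⨆ A ∈ quadraticRootSubgroups H, A) ≤
        Subgroup.centralizer (centralPart H : Set (LinearMap.GeneralLinearGroup k M)) := fun x hx =>
      Subgroup.mem_centralizer_iff.2 fun y hy => (centralPart_commute hx hy).symm
    exact hL.compl.trans (sup_le ((hL.le_sup hH h2 h3).trans (sup_le (h1.trans le_sup_right) le_sup_left))
      ((Subgroup.centralizer_le (centralPart_le (H := H))).trans le_sup_right))

theorem lam_central_lt (hopp : HasOpposites H) (hS : IsMinRoot H S) :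
    Module.finrank k (lam (centralPart H)) < Module.finrank k (lam H) := by
  refine Submodule.finrank_lt_finrank_of_lt (lt_of_le_of_ne (lam_mono centralPart_le) fun e => ?_)
  obtain ⟨T, hT, hne⟩ := hopp S hS
  obtain ⟨g, hg, hge⟩ := hS.fam 1
  have hmem : S ∈ lam H := by
    have := mem_lam hg
    rwa [hge, one_smul, add_sub_cancel_left] at this
  rw [← e] at hmem
  let C : Submodule k (Module.End k M) :=
    { carrier := {X | X * T = T * X}
      zero_mem' := by simp
      add_mem' := fun {a b} (ha : a * T = T * a) (hb : b * T = T * b) => by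
        show (a + b) * T = T * (a + b)
        rw [add_mul, mul_add, ha, hb]
      smul_mem' := fun c a (ha : a * T = T * a) => by
        show (c • a) * T = T * (c • a)
        rw [smul_mul_assoc, mul_smul_comm, ha] }
  have hC : lam (centralPart H) ≤ C := by
    rw [lam, Submodule.span_le]
    rintro _ ⟨x, hx, rfl⟩
    obtain ⟨τ, -, hτ⟩ := hT.toIsRoot.exists_elem
    have hτm : IsMinRoot H ((τ : Module.End k M) - 1) := hτ.symm ▸ hT
    have hu := congrArg Units.val (centralPart_commute
      (le_iSup₂ (f := fun A (_ : A ∈ quadraticRootSubgroups H) => A) _ ⟨τ, mem_minimal_iff.2 hτm, rfl⟩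
        ((mem_sameActionSubgroup hτm).2 (mem_rootSpace_self hτm.toIsRoot))) hx)
    rw [Units.val_mul, Units.val_mul] at hu
    show ((x : Module.End k M) - 1) * T = T * ((x : Module.End k M) - 1)
    rw [← hτ]
    simp only [mul_sub, sub_mul, mul_one, one_mul]
    linear_combination (norm := abel) -hu
  have h : S * T = T * S := hC hmem
  exact hne (by rw [h, mul_assoc, hS.sq, mul_zero])

theorem central_product (hirr : IsIrreducibleFor G) (h2 : (2 : k) ≠ 0) (h3 : Nat.card k ≠ 3)
    (H : Subgroup (LinearMap.GeneralLinearGroup k M)) (hL : IsLevel G H) :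
    ∃ (s : ℕ) (Gi : Fin s → Subgroup (LinearMap.GeneralLinearGroup k M)),
      (∀ i, Gi i ≤ H ∧ ∀ g ∈ G, conjBy (Gi i) g = Gi i) ∧ (∀ i j, i ≠ j → ⁅Gi i, Gi j⁆ = ⊥) ∧ (⨆ i, Gi i) = H ∧
      (∀ i, IsQuasisimple ↥(Gi i) ∧
        Subgroup.closure (quadraticElements G ∩ (Gi i : Set (LinearMap.GeneralLinearGroup k M))) = Gi i) ∧
      ∀ N, IsRoot H N → ∃ i, ∀ (c : k) (g : LinearMap.GeneralLinearGroup k M),
        (g : Module.End k M) = 1 + c • N → g ∈ Gi i := by
  induction hn : Module.finrank k (lam H) using Nat.strong_induction_on generalizing H with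
  | _ n ih =>
    subst hn
    by_cases hroot : ∃ N, IsRoot H N
    swap
    · push Not at hroot
      have hb : H = ⊥ := eq_bot_iff.2 (hL.gen.trans ((Subgroup.closure_le _).2 (by
        rintro g ⟨N, hN, -⟩
        exact absurd hN (hroot N))))
      exact ⟨0, Fin.elim0, fun i => i.elim0, fun i => i.elim0, by rw [hb]; simp, fun i => i.elim0,
        fun N hN => absurd hN (hroot N)⟩
    have hH : RadFree H := (radFree_of_irreducible hirr).of_normal hL.le hL.normal
    have hopp := hH.hasOpposites h2 h3
    obtain ⟨S₀, hS₀⟩ := exists_minRoot hroot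
    obtain ⟨r, R, hR, hRne, hRall⟩ := exists_components hopp h2 h3
    obtain ⟨s, Gi, hle, hcomm, hsup, hqs, hroots⟩ := ih _ (lam_central_lt hopp hS₀) (centralPart H)
      (central_isLevel hL hH h2 h3) rfl
    have hSig := iSup_comp_eq hRall
    have hcross : ∀ i j, ⁅comp H (R i), Gi j⁆ = ⊥ := fun i j => by
      rw [eq_bot_iff, Subgroup.commutator_le]
      intro x hx y hy
      rw [Subgroup.mem_bot, commutatorElement_eq_one_iff_commute]
      exact centralPart_commute ((biSup_mono fun A hA => part_subset hA : comp H (R i) ≤ _) hx) ((hle j).1 hy)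
    refine ⟨r + s, Fin.append (fun i => comp H (R i)) Gi, ?_, ?_, ?_, ?_, ?_⟩
    · intro i
      induction i using Fin.addCases with
      | left i =>
        rw [Fin.append_left]
        exact ⟨comp_le, hL.conjBy_comp_eq hH (hR i) h2 h3⟩
      | right j =>
        rw [Fin.append_right]
        exact ⟨(hle j).1.trans centralPart_le, (hle j).2⟩
    · intro i j hij
      induction i using Fin.addCases with
      | left i =>
        induction j using Fin.addCases with
        | left j =>
          rw [Fin.append_left, Fin.append_left]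
          exact commutator_comp_eq_bot hopp h2 h3 (hRne i j fun e => hij (e ▸ rfl))
        | right j => rw [Fin.append_left, Fin.append_right]; exact hcross i j
      | right i =>
        induction j using Fin.addCases with
        | left j => rw [Fin.append_left, Fin.append_right, Subgroup.commutator_comm]; exact hcross j i
        | right j => rw [Fin.append_right, Fin.append_right]; exact hcomm i j fun e => hij (e ▸ rfl)
    · refine le_antisymm (iSup_le fun i => ?_) ((hL.le_sup hH h2 h3).trans (sup_le ?_ ?_))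
      · induction i using Fin.addCases with
        | left i => rw [Fin.append_left]; exact comp_le
        | right j => rw [Fin.append_right]; exact (hle j).1.trans centralPart_le
      · rw [← hSig]
        exact iSup_le fun i => le_iSup_of_le (Fin.castAdd s i) (by rw [Fin.append_left])
      · rw [← hsup]
        exact iSup_le fun j => le_iSup_of_le (Fin.natAdd r j) (by rw [Fin.append_right])
    · intro i
      induction i using Fin.addCases with
      | left i =>
        rw [Fin.append_left]
        exact ⟨isQuasisimple_comp (hR i) hH (fun g hg => hL.conjBy_comp_eq hH (hR i) h2 h3 g (hL.le hg)) h2 h3,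
          closure_quadratic_comp hL.le (hR i)⟩
      | right j => rw [Fin.append_right]; exact hqs j
    · intro N hN
      rcases root_cases hirr hL hH h2 h3 hN with hc | ⟨S, hS, hmem⟩
      · obtain ⟨j, hj⟩ := hroots N ⟨hN.sq, hN.ne, fun c =>
          ⟨fam hN.sq c, Subgroup.subset_closure ⟨N, hN, hc, c, fam_val _ _⟩, fam_val _ _⟩⟩
        exact ⟨Fin.natAdd r j, by rw [Fin.append_right]; exact hj⟩
      · obtain ⟨i, hi⟩ := hRall S hS
        exact ⟨Fin.castAdd s i, by rw [Fin.append_left, comp_congr hi h2 h3]; exact hmem⟩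

theorem top_isLevel (hG : IsQuadraticPair G) : IsLevel G G := by
  refine ⟨le_rfl, fun g hg => CfsgLib.RankOne.conjBy_of_mem hg, ?_, le_sup_left⟩
  conv_lhs => rw [← hG.2]
  refine Subgroup.closure_mono fun σ hσ => ?_
  exact ⟨(σ : Module.End k M) - 1, mem_quadratic_iff.1 hσ, 1, by rw [one_smul, add_sub_cancel]⟩

end CfsgLib.QP

namespace CfsgLib.QP

open Cfsg commutatorElement

variable {k : Type u} [Field k] {M : Type v} [AddCommGroup M] [Module k M] [FiniteDimensional k M]
  {G : Subgroup (LinearMap.GeneralLinearGroup k M)} {S : Module.End k M}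

theorem part_pair (hopp : HasOpposites G) (h2 : (2 : k) ≠ 0) (h3 : Nat.card k ≠ 3)
    {A B : Subgroup (LinearMap.GeneralLinearGroup k M)} (hA : A ∈ part G S) (hB : B ∈ part G S) :
    ⁅A, B⁆ = ⊥ ∨ IsRankOnePair A B ∨ RootCommutatorCase (part G S) A B := by
  obtain ⟨σ, hσ, hcσ, rfl⟩ := hA
  obtain ⟨τ, hτ, -, rfl⟩ := hB
  rcases sigma_pair h2 h3 hopp hσ hτ with ⟨hsts, h | h, -⟩ | ⟨-, h⟩
  · exact Or.inl h
  · by_cases hb : ⁅sameActionSubgroup G σ, sameActionSubgroup G τ⁆ = ⊥
    · exact Or.inl hb
    refine Or.inr (Or.inr ⟨?_, h.2⟩)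
    obtain ⟨υ, hυ, he⟩ := h.1
    have hυm := mem_minimal_iff.1 hυ
    have hp := uniPair_of hσ hτ h2 h3 hsts
    have h0 : br ((σ : Module.End k M) - 1) ((τ : Module.End k M) - 1) ≠ 0 := fun e =>
      hb (commutator_eq_bot hσ hτ h2 h3 hopp hp e)
    have hmem : br ((σ : Module.End k M) - 1) ((τ : Module.End k M) - 1) ∈ rootSpace G hυm.sq := by
      have hc := Subgroup.commutator_mem_commutator ((mem_sameActionSubgroup hσ).2 (mem_rootSpace_self hσ.toIsRoot))
        ((mem_sameActionSubgroup hτ).2 (mem_rootSpace_self hτ.toIsRoot))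
      rw [he] at hc
      have := (mem_sameActionSubgroup hυm).1 hc
      rwa [commutatorElement_def, unit_commutator_val (by rw [add_sub_cancel]) (by rw [add_sub_cancel]) hσ.sq hτ.sq
        hp.sts hp.tst, add_sub_cancel_left] at this
    exact ⟨υ, hυm, (hcσ.trans (hp.conn_br hopp h2 h3 h0)).trans
      ((conn_of_mem_rootSpace hυm hopp h2 h3 hmem h0).symm h2 h3), he⟩
  · exact Or.inr (Or.inl h)

theorem part_class (hS : IsMinRoot G S) (hopp : HasOpposites G) (h2 : (2 : k) ≠ 0) (h3 : Nat.card k ≠ 3) :
    IsRootSubgroupClass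
      ((fun A : Subgroup (LinearMap.GeneralLinearGroup k M) => A.subgroupOf (comp G S)) '' part G S) := by
  refine ⟨isRootSubgroupSet_subgroupOf rfl ?_ ?_ ?_ fun A hA B hB => part_pair hopp h2 h3 hA hB, ?_, ?_⟩
  · rintro A ⟨σ, hσ, -, rfl⟩
    exact isMulCommutative_sameAction hσ
  · rintro A ⟨σ, hσ, -, rfl⟩ e
    have hmem := (mem_sameActionSubgroup hσ).2 (mem_rootSpace_self hσ.toIsRoot)
    rw [e, Subgroup.mem_bot] at hmem
    exact hσ.ne (by rw [hmem, Units.val_one, sub_self])
  · rintro A ⟨σ, hσ, hc, rfl⟩ g hg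
    have hgG := CfsgLib.RankOne.conjBy_of_mem (comp_le hg)
    refine ⟨g * σ * g⁻¹, ?_, ?_, sameActionSubgroup_conj_of_normalizes hσ hgG⟩
    · rw [conjEnd_one_sub]; exact hσ.conj_of_normalizes hgG
    · obtain ⟨σ₀, -, hσ₀⟩ := hS.toIsRoot.exists_elem
      by_contra hcon
      -- an element of the component fixes it
      have hfix := conjBy_comp (S := S) hgG
      rw [CfsgLib.RankOne.conjBy_of_mem hg] at hfix
      have hconn : Conn G S (conjEnd g S) := by
        by_contra hn
        have hcom := commutator_comp_eq_bot hopp h2 h3 hn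
        rw [← hfix, comp_commutator_eq hS hopp h2 h3] at hcom
        exact comp_ne_bot hS hcom
      rw [conjEnd_one_sub] at hcon
      exact hcon (hconn.trans (hc.conj hgG))
  · obtain ⟨σ, -, hσ⟩ := hS.toIsRoot.exists_elem
    exact ⟨_, sameActionSubgroup G σ, ⟨σ, hσ.symm ▸ hS, hσ.symm ▸ Relation.ReflTransGen.refl, rfl⟩, rfl⟩
  · rintro _ ⟨A, hA, rfl⟩ _ ⟨B, hB, rfl⟩
    obtain ⟨σ, hσ, hcσ, rfl⟩ := hA
    obtain ⟨τ, hτ, hcτ, rfl⟩ := hB
    obtain ⟨x, hx, e⟩ := conn_conjugate (fun h => h.isMinRoot hσ) h2 h3 rfl ((hcσ.symm h2 h3).trans hcτ)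
    rw [← comp_congr hcσ h2 h3] at hx
    refine ⟨⟨x, hx⟩, ?_⟩
    apply Subgroup.map_injective (comp G S).subtype_injective
    rw [map_conjBy, map_subtype_subgroupOf (sameAction_le_comp hσ hcσ),
      map_subtype_subgroupOf (sameAction_le_comp hτ hcτ), e]

end CfsgLib.QP
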