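import Cfsg.Agent.QuadPairs.Special

set_option autoImplicit false
set_option linter.unusedSectionVars false

/-!
Commutators of unipotent pairs of minimal root endomorphisms.
-/

universe u v

namespace CfsgLib.QP

open Cfsg Polynomial

/-- The bracket `ST - TS`. -/
def br {R : Type*} [Ring R] (S T : R) : R := S * T - T * S

variable {k : Type u} [Field k] {M : Type v} [AddCommGroup M] [Module k M] [FiniteDimensional k M]
  {G : Subgroup (LinearMap.GeneralLinearGroup k M)} {S T V N : Module.End k M}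

/-- A unipotent pair of minimal root endomorphisms. -/
structure UniPair (G : Subgroup (LinearMap.GeneralLinearGroup k M)) (S T : Module.End k M) : Prop where
  left : IsMinRoot G S
  right : IsMinRoot G T
  sts : S * (T * S) = 0
  tst : T * (S * T) = 0

theorem UniPair.symm (h : UniPair G S T) : UniPair G T S := ⟨h.right, h.left, h.tst, h.sts⟩

theorem uniPair_of (hS : IsMinRoot G S) (hT : IsMinRoot G T) (h2 : (2 : k) ≠ 0) (h3 : Nat.card k ≠ 3)
    (h : S * T * S = 0) : UniPair G S T := by
  refine ⟨hS, hT, by rw [← mul_assoc]; exact h, ?_⟩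
  by_contra hne
  rw [← mul_assoc] at hne
  exact opposite_symm hT hS h2 h3 hne h

theorem aeval_prime (hS : IsMinRoot G S) {z : Module.End k M} (hzS : Commute z S)
    (hall : ∀ p : k[X], aeval z p * S = 0 ∨ LinearMap.ker (aeval z p * S) = LinearMap.ker S)
    {a b : k[X]} (hab : aeval z (a * b) * S = 0) : aeval z a * S = 0 ∨ aeval z b * S = 0 := by
  rcases hall a with ha | ha
  · exact Or.inl ha
  refine Or.inr ?_
  ext m
  show (aeval z b) (S m) = 0
  have hb : (aeval z b * S) m = S ((aeval z b) m) := by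
    rw [(commute_aeval hzS b).eq]; rfl
  rw [← Module.End.mul_apply, hb]
  refine LinearMap.mem_ker.1 (ha ▸ LinearMap.mem_ker.2 ?_)
  rw [← Module.End.mul_apply, mul_assoc, ← (commute_aeval hzS b).eq, ← mul_assoc, ← map_mul, hab]
  rfl

theorem exists_poly_fix (hS : IsMinRoot G S) (h2 : (2 : k) ≠ 0) (h3 : Nat.card k ≠ 3) (hT : T * T = 0)
    (hfT : HasFam G T) (hne : S * T * S ≠ 0) (N : ℕ) :
    ∃ r : k[X], aeval (S * T + T * S) (r * X ^ N) * S = S := by
  obtain ⟨-, hall⟩ := (pair_dichotomy hS h2 h3 hT hfT).resolve_left hne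
  obtain ⟨q, s, N', -, hN', -, -, hnil⟩ := exists_corner (k := k) (S * T + T * S)
  set z := S * T + T * S with hz
  have hXn : ∀ n, aeval z ((X : k[X]) ^ n) * S ≠ 0 := by
    intro n
    induction n with
    | zero => simpa using hS.ne
    | succ n ih =>
      intro e
      rw [pow_succ'] at e
      rcases aeval_prime hS (commute_z_S hS.sq) hall e with h | h
      · rw [aeval_X, z_mul_S hS.sq] at h; exact hne h
      · exact ih h
  have h0 : aeval z ((X : k[X]) ^ N' * (1 - s * X ^ N')) * S = 0 := by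
    rw [map_mul, map_sub, map_one, hnil, zero_mul]
  have hone : aeval z (s * X ^ N') * S = S := by
    have := (aeval_prime hS (commute_z_S hS.sq) hall h0).resolve_left (hXn N')
    rw [map_sub, map_one, sub_mul, one_mul, sub_eq_zero] at this
    exact this.symm
  have hpow : ∀ n, aeval z ((s * X ^ N') ^ n) * S = S := by
    intro n
    induction n with
    | zero => simp
    | succ n ih => rw [pow_succ, map_mul, mul_assoc, hone, ih]
  refine ⟨s ^ N * X ^ (N' * N - N), ?_⟩
  have hle : N ≤ N' * N := Nat.le_mul_of_pos_left N hN'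
  rw [mul_assoc, ← pow_add, Nat.sub_add_cancel hle, pow_mul, ← mul_pow]
  exact hpow N

theorem sandwich_mem (hS : IsMinRoot G S) (h2 : (2 : k) ≠ 0) (h3 : Nat.card k ≠ 3) (hT : T * T = 0)
    (hfT : HasFam G T) : S * T * S ∈ rootSpace G hS.sq := by
  by_cases hne : S * T * S = 0
  · rw [hne]; exact zero_mem _
  obtain ⟨N, -, hmem⟩ := exists_mem_pairGrp h2 h3 hS.sq hT
  obtain ⟨r, hr⟩ := exists_poly_fix hS h2 h3 hT hfT hne N
  refine ⟨fun m hm => ?_, ?_, fun c => ?_⟩
  · rw [LinearMap.mem_ker] at hm ⊢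
    rw [Module.End.mul_apply, hm, map_zero]
  · rintro _ ⟨m, rfl⟩
    rw [mul_assoc]
    exact ⟨_, rfl⟩
  · obtain ⟨g, hg, e⟩ := hmem (C c * X * r)
    refine ⟨g, pairGrp_le hS.sq hT hS.fam hfT hg, ?_⟩
    rw [e, mul_assoc (C c * X), map_mul, mul_assoc, hr, map_mul, aeval_C, aeval_X, mul_assoc,
      z_mul_S hS.sq, ← Algebra.smul_def]

theorem exists_normal_opposite (hS : IsMinRoot G S) (hT : IsMinRoot G T) (h2 : (2 : k) ≠ 0)
    (h3 : Nat.card k ≠ 3) (h : S * T * S ≠ 0) :
    ∃ V, IsMinRoot G V ∧ V ∈ rootSpace G hT.sq ∧ S * V * S = S ∧ V * S * V = V := by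
  obtain ⟨K, _, _, _, D, hadj, heS, heT, hkS, hkT, -⟩ := exists_corner_field hS hT h2 h3 h
  have hrange := pairGrp_eq_range D h2 h3 hadj heS heT
  set V := D.ι D.β * T with hV
  have hmem : V ∈ rootSpace G hT.sq := by
    refine ⟨fun m hm => ?_, ?_, fun c => ⟨D.homU (low (algebraMap k K c * D.β * D.α)),
      pairGrp_le hS.sq hT.sq hS.fam hT.fam (hrange ▸ ⟨_, rfl⟩), ?_⟩⟩
    · rw [LinearMap.mem_ker] at hm ⊢
      rw [hV, Module.End.mul_apply, hm, map_zero]
    · rintro _ ⟨m, rfl⟩
      rw [hV, (D.comm _).2.eq]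
      exact ⟨_, rfl⟩
    · rw [D.homU_low, D.map_mul, D.map_alg, hV, smul_mul_assoc, smul_mul_assoc, ← D.map_mul, one_mul]
  have e1 : D.ι D.β * (S * T + T * S) = D.ι 1 := by rw [D.mul_z, mul_comm D.β, D.αβ]
  have hSVS : S * V * S = S := by
    rw [hV, ← mul_assoc S, ← (D.comm _).1.eq, mul_assoc, mul_assoc, ← mul_assoc S, ← z_mul_S hS.sq,
      ← mul_assoc, e1, heS]
  have hVSV : V * S * V = V := by
    have h1 : T * (D.ι D.β) = D.ι D.β * T := (D.comm _).2.eq.symm
    have h1' : S * (D.ι D.β) = D.ι D.β * S := (D.comm _).1.eq.symm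
    calc V * S * V = D.ι D.β * (T * (S * D.ι D.β) * T) := by simp only [hV, mul_assoc]
      _ = D.ι D.β * (T * (D.ι D.β * S) * T) := by rw [h1']
      _ = D.ι D.β * (D.ι D.β * (T * S * T)) := by rw [← mul_assoc T, h1]; simp only [mul_assoc]
      _ = D.ι D.β * (D.ι D.β * ((S * T + T * S) * T)) := by rw [add_comm, z_mul_S hT.sq]
      _ = D.ι D.β * T := by rw [← mul_assoc (D.ι D.β) _ T, e1, heT]
  refine ⟨V, (hT.of_mem_rootSpace hmem fun e => hS.ne ?_).1, hmem, hSVS, hVSV⟩
  rw [← hSVS, e, mul_zero, zero_mul]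

/-- Every minimal root endomorphism has an opposite. -/
def HasOpposites (G : Subgroup (LinearMap.GeneralLinearGroup k M)) : Prop :=
  ∀ S, IsMinRoot G S → ∃ T, IsMinRoot G T ∧ S * T * S ≠ 0

theorem rank_add_le (a b : Module.End k M) : rk (a + b) ≤ rk a + rk b := by
  have h : LinearMap.range (a + b) ≤ LinearMap.range a ⊔ LinearMap.range b := by
    rintro _ ⟨m, rfl⟩
    exact Submodule.add_mem_sup ⟨m, rfl⟩ ⟨m, rfl⟩
  refine (Submodule.finrank_mono h).trans ?_
  have := Submodule.finrank_sup_add_finrank_inf_eq (LinearMap.range a) (LinearMap.range b)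
  unfold rk
  omega

theorem rk_mul_le_left (a b : Module.End k M) : rk (a * b) ≤ rk a :=
  Submodule.finrank_mono (LinearMap.range_comp_le_range b a)

theorem rk_mul_le_right (a b : Module.End k M) : rk (a * b) ≤ rk b := by
  unfold rk
  rw [Module.End.mul_eq_comp, LinearMap.range_comp]
  exact Submodule.finrank_map_le _ _

theorem rk_neg (a : Module.End k M) : rk (-a) = rk a := by
  unfold rk; rw [LinearMap.range_neg]

theorem rk_block {P Q : Module.End k M} (h : P * (S * Q) = 0) : rk (S * Q) + rk (P * S) ≤ rk S := by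
  let π : LinearMap.range S →ₗ[k] M := P.comp (LinearMap.range S).subtype
  have h1 := LinearMap.finrank_range_add_finrank_ker π
  have hr : LinearMap.range (P * S) ≤ LinearMap.range π := by
    rintro _ ⟨m, rfl⟩
    exact ⟨⟨S m, m, rfl⟩, rfl⟩
  have hk : (LinearMap.range (S * Q)).comap (LinearMap.range S).subtype ≤ LinearMap.ker π := by
    rintro x ⟨m, hm⟩
    show P (x : M) = 0
    rw [show (x : M) = (S * Q) m from hm.symm]
    exact LinearMap.congr_fun h m
  have e := (Submodule.comapSubtypeEquivOfLe (LinearMap.range_comp_le_range Q S)).finrank_eq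
  have h2 := Submodule.finrank_mono hr
  have h3 := Submodule.finrank_mono hk
  unfold rk
  simp only [Module.End.mul_eq_comp] at *
  omega

theorem UniPair.br_sq (h : UniPair G S T) : br S T * br S T = 0 := by
  simp only [br, mul_sub, sub_mul, mul_assoc]
  simp only [← mul_assoc T T, ← mul_assoc S S, h.left.sq, h.right.sq, h.sts, h.tst, mul_zero, zero_mul, sub_zero]

theorem UniPair.commutator_val (h : UniPair G S T) (c : k) :
    ((fam h.left.sq c * fam h.right.sq (1 : k) * (fam h.left.sq c)⁻¹ * (fam h.right.sq (1 : k))⁻¹ :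
      LinearMap.GeneralLinearGroup k M) : Module.End k M) = 1 + c • br S T := by
  rw [Units.val_mul, Units.val_mul, Units.val_mul, fam_val, fam_val, fam_inv_val, fam_inv_val]
  have eST : ∀ w, S * (T * (S * w)) = 0 := fun w => by
    simpa only [mul_assoc, zero_mul] using congrArg (· * w) h.sts
  have eS : ∀ w, S * (S * w) = 0 := fun w => by rw [← mul_assoc, h.left.sq, zero_mul]
  have eT : ∀ w, T * (T * w) = 0 := fun w => by rw [← mul_assoc, h.right.sq, zero_mul]
  have eTS : ∀ w, T * (S * (T * w)) = 0 := fun w => by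
    simpa only [mul_assoc, zero_mul] using congrArg (· * w) h.tst
  simp only [br, one_smul, mul_add, add_mul, mul_sub, sub_mul, smul_mul_assoc, mul_smul_comm,
    mul_one, one_mul, mul_assoc, h.left.sq, h.right.sq, h.sts, h.tst, eS, eT, eST, eTS, smul_zero, mul_zero, zero_mul, smul_add, smul_sub]
  module

theorem UniPair.br_fam (h : UniPair G S T) : HasFam G (br S T) := fun c =>
  ⟨_, mul_mem (mul_mem (mul_mem (fam_mem h.left.fam h.left.sq c) (fam_mem h.right.fam h.right.sq 1))
    (inv_mem (fam_mem h.left.fam h.left.sq c))) (inv_mem (fam_mem h.right.fam h.right.sq 1)),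
    h.commutator_val c⟩

theorem UniPair.br_mul (h : UniPair G S T) :
    br S T * S = 0 ∧ S * br S T = 0 ∧ br S T * T = 0 ∧ T * br S T = 0 := by
  refine ⟨?_, ?_, ?_, ?_⟩ <;>
    simp only [br, mul_sub, sub_mul, mul_assoc] <;>
    simp only [← mul_assoc T T, ← mul_assoc S S, h.left.sq, h.right.sq, h.sts, h.tst, mul_zero, zero_mul, sub_zero]

theorem UniPair.rk_br_le (h : UniPair G S T) (hT' : IsMinRoot G V) (h2 : (2 : k) ≠ 0)
    (h3 : Nat.card k ≠ 3) (hTV : T * V * T = T) (hVT : V * T * V = V) : rk (br S T) ≤ rk S := by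
  classical
  set U := br S T with hU
  set f := 1 - T * V - V * T with hf
  have eT : ∀ w, T * (V * (T * w)) = T * w := fun w => by
    rw [← mul_assoc, ← mul_assoc, hTV]
  have eT' : T * (V * T) = T := by rw [← mul_assoc, hTV]
  have eV' : V * (T * V) = V := by rw [← mul_assoc, hVT]
  have hblock : rk (S * (T * V)) + rk (V * T * S) ≤ rk S := rk_block (by
    rw [show V * T * (S * (T * V)) = V * (T * (S * T)) * V by simp only [mul_assoc], h.tst, mul_zero, zero_mul])
  have hPQ : V * T * (S * (T * V)) = 0 := by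
    rw [show V * T * (S * (T * V)) = V * (T * (S * T)) * V by simp only [mul_assoc], h.tst, mul_zero, zero_mul]
  by_cases hVUV : V * U * V = 0
  · have hsplit : U = T * (V * U * V) * T + ((1 - T * V) * (S * (T * V)) * T - T * ((V * T * S) * (1 - V * T))) := by
      simp only [hU, br, mul_sub, sub_mul, mul_assoc, one_mul, mul_one, eT', eT, h.tst]
      noncomm_ring
    rw [hVUV, mul_zero, zero_mul, zero_add, sub_eq_add_neg] at hsplit
    rw [hsplit]
    refine (rank_add_le _ _).trans (le_trans (Nat.add_le_add ?_ ?_) hblock)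
    · exact (rk_mul_le_left _ _).trans (rk_mul_le_right _ _)
    · rw [rk_neg]
      exact (rk_mul_le_right _ _).trans (rk_mul_le_left _ _)
  · obtain ⟨N, hN, hmem⟩ := exists_mem_pairGrp h2 h3 h.br_sq hT'.sq
    obtain ⟨r, hr⟩ := exists_poly_fix hT' h2 h3 h.br_sq h.br_fam hVUV N
    set z := U * V + V * U with hz
    rw [add_comm (V * br S T), ← hU, ← hz] at hr
    set W := aeval z (r * X ^ N) * U with hW
    have hfW : HasFam G W := fun c => by
      obtain ⟨g, hg, e⟩ := hmem (C c * r)
      refine ⟨g, pairGrp_le h.br_sq hT'.sq h.br_fam hT'.fam hg, ?_⟩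
      rw [e, hW, hz, hU, mul_assoc (C c), map_mul, aeval_C, mul_assoc, ← Algebra.smul_def]
    set U' := U - W with hU'
    have hfU' : HasFam G U' := by
      rw [hU', sub_eq_add_neg, ← neg_one_smul k W]
      refine h.br_fam.add (hfW.smul _) ?_
      rw [mul_smul_comm, hW, ← mul_assoc, ← (commute_aeval (commute_z_S h.br_sq) _).eq, mul_assoc, h.br_sq,
        mul_zero, smul_zero]
    have hVU' : V * U' = 0 := by
      rw [hU', mul_sub, hW, ← mul_assoc, ← (commute_aeval (commute_z_T hT'.sq) _).eq, hr, sub_self]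
    have hU'V : U' * V = 0 := by
      have e : aeval z (r * X ^ N) * U = U * aeval z (r * X ^ N) := (commute_aeval (commute_z_S h.br_sq) _).eq
      rw [hU', sub_mul, hW, e, mul_assoc, hr, sub_self]
    have hU'0 : U' = 0 := by
      by_contra hne
      have hsq : U' * U' = 0 := by
        have hWU : W * U = 0 := by rw [hW, mul_assoc, h.br_sq, mul_zero]
        have hUW : U * W = 0 := by
          rw [hW, ← mul_assoc, ← (commute_aeval (commute_z_S h.br_sq) _).eq, mul_assoc, h.br_sq, mul_zero]
        have hWW : W * W = 0 := aeval_mul_sq h.br_sq _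
        rw [hU', mul_sub, sub_mul, sub_mul, hWU, hUW, hWW, h.br_sq]
        simp
      have hd := h.left.min U' ⟨hsq, hne, hfU'⟩
      have hWeq : W = U * (aeval z (r * X ^ (N - 1))) * V * U ∧ W = U * V * (aeval z (r * X ^ (N - 1)) * U) := by
        have hN' : r * X ^ N = r * X ^ (N - 1) * X := by
          rw [mul_assoc, ← pow_succ, Nat.sub_add_cancel hN]
        have hc1 := (commute_aeval (commute_z_S (T := V) h.br_sq) (r * X ^ (N - 1))).eq
        have hc2 := (commute_aeval (commute_z_T (S := U) hT'.sq) (r * X ^ (N - 1))).eq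
        rw [← hU, ← hz] at hc1
        rw [← hz] at hc2
        have hW1 : W = U * (aeval z (r * X ^ (N - 1))) * V * U := by
          rw [hW, hN', map_mul, aeval_X, mul_assoc, hz, z_mul_S h.br_sq, ← hz, mul_assoc U V U, ← mul_assoc, hc1]
          simp only [mul_assoc]
        refine ⟨hW1, ?_⟩
        rw [hW1, mul_assoc U _ V, hc2]
        simp only [mul_assoc]
      have hproj : U' = -((1 - T * V) * W * (1 - V * T)) := by
        have e0 : (1 - T * V) * U * (1 - V * T) = 0 := by
          simp only [hU, br, mul_sub, sub_mul, mul_assoc, one_mul, mul_one, eT', eT]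
          noncomm_ring
        calc U' = (1 - T * V) * U' * (1 - V * T) := by
              simp only [sub_mul, mul_sub, one_mul, mul_one, mul_assoc, hVU', mul_zero, sub_zero,
                ← mul_assoc U' V, hU'V, zero_mul]
          _ = _ := by rw [hU', mul_sub (1 - T * V) U W, sub_mul _ _ (1 - V * T), e0, zero_sub]
      have hb1 : rk U' ≤ rk (S * (T * V)) := by
        rw [hproj, rk_neg, hWeq.2]
        refine (rk_mul_le_left _ _).trans ?_
        rw [← mul_assoc (1 - T * V)]
        refine (rk_mul_le_left _ _).trans ?_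
        have : (1 - T * V) * (U * V) = (1 - T * V) * (S * (T * V)) := by
          simp only [hU, br, mul_sub, sub_mul, mul_assoc, one_mul, eT]
          noncomm_ring
        rw [this]
        exact rk_mul_le_right _ _
      have hb2 : rk U' ≤ rk (V * T * S) := by
        rw [hproj, rk_neg, hWeq.1, mul_assoc (1 - T * V), mul_assoc _ V U, mul_assoc (U * _)]
        refine (rk_mul_le_right _ _).trans ((rk_mul_le_right _ _).trans ?_)
        have : V * U * (1 - V * T) = -(V * T * S * (1 - V * T)) := by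
          simp only [hU, br, mul_sub, sub_mul, mul_assoc, mul_one, eT']
          noncomm_ring
        rw [this, rk_neg]
        exact rk_mul_le_left _ _
      have : rk S ≠ 0 := fun e => h.left.ne (LinearMap.range_eq_bot.1 (Submodule.finrank_eq_zero.1 e))
      omega
    rw [sub_eq_zero.1 hU'0, hW]
    obtain ⟨N', rfl⟩ : ∃ N', N = N' + 1 := ⟨N - 1, by omega⟩
    rw [pow_succ, ← mul_assoc, map_mul, aeval_X, mul_assoc, hz, z_mul_S h.br_sq]
    exact (rk_mul_le_right _ _).trans ((rk_mul_le_left _ _).trans ((rk_mul_le_right _ _).trans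
      (hT'.min S h.left.toIsRoot)))

theorem UniPair.br_min (h : UniPair G S T) (hopp : HasOpposites G) (h2 : (2 : k) ≠ 0)
    (h3 : Nat.card k ≠ 3) (hne : br S T ≠ 0) : IsMinRoot G (br S T) := by
  obtain ⟨T', hT', hTT'⟩ := hopp T h.right
  obtain ⟨V, hV, -, h1, h1'⟩ := exists_normal_opposite h.right hT' h2 h3 hTT'
  exact ⟨⟨h.br_sq, hne, h.br_fam⟩, fun W hW => (h.rk_br_le hV h2 h3 h1 h1').trans (h.left.min W hW)⟩

theorem UniPair.of_mem (h : UniPair G S T) (h2 : (2 : k) ≠ 0) (h3 : Nat.card k ≠ 3) {A B : Module.End k M}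
    (hA : A ∈ rootSpace G h.left.sq) (hA0 : A ≠ 0) (hB : B ∈ rootSpace G h.right.sq) (hB0 : B ≠ 0) :
    UniPair G A B := by
  refine uniPair_of (h.left.of_mem_rootSpace hA hA0).1 (h.right.of_mem_rootSpace hB hB0).1 h2 h3 ?_
  exact triple_eq_zero h.left h.right h2 h3 (by rw [mul_assoc]; exact h.sts) hA hB hA

/-- If some non-zero member of the root space of `T` commutes with `S`, then so does `T`. -/
theorem UniPair.br_eq_zero_of_commute (h : UniPair G S T) (hopp : HasOpposites G) (h2 : (2 : k) ≠ 0)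
    (h3 : Nat.card k ≠ 3) (hN : N ∈ rootSpace G h.right.sq) (hN0 : N ≠ 0) (hc : S * N = N * S) :
    br S T = 0 := by
  by_contra hne
  set U := br S T with hU
  obtain ⟨hNm, hk, hr⟩ := h.right.of_mem_rootSpace hN hN0
  have hker : LinearMap.ker T ≤ LinearMap.ker U := by
    intro m hm
    rw [LinearMap.mem_ker] at hm ⊢
    have h1 : N (S m) = 0 := by
      rw [← Module.End.mul_apply, ← hc, Module.End.mul_apply]
      rw [← LinearMap.mem_ker, ← hk, LinearMap.mem_ker] at hm
      rw [hm, map_zero]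
    rw [← LinearMap.mem_ker, hk, LinearMap.mem_ker] at h1
    show S (T m) - T (S m) = 0
    rw [hm, h1, map_zero, sub_zero]
  have hran : LinearMap.range U ≤ LinearMap.range T := by
    rintro _ ⟨m, rfl⟩
    refine Submodule.sub_mem _ ?_ ⟨S m, rfl⟩
    obtain ⟨x, hx⟩ : T m ∈ LinearMap.range N := hr ▸ ⟨m, rfl⟩
    rw [Module.End.mul_apply, ← hx, ← Module.End.mul_apply, hc, ← hr]
    exact ⟨_, rfl⟩
  obtain ⟨-, hkU, hrU⟩ := h.right.of_mem_rootSpace (N := U) ⟨hker, hran, h.br_fam⟩ hne
  have hST : S * T = 0 := by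
    ext m
    obtain ⟨x, hx⟩ : T m ∈ LinearMap.range U := hrU.symm ▸ ⟨m, rfl⟩
    show S (T m) = 0
    rw [← hx, ← Module.End.mul_apply, h.br_mul.2.1]
    rfl
  have hTS : T * S = 0 := by
    ext m
    show T (S m) = 0
    rw [← LinearMap.mem_ker, ← hkU, LinearMap.mem_ker, ← Module.End.mul_apply, h.br_mul.1]
    rfl
  exact hne (by rw [hU, br, hST, hTS, sub_zero])

theorem br_neg (A B : Module.End k M) : br B A = -br A B := by simp [br]

theorem br_add_left (A B C : Module.End k M) : br (A + B) C = br A C + br B C := by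
  simp only [br, add_mul, mul_add]; abel

theorem br_add_right (A B C : Module.End k M) : br A (B + C) = br A B + br A C := by
  simp only [br, add_mul, mul_add]; abel

theorem br_smul_right (A B : Module.End k M) (c : k) : br A (c • B) = c • br A B := by
  simp only [br, mul_smul_comm, smul_mul_assoc, smul_sub]

theorem UniPair.br_ne_zero (h : UniPair G S T) (hopp : HasOpposites G) (h2 : (2 : k) ≠ 0)
    (h3 : Nat.card k ≠ 3) (hne : br S T ≠ 0) (hN : N ∈ rootSpace G h.right.sq) (hN0 : N ≠ 0) :
    br S N ≠ 0 := fun e => hne (h.br_eq_zero_of_commute hopp h2 h3 hN hN0 (sub_eq_zero.1 e))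

/-- The kernel of a bracket. -/
theorem UniPair.br_shape (h : UniPair G S T) (hopp : HasOpposites G) (h2 : (2 : k) ≠ 0)
    (h3 : Nat.card k ≠ 3) (hne : br S T ≠ 0) :
    LinearMap.range (br S T) =
        (LinearMap.range S).map T ⊔ (LinearMap.range S ⊓ LinearMap.ker T) ∧
      LinearMap.ker (br S T) = LinearMap.ker (S * T) ⊓ (LinearMap.ker S ⊔ LinearMap.range T) := by
  set U := br S T with hU
  have hUm := h.br_min hopp h2 h3 hne
  have hd : rk U = rk S := le_antisymm (hUm.min S h.left.toIsRoot) (h.left.min U hUm.toIsRoot)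
  have hd' : rk T = rk S := le_antisymm (h.right.min S h.left.toIsRoot) (h.left.min T h.right.toIsRoot)
  have e1 : ∀ x, S (S x) = 0 := fun x => LinearMap.congr_fun h.left.sq x
  have e2 : ∀ x, T (T x) = 0 := fun x => LinearMap.congr_fun h.right.sq x
  have e3 : ∀ x, S (T (S x)) = 0 := fun x => LinearMap.congr_fun h.sts x
  have e4 : ∀ x, T (S (T x)) = 0 := fun x => LinearMap.congr_fun h.tst x
  constructor
  · refine Submodule.eq_of_le_of_finrank_le ?_ ?_
    · rintro _ ⟨m, rfl⟩
      show S (T m) - T (S m) ∈ _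
      refine Submodule.sub_mem _ (Submodule.mem_sup_right ⟨⟨_, rfl⟩, e4 m⟩)
        (Submodule.mem_sup_left ⟨S m, ⟨m, rfl⟩, rfl⟩)
    · have h0 := Submodule.finrank_add_le_finrank_add_finrank ((LinearMap.range S).map T)
        (LinearMap.range S ⊓ LinearMap.ker T)
      have h1 := LinearMap.finrank_range_add_finrank_ker (T.comp (LinearMap.range S).subtype)
      rw [LinearMap.range_comp, Submodule.range_subtype] at h1
      have h4 : Module.finrank k ↥(LinearMap.range S ⊓ LinearMap.ker T) ≤
          Module.finrank k ↥(LinearMap.ker (T.comp (LinearMap.range S).subtype)) := by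
        let j : ↥(LinearMap.range S ⊓ LinearMap.ker T) →ₗ[k] ↥(LinearMap.ker (T.comp (LinearMap.range S).subtype)) :=
          { toFun := fun x => ⟨⟨x.1, x.2.1⟩, x.2.2⟩
            map_add' := fun _ _ => rfl
            map_smul' := fun _ _ => rfl }
        exact LinearMap.finrank_le_finrank_of_injective (f := j) fun a b e => Subtype.ext (congrArg (fun w => (w.1 : M)) e)
      unfold rk at hd
      omega
  · symm
    refine Submodule.eq_of_le_of_finrank_le ?_ ?_
    · rintro m ⟨hm, hm'⟩
      obtain ⟨a, ha, b, ⟨y, rfl⟩, rfl⟩ := Submodule.mem_sup.1 hm'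
      rw [SetLike.mem_coe, LinearMap.mem_ker, Module.End.mul_apply, map_add, map_add, e2, map_zero, add_zero] at hm
      rw [LinearMap.mem_ker] at ha ⊢
      show S (T (a + T y)) - T (S (a + T y)) = 0
      simp only [map_add, e2, map_zero, add_zero, hm, ha, zero_add, e4, sub_zero]
    · set P := LinearMap.ker S ⊔ LinearMap.range T
      have hP := Submodule.finrank_sup_add_finrank_inf_eq (LinearMap.ker S) (LinearMap.range T)
      have h1 := LinearMap.finrank_range_add_finrank_ker ((S * T).comp P.subtype)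
      have h2' := LinearMap.finrank_range_add_finrank_ker (S.comp (LinearMap.range T).subtype)
      have h4 : Module.finrank k ↥(LinearMap.ker ((S * T).comp P.subtype)) ≤
          Module.finrank k ↥(LinearMap.ker (S * T) ⊓ P) := by
        let j : ↥(LinearMap.ker ((S * T).comp P.subtype)) →ₗ[k] ↥(LinearMap.ker (S * T) ⊓ P) :=
          { toFun := fun x => ⟨x.1.1, x.2, x.1.2⟩
            map_add' := fun _ _ => rfl
            map_smul' := fun _ _ => rfl }
        exact LinearMap.finrank_le_finrank_of_injective (f := j) fun a b e =>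
          Subtype.ext (Subtype.ext (congrArg (fun w => (w.1 : M)) e))
      have h5 : Module.finrank k ↥(LinearMap.range ((S * T).comp P.subtype)) ≤
          Module.finrank k ↥(LinearMap.range (S.comp (LinearMap.range T).subtype)) := by
        refine Submodule.finrank_mono ?_
        rintro _ ⟨x, rfl⟩
        exact ⟨⟨T x.1, _, rfl⟩, rfl⟩
      have h6 : Module.finrank k ↥(LinearMap.ker (S.comp (LinearMap.range T).subtype)) =
          Module.finrank k ↥(LinearMap.ker S ⊓ LinearMap.range T) := by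
        refine LinearEquiv.finrank_eq
          { toFun := fun x => ⟨x.1.1, x.2, x.1.2⟩
            invFun := fun x => ⟨⟨x.1, x.2.2⟩, x.2.1⟩
            map_add' := fun _ _ => rfl
            map_smul' := fun _ _ => rfl
            left_inv := fun _ => rfl
            right_inv := fun _ => rfl }
      have e5 := LinearMap.finrank_range_add_finrank_ker U
      have e6 := LinearMap.finrank_range_add_finrank_ker S
      unfold rk at hd hd'
      show Module.finrank k ↥(LinearMap.ker U) ≤ _
      have hP' : Module.finrank k ↥P + Module.finrank k ↥(LinearMap.ker S ⊓ LinearMap.range T) =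
          Module.finrank k ↥(LinearMap.ker S) + Module.finrank k ↥(LinearMap.range T) := hP
      omega

theorem UniPair.br_mem_right (h : UniPair G S T) (hopp : HasOpposites G) (h2 : (2 : k) ≠ 0)
    (h3 : Nat.card k ≠ 3) (hne : br S T ≠ 0) {A : Module.End k M} (hA : A ∈ rootSpace G h.left.sq) :
    br A T ∈ rootSpace G h.br_sq := by
  by_cases hA0 : A = 0
  · rw [hA0, show ∀ B : Module.End k M, CfsgLib.QP.br 0 B = 0 from fun B => by simp [CfsgLib.QP.br]]; exact zero_mem _
  obtain ⟨-, hk, hr⟩ := h.left.of_mem_rootSpace hA hA0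
  have hAT := h.of_mem h2 h3 hA hA0 (mem_rootSpace_self h.right.toIsRoot) h.right.ne
  have hne' : br A T ≠ 0 := by
    intro e
    have := h.symm.br_ne_zero hopp h2 h3 (by rw [br_neg, neg_ne_zero]; exact hne) hA hA0
    exact this (by rw [br_neg, e, neg_zero])
  obtain ⟨r1, k1⟩ := h.br_shape hopp h2 h3 hne
  obtain ⟨r2, k2⟩ := hAT.br_shape hopp h2 h3 hne'
  refine ⟨?_, ?_, hAT.br_fam⟩
  · rw [k1, k2, hk, show LinearMap.ker (S * T) = (LinearMap.ker S).comap T from rfl,
      show LinearMap.ker (A * T) = (LinearMap.ker A).comap T from rfl, hk]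
  · rw [r1, r2, hr]

theorem UniPair.br_mem (h : UniPair G S T) (hopp : HasOpposites G) (h2 : (2 : k) ≠ 0)
    (h3 : Nat.card k ≠ 3) (hne : br S T ≠ 0) {A B : Module.End k M} (hA : A ∈ rootSpace G h.left.sq)
    (hB : B ∈ rootSpace G h.right.sq) : br A B ∈ rootSpace G h.br_sq := by
  by_cases hA0 : A = 0
  · rw [hA0, show ∀ B : Module.End k M, CfsgLib.QP.br 0 B = 0 from fun B => by simp [CfsgLib.QP.br]]; exact zero_mem _
  have hAT := h.of_mem h2 h3 hA hA0 (mem_rootSpace_self h.right.toIsRoot) h.right.ne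
  have hne' : br A T ≠ 0 := by
    intro e
    have := h.symm.br_ne_zero hopp h2 h3 (by rw [br_neg, neg_ne_zero]; exact hne) hA hA0
    exact this (by rw [br_neg, e, neg_zero])
  have h1 := h.br_mem_right hopp h2 h3 hne hA
  obtain ⟨-, hk, hr⟩ := (h.br_min hopp h2 h3 hne).of_mem_rootSpace h1 hne'
  have hBA := (hAT.symm).br_mem_right hopp h2 h3 (by rw [br_neg, neg_ne_zero]; exact hne') (A := B) hB
  have e : br T A = -br A T := br_neg A T
  have hsq : -br A T * -br A T = 0 := by rw [neg_mul_neg, hAT.br_sq]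
  have hrs : rootSpace G hAT.symm.br_sq = rootSpace G h.br_sq := by
    refine rootSpace_eq ?_ ?_
    · rw [e, LinearMap.ker_neg, hk]
    · rw [e, LinearMap.range_neg, hr]
  rw [hrs] at hBA
  rw [show CfsgLib.QP.br A B = -CfsgLib.QP.br B A from br_neg B A]
  exact neg_mem hBA

/-- The bracket with `S` as a linear map between root spaces. -/
noncomputable def UniPair.brMap (h : UniPair G S T) (hopp : HasOpposites G) (h2 : (2 : k) ≠ 0)
    (h3 : Nat.card k ≠ 3) (hne : br S T ≠ 0) : rootSpace G h.right.sq →ₗ[k] rootSpace G h.br_sq where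
  toFun N := ⟨br S N.1, h.br_mem hopp h2 h3 hne (mem_rootSpace_self h.left.toIsRoot) N.2⟩
  map_add' a b := Subtype.ext (br_add_right _ _ _)
  map_smul' c a := Subtype.ext (br_smul_right _ _ _)

theorem UniPair.brMap_injective (h : UniPair G S T) (hopp : HasOpposites G) (h2 : (2 : k) ≠ 0)
    (h3 : Nat.card k ≠ 3) (hne : br S T ≠ 0) : Function.Injective (h.brMap hopp h2 h3 hne) := by
  rw [injective_iff_map_eq_zero]
  intro N hN
  by_contra hN0
  exact h.br_ne_zero hopp h2 h3 hne N.2 (fun e => hN0 (Subtype.ext e)) (congrArg Subtype.val hN)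

theorem UniPair.map_ker_le (h : UniPair G S T) (hopp : HasOpposites G) (h2 : (2 : k) ≠ 0)
    (h3 : Nat.card k ≠ 3) (hne : br S T ≠ 0) :
    ∀ m ∈ LinearMap.ker (br S T), T m ∈ LinearMap.range (br S T) := by
  intro m hm
  have hk := (h.br_shape hopp h2 h3 hne).2
  have hr := (h.symm.br_shape hopp h2 h3 (by rw [br_neg, neg_ne_zero]; exact hne)).1
  rw [br_neg, LinearMap.range_neg] at hr
  rw [hk] at hm
  obtain ⟨hm1, hm2⟩ := hm
  obtain ⟨a, ha, b, ⟨y, rfl⟩, rfl⟩ := Submodule.mem_sup.1 hm2
  have e2 : T (T y) = 0 := LinearMap.congr_fun h.right.sq y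
  rw [SetLike.mem_coe, LinearMap.mem_ker, Module.End.mul_apply, map_add, e2, add_zero] at hm1
  rw [map_add, e2, add_zero, hr]
  exact Submodule.mem_sup_right ⟨⟨a, rfl⟩, hm1⟩

theorem br_br_eq {R : Type*} [Ring R] {V T U : R} (h1 : T * U = 0) (h2 : U * T = 0) :
    br (br V T) U = -(U * V * T + T * (V * U)) ∧ U * br V T * U = 0 := by
  refine ⟨?_, ?_⟩
  · simp only [br, sub_mul, mul_sub, mul_assoc, h1, mul_zero]
    rw [← mul_assoc U T, h2, zero_mul]
    abel
  · simp only [br, mul_sub, sub_mul, mul_assoc, h1, mul_zero]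
    rw [← mul_assoc U T, h2, zero_mul, sub_zero]

theorem UniPair.finrank_eq_pure (h : UniPair G S T) (hopp : HasOpposites G) (h2 : (2 : k) ≠ 0)
    (h3 : Nat.card k ≠ 3) (hne : br S T ≠ 0) (hV : IsMinRoot G V) (hUV : br S T * V * br S T = br S T)
    (hVT : V * T * V = 0) :
    Module.finrank k (rootSpace G h.right.sq) = Module.finrank k (rootSpace G h.br_sq) := by
  refine le_antisymm (LinearMap.finrank_le_finrank_of_injective (h.brMap_injective hopp h2 h3 hne)) ?_
  obtain ⟨hUS, hSU, hUT, hTU⟩ := h.br_mul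
  have hVTp : UniPair G V T := uniPair_of hV h.right h2 h3 hVT
  have hUm := h.br_min hopp h2 h3 hne
  have hmap := h.map_ker_le hopp h2 h3 hne
  -- `T` is the sum of its two graded pieces
  have hT : T = (br S T) * V * T + T * (V * (br S T)) := by
    ext m
    have hm : m - (V * (br S T)) m ∈ LinearMap.ker (br S T) := by
      rw [LinearMap.mem_ker, map_sub, ← Module.End.mul_apply, ← mul_assoc, hUV, sub_self]
    obtain ⟨x, hx⟩ := hmap _ hm
    have h1 : ((br S T) * V) (T (m - (V * (br S T)) m)) = T (m - (V * (br S T)) m) := by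
      rw [← hx, ← Module.End.mul_apply, hUV]
    have h0 : ((br S T) * V) (T ((V * (br S T)) m)) = 0 := by
      show (br S T) ((V * T * V) ((br S T) m)) = 0
      rw [hVT]; simp
    rw [map_sub, map_sub, h0, sub_zero, eq_sub_iff_add_eq] at h1
    exact h1.symm
  have hbr : CfsgLib.QP.br (CfsgLib.QP.br V T) (br S T) = -T := by
    rw [(br_br_eq hTU hUT).1, ← hT]
  have hne1 : CfsgLib.QP.br V T ≠ 0 := by
    intro e
    rw [e] at hbr
    simp [CfsgLib.QP.br] at hbr
    exact h.right.ne hbr
  have hne2 : CfsgLib.QP.br (CfsgLib.QP.br V T) (br S T) ≠ 0 := by rw [hbr, neg_ne_zero]; exact h.right.ne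
  have hp : UniPair G (CfsgLib.QP.br V T) (br S T) := by
    refine (uniPair_of hUm (hVTp.br_min hopp h2 h3 hne1) h2 h3 ?_).symm
    exact (br_br_eq hTU hUT).2
  have h1 : rootSpace G hp.br_sq = rootSpace G h.right.sq :=
    rootSpace_eq (by rw [hbr, LinearMap.ker_neg]) (by rw [hbr, LinearMap.range_neg])
  have := LinearMap.finrank_le_finrank_of_injective (hp.brMap_injective hopp h2 h3 hne2)
  rw [h1] at this
  exact this

/-- The root space of a bracket has the dimension of the root space of either factor. -/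
theorem UniPair.finrank_eq (h : UniPair G S T) (hopp : HasOpposites G) (h2 : (2 : k) ≠ 0)
    (h3 : Nat.card k ≠ 3) (hne : br S T ≠ 0) :
    Module.finrank k (rootSpace G h.right.sq) = Module.finrank k (rootSpace G h.br_sq) := by
  classical
  obtain ⟨hUS, hSU, hUT, hTU⟩ := h.br_mul
  have hUm := h.br_min hopp h2 h3 hne
  obtain ⟨W, hW, hUW⟩ := hopp _ hUm
  obtain ⟨V, hV, -, hUV, hVU⟩ := exists_normal_opposite hUm hW h2 h3 hUW
  -- remove the top graded pieces
  have key : ∀ A, A * A = 0 → HasFam G A → br S T * A = 0 → A * br S T = 0 →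
      ∃ P ∈ rootSpace G h.br_sq, P = br S T * (V * A * V) * br S T ∧
        (A - P) * (A - P) = 0 ∧ HasFam G (A - P) ∧ V * (A - P) * V = 0 := by
    intro A hA hfA hUA hAU
    have hP1 := sandwich_mem hV h2 h3 hA hfA
    have hP2 := sandwich_mem hUm h2 h3 (mul_eq_zero_of_mem hP1 hP1) hP1.2.2
    set P := br S T * (V * A * V) * br S T with hP
    have hPA : P * A = 0 := by rw [hP, mul_assoc _ _ A, hUA, mul_zero]
    have hAP : A * P = 0 := by rw [hP, ← mul_assoc, ← mul_assoc A, hAU, zero_mul, zero_mul]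
    have hPP : P * P = 0 := mul_eq_zero_of_mem hP2 hP2
    refine ⟨P, hP2, hP, ?_, ?_, ?_⟩
    · rw [mul_sub, sub_mul, sub_mul, hA, hPA, hAP, hPP]; simp
    · rw [sub_eq_add_neg]
      exact hfA.add (hP2.2.2.smul (-1) |> fun e => by rwa [neg_one_smul] at e) (by rw [mul_neg, hAP, neg_zero])
    · rw [mul_sub, sub_mul, sub_eq_zero, hP]
      conv_lhs => rw [← hVU]
      simp only [mul_assoc]
  obtain ⟨P, hP, hPeq, hT0sq, hT0f, hVT0⟩ := key T h.right.sq h.right.fam hUT hTU
  obtain ⟨Q, hQ, hQeq, hS0sq, hS0f, hVS0⟩ := key S h.left.sq h.left.fam hUS hSU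
  -- both are minimal
  have hmin : ∀ A P', IsMinRoot G A → A - P' ≠ 0 → (A - P') * (A - P') = 0 → HasFam G (A - P') →
      rk (A - P') ≤ rk A → IsMinRoot G (A - P') := fun A P' hA h0 hsq hf hr =>
    ⟨⟨hsq, h0, hf⟩, fun W hW => hr.trans (hA.min W hW)⟩
  have hkill : ∀ A P', A ∈ rootSpace G h.br_sq → (P' = S ∨ P' = T) → A * P' = 0 ∧ P' * A = 0 := by
    intro A P' hA hP'
    constructor
    · ext m
      show A (P' m) = 0
      refine LinearMap.mem_ker.1 (hA.1 (LinearMap.mem_ker.2 ?_))
      rcases hP' with rfl | rfl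
      · rw [← Module.End.mul_apply, hUS]; rfl
      · rw [← Module.End.mul_apply, hUT]; rfl
    · ext m
      obtain ⟨x, hx⟩ := hA.2.1 ⟨m, rfl⟩
      show P' (A m) = 0
      rw [← hx]
      rcases hP' with rfl | rfl
      · rw [← Module.End.mul_apply, hSU]; rfl
      · rw [← Module.End.mul_apply, hTU]; rfl
  obtain ⟨hQT, hTQ⟩ := hkill Q T hQ (Or.inr rfl)
  obtain ⟨hQS, hSQ⟩ := hkill Q S hQ (Or.inl rfl)
  obtain ⟨hPT, hTP⟩ := hkill P T hP (Or.inr rfl)
  obtain ⟨hPS, hSP⟩ := hkill P S hP (Or.inl rfl)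
  have hPQ : P * Q = 0 ∧ Q * P = 0 := ⟨mul_eq_zero_of_mem hP hQ, mul_eq_zero_of_mem hQ hP⟩
  -- ranks
  have hrank : ∀ A P', (∀ m ∈ LinearMap.ker (br S T), A m ∈ LinearMap.range (br S T)) →
      br S T * A = 0 → P' = br S T * (V * A * V) * br S T → rk (A - P') ≤ rk A := by
    intro A P' hmap hUA hP'
    have hdec : A - P' = br S T * V * A * (1 - V * br S T) + (1 - br S T * V) * A * (V * br S T) := by
      have h1 : (1 - br S T * V) * A * (1 - V * br S T) = 0 := by
        ext m
        have hm : m - (V * br S T) m ∈ LinearMap.ker (br S T) := by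
          rw [LinearMap.mem_ker, map_sub, ← Module.End.mul_apply, ← mul_assoc, hUV, sub_self]
        obtain ⟨x, hx⟩ := hmap _ hm
        show (1 - br S T * V) (A ((1 - V * br S T) m)) = 0
        rw [LinearMap.sub_apply, LinearMap.sub_apply, Module.End.one_apply, Module.End.one_apply, ← hx,
          ← Module.End.mul_apply, hUV, sub_self]
      rw [hP']
      simp only [mul_sub, sub_mul, mul_one, one_mul, mul_assoc] at h1 ⊢
      linear_combination (norm := abel) h1
    have hblock := rk_block (S := A) (P := 1 - br S T * V) (Q := 1 - V * br S T) (by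
      ext m
      have hm : m - (V * br S T) m ∈ LinearMap.ker (br S T) := by
        rw [LinearMap.mem_ker, map_sub, ← Module.End.mul_apply, ← mul_assoc, hUV, sub_self]
      obtain ⟨x, hx⟩ := hmap _ hm
      show (1 - br S T * V) (A ((1 - V * br S T) m)) = 0
      rw [LinearMap.sub_apply, LinearMap.sub_apply, Module.End.one_apply, Module.End.one_apply, ← hx,
        ← Module.End.mul_apply, hUV, sub_self])
    rw [hdec]
    refine (rank_add_le _ _).trans (le_trans (Nat.add_le_add ?_ ?_) hblock)
    · rw [mul_assoc]; exact rk_mul_le_right _ _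
    · exact rk_mul_le_left _ _
  have hne' : br T S ≠ 0 := by rw [br_neg, neg_ne_zero]; exact hne
  have hrT := hrank T P (h.map_ker_le hopp h2 h3 hne) hUT hPeq
  have hrS := hrank S Q (fun m hm => by
    have := h.symm.map_ker_le hopp h2 h3 hne' m
    rw [br_neg, LinearMap.ker_neg, LinearMap.range_neg] at this
    exact this hm) hUS hQeq
  have ebr : br (S - Q) (T - P) = br S T := by
    simp only [br, mul_sub, sub_mul, hSP, hPS, hQT, hTQ, hPQ.1, hPQ.2, sub_zero]
  have hS00 : S - Q ≠ 0 := fun e => hne (by rw [← ebr, e]; simp [br])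
  have hT00 : T - P ≠ 0 := fun e => hne (by rw [← ebr, e]; simp [br])
  have eTS : (T - P) * (S - Q) = T * S := by
    simp only [mul_sub, sub_mul, hPS, hTQ, hPQ.1, sub_zero]
  have eST : (S - Q) * (T - P) = S * T := by
    simp only [mul_sub, sub_mul, hSP, hQT, hPQ.2, sub_zero]
  have hp : UniPair G (S - Q) (T - P) :=
    ⟨hmin S Q h.left hS00 hS0sq hS0f hrS, hmin T P h.right hT00 hT0sq hT0f hrT,
      by rw [eTS, sub_mul, h.sts, ← mul_assoc, hQT, zero_mul, sub_zero],
      by rw [eST, sub_mul, h.tst, ← mul_assoc, hPS, zero_mul, sub_zero]⟩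
  have hne0 : br (S - Q) (T - P) ≠ 0 := by rw [ebr]; exact hne
  have hne0' : br (T - P) (S - Q) ≠ 0 := by rw [br_neg, neg_ne_zero]; exact hne0
  have eT0 := hp.finrank_eq_pure hopp h2 h3 hne0 hV (by rw [ebr]; exact hUV) hVT0
  have hVm : IsMinRoot G (-V) :=
    (hV.of_mem_rootSpace (neg_mem (mem_rootSpace_self hV.toIsRoot)) (neg_ne_zero.2 hV.ne)).1
  have hbS : br (T - P) (S - Q) = -br S T := by rw [br_neg, ebr]
  have eS0 := hp.symm.finrank_eq_pure hopp h2 h3 hne0' hVm
    (by rw [hbS, neg_mul_neg, mul_neg, hUV]) (by rw [neg_mul, neg_mul_neg, hVS0])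
  have e1 : rootSpace G hp.br_sq = rootSpace G h.br_sq := rootSpace_eq (by rw [ebr]) (by rw [ebr])
  have e2 : rootSpace G hp.symm.br_sq = rootSpace G h.br_sq :=
    rootSpace_eq (by rw [hbS, LinearMap.ker_neg]) (by rw [hbS, LinearMap.range_neg])
  rw [e1] at eT0
  -- conjugate `T - P` to `T`
  have hsurj : Function.Surjective (hp.symm.brMap hopp h2 h3 hne0') :=
    (LinearMap.injective_iff_surjective_of_finrank_eq_finrank eS0).1 (hp.symm.brMap_injective hopp h2 h3 hne0')
  obtain ⟨S', hS'⟩ := hsurj ⟨-P, e2.symm ▸ neg_mem hP⟩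
  have hS'e : br S'.1 (T - P) = P := by
    rw [br_neg (T - P) S'.1, show br (T - P) S'.1 = -P from congrArg Subtype.val hS', neg_neg]
  have hsq' : S'.1 * S'.1 = 0 := mul_eq_zero_of_mem S'.2 S'.2
  have hg : fam (k := k) hsq' 1 ∈ G := fam_mem S'.2.2.2 hsq' 1
  have hconj : conjEnd (fam (k := k) hsq' 1) (T - P) = T := by
    have h0 : S'.1 * (T - P) * S'.1 = 0 :=
      triple_eq_zero hp.left hp.right h2 h3 (by rw [mul_assoc]; exact hp.sts) S'.2
        (mem_rootSpace_self hp.right.toIsRoot) S'.2
    rw [conjEnd, fam_val, fam_inv_val, one_smul]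
    calc (1 + S'.1) * (T - P) * (1 - S'.1)
        = (T - P) + br S'.1 (T - P) - S'.1 * (T - P) * S'.1 := by simp only [br]; noncomm_ring
      _ = T := by rw [h0, hS'e, sub_zero, sub_add_cancel]
  have hle : Module.finrank k (rootSpace G hp.right.sq) ≤ Module.finrank k (rootSpace G h.right.sq) := by
    let j : rootSpace G hp.right.sq →ₗ[k] rootSpace G h.right.sq :=
      { toFun := fun N => ⟨conjEnd (fam (k := k) hsq' 1) N.1, ⟨by
            have := Submodule.map_mono (f := ((fam (k := k) hsq' 1 : (Module.End k M)ˣ) : Module.End k M)) N.2.1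
            rw [← ker_conjEnd, ← ker_conjEnd, hconj] at this
            exact this, by
            have := Submodule.map_mono (f := ((fam (k := k) hsq' 1 : (Module.End k M)ˣ) : Module.End k M)) N.2.2.1
            rw [← range_conjEnd, ← range_conjEnd, hconj] at this
            exact this, N.2.2.2.conj hg⟩⟩
        map_add' := fun a b => Subtype.ext (by
          show conjEnd _ (a.1 + b.1) = conjEnd _ a.1 + conjEnd _ b.1
          simp only [conjEnd, mul_add, add_mul])
        map_smul' := fun c a => Subtype.ext (by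
          show conjEnd _ (c • a.1) = c • conjEnd _ a.1
          simp only [conjEnd, mul_smul_comm, smul_mul_assoc]) }
    refine LinearMap.finrank_le_finrank_of_injective (f := j) ((injective_iff_map_eq_zero j).2 fun N hN => ?_)
    exact Subtype.ext (conjEnd_eq_zero (congrArg Subtype.val hN))
  exact le_antisymm (LinearMap.finrank_le_finrank_of_injective (h.brMap_injective hopp h2 h3 hne))
    (eT0 ▸ hle)

theorem UniPair.brMap_surjective (h : UniPair G S T) (hopp : HasOpposites G) (h2 : (2 : k) ≠ 0)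
    (h3 : Nat.card k ≠ 3) (hne : br S T ≠ 0) : Function.Surjective (h.brMap hopp h2 h3 hne) :=
  (LinearMap.injective_iff_surjective_of_finrank_eq_finrank (h.finrank_eq hopp h2 h3 hne)).1
    (h.brMap_injective hopp h2 h3 hne)

end CfsgLib.QP
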