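import Cfsg.Agent.QuadPairs.Components

set_option autoImplicit false
set_option linter.unusedSectionVars false

/-!
Roots not opposite to any root group centralise all of them; every root lies in one component or centralises all.
-/

universe u v

namespace CfsgLib.QP

open Cfsg Polynomial commutatorElement

variable {k : Type u} [Field k] {M : Type v} [AddCommGroup M] [Module k M] [FiniteDimensional k M]
  {G H : Subgroup (LinearMap.GeneralLinearGroup k M)} {S T N : Module.End k M}

/-- `N` is sandwiched to zero by all minimal root endomorphisms. -/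
def Sandwiched (H : Subgroup (LinearMap.GeneralLinearGroup k M)) (N : Module.End k M) : Prop :=
  ∀ S, IsMinRoot H S → S * N * S = 0

/-- The span of the minimal root endomorphisms. -/
def rootSpan (H : Subgroup (LinearMap.GeneralLinearGroup k M)) : Submodule k (Module.End k M) :=
  Submodule.span k {S | IsMinRoot H S}

theorem exists_split (hN : IsRoot H N) (hS : IsMinRoot H S) (h2 : (2 : k) ≠ 0) (h3 : Nat.card k ≠ 3)
    (hne : S * N * S ≠ 0) :
    ∃ N₁, IsMinRoot H N₁ ∧ N₁ * (N - N₁) = 0 ∧ (N - N₁) * N₁ = 0 ∧ (N - N₁) * (N - N₁) = 0 ∧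
      HasFam H (N - N₁) ∧ rk (N - N₁) < rk N := by
  obtain ⟨d, hd, hmem⟩ := exists_mem_pairGrp h2 h3 hN.sq hS.sq
  obtain ⟨r, hr⟩ := exists_poly_fix hS h2 h3 hN.sq hN.fam hne d
  obtain ⟨z, hz⟩ : ∃ z, z = S * N + N * S := ⟨_, rfl⟩
  rw [← hz] at hr
  have hz' : N * S + S * N = z := by rw [hz, add_comm]
  rw [hz'] at hmem
  have hcN : Commute (aeval z (r * X ^ d)) N := commute_aeval (hz ▸ commute_z_T hN.sq) _
  have hcS : Commute (aeval z (r * X ^ d)) S := commute_aeval (hz ▸ commute_z_S hS.sq) _
  obtain ⟨e, he⟩ : ∃ e, e = aeval z (r * X ^ d) := ⟨_, rfl⟩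
  rw [← he] at hr hcN hcS
  obtain ⟨N₁, hN₁⟩ : ∃ N₁, N₁ = e * N := ⟨_, rfl⟩
  have hfam : HasFam H N₁ := fun c => by
    obtain ⟨g, hg, eg⟩ := hmem (C c * r)
    refine ⟨g, pairGrp_le hN.sq hS.sq hN.fam hS.fam hg, ?_⟩
    rw [eg, hN₁, he, mul_assoc (C c), map_mul, aeval_C, mul_assoc, ← Algebra.smul_def]
  have hNeN : N * (e * N) = 0 := by rw [← mul_assoc, ← hcN.eq, mul_assoc, hN.sq, mul_zero]
  have hsq₁ : N₁ * N₁ = 0 := by rw [hN₁, mul_assoc, hNeN, mul_zero]
  have hN1N : N₁ * N = 0 := by rw [hN₁, mul_assoc, hN.sq, mul_zero]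
  have hNN1 : N * N₁ = 0 := by rw [hN₁]; exact hNeN
  have hSN₁S : S * N₁ * S = S * N * S := by
    rw [hN₁, mul_assoc S, mul_assoc e, ← mul_assoc S e, ← hcS.eq, hr, mul_assoc]
  have hne₁ : N₁ ≠ 0 := fun h0 => hne (by rw [← hSN₁S, h0, mul_zero, zero_mul])
  have hrk : rk N₁ ≤ rk S := by
    obtain ⟨d', rfl⟩ : ∃ d', d = d' + 1 := ⟨d - 1, by omega⟩
    have hzN : z * N = N * S * N := by rw [← hz']; exact z_mul_S hN.sq
    rw [hN₁, he, pow_succ, ← mul_assoc, map_mul, aeval_X, mul_assoc, hzN]
    exact (rk_mul_le_right _ _).trans ((rk_mul_le_left _ _).trans (rk_mul_le_right _ _))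
  have hmin : IsMinRoot H N₁ := ⟨⟨hsq₁, hne₁, hfam⟩, fun W hW => hrk.trans (hS.min W hW)⟩
  have hRS : (N - N₁) * S = 0 := by
    rw [sub_mul, hN₁, hcN.eq, mul_assoc N e S, hr, sub_self]
  refine ⟨N₁, hmin, by rw [mul_sub, hN1N, hsq₁, sub_zero], by rw [sub_mul, hNN1, hsq₁, sub_zero], ?_, ?_, ?_⟩
  · rw [mul_sub, sub_mul, sub_mul, hN.sq, hN1N, hNN1, hsq₁]; simp
  · rw [sub_eq_add_neg, ← neg_one_smul k N₁]
    exact hN.fam.add (hfam.smul _) (by rw [mul_smul_comm, hNN1, smul_zero])
  · have hker : LinearMap.ker N ≤ LinearMap.ker (N - N₁) := fun m hm => by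
      rw [LinearMap.mem_ker] at hm ⊢
      rw [LinearMap.sub_apply, hN₁, Module.End.mul_apply, hm, map_zero, sub_zero]
    have hlt : LinearMap.ker N < LinearMap.ker (N - N₁) := by
      refine lt_of_le_of_ne hker fun heq => hne ?_
      ext m
      show S (N (S m)) = 0
      have : S m ∈ LinearMap.ker N := by
        rw [heq, LinearMap.mem_ker, ← Module.End.mul_apply, hRS]
        rfl
      rw [LinearMap.mem_ker.1 this, map_zero]
    have h1 := Submodule.finrank_lt_finrank_of_lt hlt
    have h4 := LinearMap.finrank_range_add_finrank_ker N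
    have h5 := LinearMap.finrank_range_add_finrank_ker (N - N₁)
    unfold rk
    omega

theorem conjEnd_mem_rootSpan {g : LinearMap.GeneralLinearGroup k M} (hg : conjBy H g = H) {X : Module.End k M}
    (hX : X ∈ rootSpan H) : conjEnd g X ∈ rootSpan H := by
  induction hX using Submodule.span_induction with
  | mem x hx => exact Submodule.subset_span (IsMinRoot.conj_of_normalizes hx hg)
  | zero => rw [conjEnd_zero]; exact zero_mem _
  | add x y _ _ hx hy => rw [conjEnd_add]; exact add_mem hx hy
  | smul c x _ hx => rw [conjEnd_smul]; exact Submodule.smul_mem _ c hx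

theorem Sandwiched.conj (hN : Sandwiched H N) {g : LinearMap.GeneralLinearGroup k M} (hg : conjBy H g = H) :
    Sandwiched H (conjEnd g N) := fun S hS => by
  have := congrArg (conjEnd g) (hN _ (hS.conj_of_normalizes (conjBy_inv_eq_self hg)))
  rwa [← conjEnd_mul, ← conjEnd_mul, conjEnd_conjEnd, mul_inv_cancel, conjEnd_one, conjEnd_zero] at this

theorem Sandwiched.smul (hN : Sandwiched H N) (c : k) : Sandwiched H (c • N) := fun S hS => by
  rw [mul_smul_comm, smul_mul_assoc, hN S hS, smul_zero]

theorem fam_conj_sub (hN : N * N = 0) (c : k) (X : Module.End k M) :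
    conjEnd (fam hN c) X - X = c • br N X - (c * c) • (N * X * N) := by
  rw [conjEnd, fam_val, fam_inv_val]
  simp only [br, add_mul, mul_sub, one_mul, mul_one, smul_mul_assoc, mul_smul_comm, smul_add, smul_smul, smul_sub,
    mul_assoc]
  abel

theorem Sandwiched.br_mem (hN : Sandwiched H N) (hNr : IsRoot H N) (h2 : (2 : k) ≠ 0) {X : Module.End k M}
    (hX : X ∈ rootSpan H) : br N X ∈ rootSpan H ∧ Sandwiched H (br N X) := by
  refine ⟨?_, ?_⟩
  · have h : ∀ c : k, conjEnd (fam hNr.sq c) X - X ∈ rootSpan H := fun c =>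
      sub_mem (conjEnd_mem_rootSpan (CfsgLib.RankOne.conjBy_of_mem (fam_mem hNr.fam hNr.sq c)) hX) hX
    have := sub_mem (h 1) (h (-1))
    rw [fam_conj_sub, fam_conj_sub] at this
    have e : (1 : k) • br N X - ((1 : k) * 1) • (N * X * N) -
        ((-1 : k) • br N X - ((-1 : k) * -1) • (N * X * N)) = (2 : k) • br N X := by
      simp only [one_smul, mul_one, neg_mul_neg, neg_smul, two_smul]; abel
    rw [e] at this
    exact (Submodule.smul_mem_iff _ h2).1 this
  · induction hX using Submodule.span_induction with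
    | mem T hT =>
      intro S hS
      have h := (hN.conj (CfsgLib.RankOne.conjBy_of_mem (fam_mem hT.fam hT.sq 1))) S hS
      have e : conjEnd (fam (k := k) hT.sq 1) N = N + br T N - T * N * T := by
        have := fam_conj_sub (k := k) hT.sq 1 N
        rw [sub_eq_iff_eq_add, one_smul, mul_one, one_smul] at this
        rw [this]; abel
      rw [e, hN T hT, sub_zero, mul_add, add_mul, hN S hS, zero_add, br_neg N T, mul_neg, neg_mul, neg_eq_zero] at h
      exact h
    | zero => intro S hS; simp [br]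
    | add x y _ _ hx hy => intro S hS; rw [br_add_right, mul_add, add_mul, hx S hS, hy S hS, add_zero]
    | smul c x _ hx => intro S hS; rw [br_smul_right, mul_smul_comm, smul_mul_assoc, hx S hS, smul_zero]

theorem Sandwiched.fam_act (hN : Sandwiched H N) (hNr : IsRoot H N) (h2 : (2 : k) ≠ 0) {X : Module.End k M}
    (hX : X ∈ rootSpan H) (c : k) : Sandwiched H (conjEnd (fam hNr.sq c) X - X) := by
  obtain ⟨h1, h1'⟩ := hN.br_mem hNr h2 hX
  obtain ⟨-, h4⟩ := hN.br_mem hNr h2 h1
  have e : br N (br N X) = (-2 : k) • (N * X * N) := by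
    simp only [br, mul_sub, sub_mul, ← mul_assoc, hNr.sq, zero_mul]
    rw [mul_assoc X N N, hNr.sq, mul_zero, neg_smul, two_smul]
    abel
  intro S hS
  have h5 := h4 S hS
  rw [e, mul_smul_comm, smul_mul_assoc, smul_eq_zero] at h5
  have h6 := h5.resolve_left (neg_ne_zero.2 h2)
  rw [fam_conj_sub, mul_sub, sub_mul, mul_smul_comm, smul_mul_assoc, h1' S hS, mul_smul_comm, smul_mul_assoc, h6,
    smul_zero, smul_zero, sub_zero]

theorem Sandwiched.commute_root (hN : Sandwiched H N) (hNr : IsRoot H N) (hH : RadFree H) (h2 : (2 : k) ≠ 0)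
    (h3 : Nat.card k ≠ 3) (hS : IsMinRoot H S) : S * N = N * S := by
  have hopp := hH.hasOpposites h2 h3
  set gens : Set (LinearMap.GeneralLinearGroup k M) :=
    {g | ∃ N, IsRoot H N ∧ Sandwiched H N ∧ ∃ c : k, (g : Module.End k M) = 1 + c • N} with hgens
  set K := Subgroup.closure gens with hK
  have hgen_le : ∀ g ∈ gens, g ∈ H := by
    rintro g ⟨N, hN, -, c, hc⟩
    rw [show g = fam hN.sq c from Units.ext hc]
    exact fam_mem hN.fam hN.sq c
  have hKle : K ≤ H := (Subgroup.closure_le _).2 hgen_le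
  have hKn : ∀ h ∈ H, conjBy K h = K := by
    have hle : ∀ h ∈ H, conjBy K h ≤ K := fun h hh => by
      rw [conjBy, hK, MonoidHom.map_closure, Subgroup.closure_le]
      rintro _ ⟨g, ⟨N', hN', hs, c, hc⟩, rfl⟩
      exact Subgroup.subset_closure ⟨conjEnd h N', hN'.conj_of_normalizes (CfsgLib.RankOne.conjBy_of_mem hh),
        hs.conj (CfsgLib.RankOne.conjBy_of_mem hh), c, conj_one_add h g hc⟩
    intro h hh
    refine le_antisymm (hle h hh) fun x hx => ?_
    exact ⟨h⁻¹ * x * h, hle h⁻¹ (inv_mem hh) ⟨x, hx, by simp⟩, by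
      simp only [MulEquiv.coe_toMonoidHom, MulAut.conj_apply]; group⟩
  have hact : ∀ g ∈ K, ∀ X ∈ rootSpan H, Sandwiched H (conjEnd g X - X) ∧ Sandwiched H (conjEnd g⁻¹ X - X) := by
    intro g hg
    induction hg using Subgroup.closure_induction with
    | mem x hx =>
      obtain ⟨N', hN', hs, c, hc⟩ := hx
      intro X hX
      have hx' : x = fam hN'.sq c := Units.ext hc
      refine ⟨hx' ▸ hs.fam_act hN' h2 hX c, ?_⟩
      have hinv : x⁻¹ = fam hN'.sq (-c) := Units.ext (by
        rw [hx', fam_inv_val, fam_val, neg_smul, sub_eq_add_neg])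
      exact hinv ▸ hs.fam_act hN' h2 hX (-c)
    | one =>
      intro X _
      simp only [inv_one, conjEnd_one, sub_self]
      exact ⟨fun S _ => by simp, fun S _ => by simp⟩
    | mul x y hx hy ihx ihy =>
      intro X hX
      have hxH : conjBy H x = H := CfsgLib.RankOne.conjBy_of_mem (hKle hx)
      have hyH : conjBy H y⁻¹ = H := CfsgLib.RankOne.conjBy_of_mem (inv_mem (hKle hy))
      refine ⟨fun S hS => ?_, fun S hS => ?_⟩
      · rw [show conjEnd (x * y) X - X = conjEnd x (conjEnd y X - X) + (conjEnd x X - X) by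
          rw [conjEnd_sub, conjEnd_conjEnd]; abel, mul_add, add_mul, (ihy X hX).1.conj hxH S hS,
          (ihx X hX).1 S hS, add_zero]
      · rw [show conjEnd (x * y)⁻¹ X - X = conjEnd y⁻¹ (conjEnd x⁻¹ X - X) + (conjEnd y⁻¹ X - X) by
          rw [mul_inv_rev, conjEnd_sub, conjEnd_conjEnd]; abel, mul_add, add_mul, (ihx X hX).2.conj hyH S hS,
          (ihy X hX).2 S hS, add_zero]
    | inv x _ ih => intro X hX; rw [inv_inv]; exact ⟨(ih X hX).2, (ih X hX).1⟩
  obtain ⟨σ, -, rfl⟩ := hS.toIsRoot.exists_elem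
  rcases centralizes_or_contains hS hopp h2 h3 (hH.of_normal hKle hKn)
    (fun g hg => CfsgLib.RankOne.conjBy_of_mem (hKle hg)) (fun x hx => hKn x (comp_le hx)) with h | ⟨υ, hυ, -, hle⟩
  · have hg : fam (k := k) hNr.sq 1 ∈ K := Subgroup.subset_closure ⟨N, hNr, hN, 1, fam_val _ _⟩
    have e := congrArg Units.val (h σ ((mem_sameActionSubgroup hS).2 (mem_rootSpace_self hS.toIsRoot)) _ hg)
    rw [Units.val_mul, Units.val_mul, fam_val, one_smul] at e
    simp only [add_mul, mul_add, one_mul, mul_one] at e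
    simp only [sub_mul, mul_sub, one_mul, mul_one]
    linear_combination (norm := abel) -e
  · exfalso
    obtain ⟨W, hW, hUW⟩ := hopp _ hυ
    obtain ⟨V, hV, -, hUV, hVU⟩ := exists_normal_opposite hυ hW h2 h3 hUW
    have h0 := (hact υ (hle ((mem_sameActionSubgroup hυ).2 (mem_rootSpace_self hυ.toIsRoot))) V
      (Submodule.subset_span hV)).1 V hV
    have hconj : conjEnd υ V - V = br ((υ : Module.End k M) - 1) V -
        ((υ : Module.End k M) - 1) * V * ((υ : Module.End k M) - 1) := by
      have := fam_conj_sub (k := k) hυ.sq 1 V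
      rw [one_smul, mul_one, one_smul] at this
      rw [← this, show fam (k := k) hυ.sq 1 = υ from Units.ext (by rw [fam_val, one_smul, add_sub_cancel])]
    rw [hconj, hUV] at h0
    apply hV.ne
    generalize (υ : Module.End k M) - 1 = U at h0 hVU
    have e : V * (br U V - U) * V = V * U * (V * V) - V * V * U * V - V * U * V := by
      simp only [br]; noncomm_ring
    rw [e, hV.sq, hVU] at h0
    simpa using h0

/-- `N` centralises all minimal root endomorphisms. -/
def RootCentral (H : Subgroup (LinearMap.GeneralLinearGroup k M)) (N : Module.End k M) : Prop :=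
  ∀ S, IsMinRoot H S → S * N = N * S

/-- The subgroup generated by the central roots. -/
def centralPart (H : Subgroup (LinearMap.GeneralLinearGroup k M)) : Subgroup (LinearMap.GeneralLinearGroup k M) :=
  Subgroup.closure {g : LinearMap.GeneralLinearGroup k M | ∃ N, IsRoot H N ∧ RootCentral H N ∧ ∃ c : k, (g : Module.End k M) = 1 + c • N}

theorem centralPart_le : centralPart H ≤ H := by
  rw [centralPart, Subgroup.closure_le]
  rintro g ⟨N, hN, -, c, hc⟩
  rw [SetLike.mem_coe, show g = fam hN.sq c from Units.ext hc]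
  exact fam_mem hN.fam hN.sq c

theorem fam_add {A B : Module.End k M} (hA : A * A = 0) (hB : B * B = 0) (h : A * B = 0)
    (hs : (A + B) * (A + B) = 0) (c : k) : fam hs c = fam hA c * fam hB c := by
  apply Units.ext
  rw [Units.val_mul, fam_val, fam_val, fam_val, mul_add, add_mul, add_mul, one_mul, one_mul, mul_one,
    smul_mul_smul_comm, h, smul_zero, add_zero, smul_add, add_assoc]

/-- Every root element is in the group generated by the root groups and the central roots. -/
theorem mem_sigma_sup_central (hH : RadFree H) (h2 : (2 : k) ≠ 0) (h3 : Nat.card k ≠ 3) (hN : IsRoot H N) (c : k) :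
    fam hN.sq c ∈ (⨆ A ∈ quadraticRootSubgroups H, A) ⊔ centralPart H := by
  induction hn : rk N using Nat.strong_induction_on generalizing N with
  | _ n ih =>
    subst hn
    by_cases hs : Sandwiched H N
    · exact Subgroup.mem_sup_right (Subgroup.subset_closure
        ⟨N, hN, fun S hS => hs.commute_root hN hH h2 h3 hS, c, fam_val _ _⟩)
    simp only [Sandwiched, not_forall] at hs
    obtain ⟨S, hS, hne⟩ := hs
    obtain ⟨N₁, hN₁, hab, -, hsq, hfam, hlt⟩ := exists_split hN hS h2 h3 hne
    have h1 : fam hN₁.sq c ∈ ⨆ A ∈ quadraticRootSubgroups H, A := by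
      have h := mem_comp_of_conn hN₁ (Relation.ReflTransGen.refl : Conn H N₁ N₁) (fam_val hN₁.sq c)
      exact (biSup_mono fun A hA => part_subset hA : comp H N₁ ≤ ⨆ A ∈ quadraticRootSubgroups H, A) h
    have hsum : N₁ + (N - N₁) = N := add_sub_cancel N₁ N
    have e : fam hN.sq c = fam hN₁.sq c * fam hsq c := by
      rw [← fam_add hN₁.sq hsq hab (by rw [hsum]; exact hN.sq)]
      exact Units.ext (by rw [fam_val, fam_val, hsum])
    rw [e]
    refine mul_mem (Subgroup.mem_sup_left h1) ?_
    by_cases h0 : N - N₁ = 0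
    · rw [show fam hsq c = (1 : LinearMap.GeneralLinearGroup k M) from Units.ext (by rw [fam_val, h0, smul_zero, add_zero, Units.val_one])]
      exact one_mem _
    · exact ih _ hlt ⟨hsq, h0, hfam⟩ rfl

/-- A subgroup on which the induction runs. -/
structure IsLevel (G H : Subgroup (LinearMap.GeneralLinearGroup k M)) : Prop where
  le : H ≤ G
  normal : ∀ g ∈ G, conjBy H g = H
  gen : H ≤ Subgroup.closure {g : LinearMap.GeneralLinearGroup k M | ∃ N, IsRoot H N ∧ ∃ c : k, (g : Module.End k M) = 1 + c • N}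
  compl : G ≤ H ⊔ Subgroup.centralizer (H : Set (LinearMap.GeneralLinearGroup k M))

theorem IsLevel.le_sup (hL : IsLevel G H) (hH : RadFree H) (h2 : (2 : k) ≠ 0) (h3 : Nat.card k ≠ 3) :
    H ≤ (⨆ A ∈ quadraticRootSubgroups H, A) ⊔ centralPart H := by
  refine hL.gen.trans ((Subgroup.closure_le _).2 ?_)
  rintro g ⟨N, hN, c, hc⟩
  rw [SetLike.mem_coe, show g = fam hN.sq c from Units.ext hc]
  exact mem_sigma_sup_central hH h2 h3 hN c

theorem RootCentral.commute_sigma (hN : RootCentral H N) {x : LinearMap.GeneralLinearGroup k M}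
    (hx : x ∈ ⨆ A ∈ quadraticRootSubgroups H, A) : Commute (x : Module.End k M) N := by
  let W : Subgroup (LinearMap.GeneralLinearGroup k M) :=
    { carrier := {x | Commute (x : Module.End k M) N}
      one_mem' := by simp
      mul_mem' := fun {a b} ha hb => by
        show Commute ((a * b : LinearMap.GeneralLinearGroup k M) : Module.End k M) N
        rw [Units.val_mul]; exact ha.mul_left hb
      inv_mem' := fun {a} (ha : Commute (a : Module.End k M) N) =>
        show Commute ((a⁻¹ : LinearMap.GeneralLinearGroup k M) : Module.End k M) N from ha.units_inv_left }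
  refine (iSup₂_le fun A hA => ?_ : (⨆ A ∈ quadraticRootSubgroups H, A) ≤ W) hx
  obtain ⟨σ, hσ, rfl⟩ := hA
  intro y hy
  show Commute (y : Module.End k M) N
  have hσm := mem_minimal_iff.1 hσ
  by_cases hy0 : (y : Module.End k M) - 1 = 0
  · rw [sub_eq_zero.1 hy0]; exact Commute.one_left N
  have h := hN _ (hσm.of_mem_rootSpace ((mem_sameActionSubgroup hσm).1 hy) hy0).1
  have h' : Commute ((y : Module.End k M) - 1) N := h
  simpa using h'.add_left (Commute.one_left N)

theorem centralPart_commute {x y : LinearMap.GeneralLinearGroup k M} (hx : x ∈ ⨆ A ∈ quadraticRootSubgroups H, A)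
    (hy : y ∈ centralPart H) : x * y = y * x := by
  refine (Subgroup.mem_centralizer_singleton_iff.1 ((?_ : centralPart H ≤ Subgroup.centralizer {x}) hy)).symm
  rw [centralPart, Subgroup.closure_le]
  rintro g ⟨N, -, hN, c, hc⟩
  rw [SetLike.mem_coe, Subgroup.mem_centralizer_singleton_iff]
  apply Units.ext
  rw [Units.val_mul, Units.val_mul, hc]
  exact (((Commute.one_right (x : Module.End k M)).add_right ((hN.commute_sigma hx).smul_right c)).eq).symm

theorem IsLevel.conjBy_comp_eq (hL : IsLevel G H) (hH : RadFree H) (hS : IsMinRoot H S) (h2 : (2 : k) ≠ 0)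
    (h3 : Nat.card k ≠ 3) : ∀ g ∈ G, conjBy (comp H S) g = comp H S := by
  have hopp := hH.hasOpposites h2 h3
  set N := Subgroup.normalizer (comp H S : Set (LinearMap.GeneralLinearGroup k M))
  have h1 := sigma_le_normalizer_comp hS hopp h2 h3
  have hcomm : ∀ {g : LinearMap.GeneralLinearGroup k M}, (∀ x ∈ comp H S, x * g = g * x) → g ∈ N := by
    intro g hg
    rw [Subgroup.mem_normalizer_iff]
    refine fun x => ⟨fun hx => ?_, fun hx => ?_⟩
    · rw [← hg x hx, mul_inv_cancel_right]; exact hx
    · have := hg _ hx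
      rw [inv_mul_cancel_right] at this
      rwa [show x = g * x * g⁻¹ from mul_left_cancel this]
  have hsub : comp H S ≤ ⨆ A ∈ quadraticRootSubgroups H, A := biSup_mono fun A hA => part_subset hA
  have h4 : centralPart H ≤ N := fun g hg => hcomm fun x hx => centralPart_commute (hsub hx) hg
  have h5 : Subgroup.centralizer (H : Set (LinearMap.GeneralLinearGroup k M)) ≤ N := fun g hg =>
    hcomm fun x hx => Subgroup.mem_centralizer_iff.1 hg x (comp_le hx)
  have hGN : G ≤ N := hL.compl.trans (sup_le ((hL.le_sup hH h2 h3).trans (sup_le h1 h4)) h5)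
  exact fun g hg => CfsgLib.RankOne.conjBy_eq_self_iff.2 (hGN hg)

theorem eq_zero_of_commute_comp (hirr : IsIrreducibleFor G) (hS : IsMinRoot H S) (h2 : (2 : k) ≠ 0)
    (h3 : Nat.card k ≠ 3) (hn : ∀ g ∈ G, conjBy (comp H S) g = comp H S) {Y : Module.End k M}
    (hY : ∀ x ∈ comp H S, Commute (x : Module.End k M) Y) (h0 : S * Y = 0) : Y = 0 := by
  obtain ⟨σ, -, rfl⟩ := hS.toIsRoot.exists_elem
  set S := (σ : Module.End k M) - 1
  let W : Subgroup (LinearMap.GeneralLinearGroup k M) :=
    { carrier := {x | ((x : Module.End k M) - 1) * Y = 0}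
      one_mem' := by simp
      mul_mem' := fun {a b} (ha : ((a : Module.End k M) - 1) * Y = 0) (hb : ((b : Module.End k M) - 1) * Y = 0) => by
        show (((a * b : LinearMap.GeneralLinearGroup k M) : Module.End k M) - 1) * Y = 0
        rw [Units.val_mul, show (a : Module.End k M) * (b : Module.End k M) - 1 =
          (a : Module.End k M) * ((b : Module.End k M) - 1) + ((a : Module.End k M) - 1) by noncomm_ring,
          add_mul, mul_assoc, hb, ha, mul_zero, add_zero]
      inv_mem' := fun {a} (ha : ((a : Module.End k M) - 1) * Y = 0) => by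
        show (((a⁻¹ : LinearMap.GeneralLinearGroup k M) : Module.End k M) - 1) * Y = 0
        rw [show ((a⁻¹ : LinearMap.GeneralLinearGroup k M) : Module.End k M) - 1 =
          -(((a⁻¹ : LinearMap.GeneralLinearGroup k M) : Module.End k M) * ((a : Module.End k M) - 1)) by
          rw [mul_sub, mul_one, Units.inv_mul, neg_sub], neg_mul, mul_assoc, ha, mul_zero, neg_zero] }
  have hW : comp H S ≤ W := iSup₂_le fun A hA => by
    obtain ⟨τ, hτ, hc, rfl⟩ := hA
    obtain ⟨x, hx, e⟩ := conn_conjugate (fun h => h.isMinRoot hS) h2 h3 rfl hc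
    rw [e]
    rintro _ ⟨b, hb, rfl⟩
    show (((x * b * x⁻¹ : LinearMap.GeneralLinearGroup k M) : Module.End k M) - 1) * Y = 0
    rw [conjEnd_one_sub, conjEnd, mul_assoc, (hY _ (inv_mem hx)).eq, ← mul_assoc, mul_assoc (x : Module.End k M),
      (mul_eq_zero_of_root hS ((mem_sameActionSubgroup hS).1 hb)).2 h0, mul_zero, zero_mul]
  let F : Submodule k M := ⨅ x ∈ comp H S, LinearMap.ker ((x : Module.End k M) - 1)
  have hinv : ∀ g ∈ G, ∀ w ∈ F, (g : M →ₗ[k] M) w ∈ F := by
    intro g hg w hw
    simp only [F, Submodule.mem_iInf, LinearMap.mem_ker] at hw ⊢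
    intro y hy
    rw [← hn g hg] at hy
    obtain ⟨z, hz, rfl⟩ := hy
    simp only [MulEquiv.coe_toMonoidHom, MulAut.conj_apply]
    rw [conjEnd_one_sub]
    show conjEnd g ((z : Module.End k M) - 1) ((g : Module.End k M) w) = 0
    rw [conjEnd_apply, hw z hz, map_zero]
  have hYF : ∀ m, Y m ∈ F := fun m => by
    simp only [F, Submodule.mem_iInf, LinearMap.mem_ker]
    exact fun x hx => LinearMap.congr_fun (hW hx) m
  rcases hirr.2 F hinv with h | h
  · ext m
    have := hYF m
    rw [h, Submodule.mem_bot] at this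
    exact this
  · exfalso
    apply hS.ne
    ext m
    have : m ∈ F := h ▸ Submodule.mem_top
    simp only [F, Submodule.mem_iInf, LinearMap.mem_ker] at this
    exact this σ (sameAction_le_comp hS Relation.ReflTransGen.refl
      ((mem_sameActionSubgroup hS).2 (mem_rootSpace_self hS.toIsRoot)))

/-- Every root lies in one component or centralises all of them. -/
theorem root_cases (hirr : IsIrreducibleFor G) (hL : IsLevel G H) (hH : RadFree H) (h2 : (2 : k) ≠ 0)
    (h3 : Nat.card k ≠ 3) (hN : IsRoot H N) :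
    RootCentral H N ∨ ∃ S, IsMinRoot H S ∧ ∀ (c : k) (g : LinearMap.GeneralLinearGroup k M),
      (g : Module.End k M) = 1 + c • N → g ∈ comp H S := by
  induction hn : rk N using Nat.strong_induction_on generalizing N with
  | _ n ih =>
    subst hn
    by_cases hs : Sandwiched H N
    · exact Or.inl fun S hS => hs.commute_root hN hH h2 h3 hS
    simp only [Sandwiched, not_forall] at hs
    obtain ⟨S, hS, hne⟩ := hs
    obtain ⟨N₁, hN₁, hab, -, hsq, hfam, hlt⟩ := exists_split hN hS h2 h3 hne
    refine Or.inr ⟨N₁, hN₁, fun c g hg => ?_⟩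
    have h1 : fam hN₁.sq c ∈ comp H N₁ := mem_comp_of_conn hN₁ Relation.ReflTransGen.refl (fam_val _ _)
    have hsum : N₁ + (N - N₁) = N := add_sub_cancel N₁ N
    have e : g = fam hN₁.sq c * fam hsq c := by
      rw [← fam_add hN₁.sq hsq hab (by rw [hsum]; exact hN.sq)]
      exact Units.ext (by rw [hg, fam_val, hsum])
    rw [e]
    refine mul_mem h1 ?_
    by_cases h0 : N - N₁ = 0
    · rw [show fam hsq c = (1 : LinearMap.GeneralLinearGroup k M) from Units.ext (by rw [fam_val, h0, smul_zero, add_zero, Units.val_one])]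
      exact one_mem _
    have hzero : (∀ x ∈ comp H N₁, Commute (x : Module.End k M) (N - N₁)) → False := fun h =>
      h0 (eq_zero_of_commute_comp hirr hN₁ h2 h3 (hL.conjBy_comp_eq hH hN₁ h2 h3) h hab)
    rcases ih _ hlt ⟨hsq, h0, hfam⟩ rfl with hc | ⟨S₂, hS₂, hmem⟩
    · exact (hzero fun x hx => hc.commute_sigma ((biSup_mono fun A hA => part_subset hA : comp H N₁ ≤ _) hx)).elim
    · by_cases hconn : Conn H N₁ S₂
      · rw [comp_congr hconn h2 h3]
        exact hmem c _ (fam_val _ _)
      · refine (hzero fun x hx => ?_).elim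
        have hu := congrArg Units.val (commute_of_not_conn (hH.hasOpposites h2 h3) h2 h3 hconn x hx _
          (hmem 1 (fam hsq 1) (fam_val _ _)))
        rw [Units.val_mul, Units.val_mul, fam_val, one_smul] at hu
        show (x : Module.End k M) * (N - N₁) = (N - N₁) * (x : Module.End k M)
        simp only [mul_add, add_mul, mul_one, one_mul] at hu
        exact add_left_cancel hu

end CfsgLib.QP
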