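import Cfsg.Agent.QuadPairs.Opposites

set_option autoImplicit false
set_option linter.unusedSectionVars false

/-!
Commutators of two root groups generating a unipotent group.
-/

universe u v

namespace CfsgLib.QP

open Cfsg commutatorElement

theorem commutator_sup_le_of_central {H : Type*} [Group H] {A B L : Subgroup H}
    (hA : ∀ a ∈ A, ∀ a' ∈ A, a * a' * a⁻¹ * a'⁻¹ ∈ L) (hB : ∀ b ∈ B, ∀ b' ∈ B, b * b' * b⁻¹ * b'⁻¹ ∈ L)
    (hAB : ∀ a ∈ A, ∀ b ∈ B, a * b * a⁻¹ * b⁻¹ ∈ L) (hc : ∀ c ∈ L, ∀ x ∈ A ⊔ B, c * x = x * c) :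
    ⁅A ⊔ B, A ⊔ B⁆ ≤ L := by
  let K : Subgroup H → Set H := fun C => {x | x ∈ A ⊔ B ∧ ∀ y ∈ C, x * y * x⁻¹ * y⁻¹ ∈ L}
  have hsub : ∀ C : Subgroup H, C ≤ A ⊔ B → (∀ a ∈ A, a ∈ K C) → (∀ b ∈ B, b ∈ K C) →
      ∀ x ∈ A ⊔ B, x ∈ K C := by
    intro C hC hAK hBK x hx
    let S : Subgroup H :=
      { carrier := K C
        one_mem' := ⟨one_mem _, fun y _ => by simp⟩
        mul_mem' := fun {p q} hp hq => ⟨mul_mem hp.1 hq.1, fun y hy => by
          have h1 := hc _ (hq.2 y hy) p hp.1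
          rw [show p * q * y * (p * q)⁻¹ * y⁻¹ = (p * (q * y * q⁻¹ * y⁻¹) * p⁻¹) * (p * y * p⁻¹ * y⁻¹) by group,
            ← h1, mul_inv_cancel_right]
          exact mul_mem (hq.2 y hy) (hp.2 y hy)⟩
        inv_mem' := fun {p} hp => ⟨inv_mem hp.1, fun y hy => by
          have h1 := hc _ (inv_mem (hp.2 y hy)) p⁻¹ (inv_mem hp.1)
          rw [show p⁻¹ * y * p⁻¹⁻¹ * y⁻¹ = p⁻¹ * (p * y * p⁻¹ * y⁻¹)⁻¹ * p by group, ← h1,
            inv_mul_cancel_right]
          exact inv_mem (hp.2 y hy)⟩ }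
    exact (sup_le (fun a ha => hAK a ha) (fun b hb => hBK b hb) : A ⊔ B ≤ S) hx
  have hswap : ∀ x y : H, x * y * x⁻¹ * y⁻¹ ∈ L → y * x * y⁻¹ * x⁻¹ ∈ L := fun x y h => by
    rw [show y * x * y⁻¹ * x⁻¹ = (x * y * x⁻¹ * y⁻¹)⁻¹ by group]
    exact inv_mem h
  have hxA := hsub A le_sup_left (fun a ha => ⟨Subgroup.mem_sup_left ha, hA a ha⟩)
    (fun b hb => ⟨Subgroup.mem_sup_right hb, fun a ha => hswap a b (hAB a ha b hb)⟩)
  have hxB := hsub B le_sup_right (fun a ha => ⟨Subgroup.mem_sup_left ha, hAB a ha⟩)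
    (fun b hb => ⟨Subgroup.mem_sup_right hb, hB b hb⟩)
  have hxX := hsub (A ⊔ B) le_rfl
    (fun a ha => ⟨Subgroup.mem_sup_left ha, fun y hy => hswap y a ((hxA y hy).2 a ha)⟩)
    (fun b hb => ⟨Subgroup.mem_sup_right hb, fun y hy => hswap y b ((hxB y hy).2 b hb)⟩)
  rw [Subgroup.commutator_le]
  intro x hx y hy
  rw [commutatorElement_def]
  exact (hxX x hx).2 y hy

theorem eq_of_braid_of_central {H : Type*} [Group H] {a b : H} (hbraid : a * b * a = b * a * b)
    (hca : Commute (a * b * a⁻¹ * b⁻¹) a) (hcb : Commute (a * b * a⁻¹ * b⁻¹) b) : a = b := by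
  obtain ⟨c, hc⟩ : ∃ c, c = a * b * a⁻¹ * b⁻¹ := ⟨_, rfl⟩
  rw [← hc] at hca hcb
  have hab : a * b = c * (b * a) := by rw [hc]; group
  have h1 : a * b * a = c * (b * a * a) := by rw [hab, mul_assoc]
  have h2 : b * a * b = c * (b * b * a) := by
    rw [mul_assoc b a b, hab, ← mul_assoc, ← hcb.eq, mul_assoc, mul_assoc]
  rw [h1, h2] at hbraid
  have := mul_left_cancel hbraid
  rw [mul_assoc, mul_assoc] at this
  exact mul_right_cancel (mul_left_cancel this)

variable {k : Type u} [Field k] {M : Type v} [AddCommGroup M] [Module k M]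
  {G : Subgroup (LinearMap.GeneralLinearGroup k M)} {S T : Module.End k M}

theorem unit_commutator_val {a b : LinearMap.GeneralLinearGroup k M} {A B : Module.End k M}
    (ha : (a : Module.End k M) = 1 + A) (hb : (b : Module.End k M) = 1 + B) (hA : A * A = 0) (hB : B * B = 0)
    (h1 : A * (B * A) = 0) (h2 : B * (A * B) = 0) :
    ((a * b * a⁻¹ * b⁻¹ : LinearMap.GeneralLinearGroup k M) : Module.End k M) = 1 + br A B := by
  rw [show a = fam (k := k) hA 1 from Units.ext (by rw [ha, fam_val, one_smul]),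
    show b = fam (k := k) hB 1 from Units.ext (by rw [hb, fam_val, one_smul]),
    Units.val_mul, Units.val_mul, Units.val_mul, fam_val, fam_val, fam_inv_val, fam_inv_val]
  have eA : ∀ w, A * (A * w) = 0 := fun w => by rw [← mul_assoc, hA, zero_mul]
  have eB : ∀ w, B * (B * w) = 0 := fun w => by rw [← mul_assoc, hB, zero_mul]
  simp only [br, one_smul, mul_add, add_mul, mul_sub, sub_mul, mul_one, one_mul, mul_assoc, hA, hB, h1, h2,
    eA, eB, mul_zero, zero_mul]
  abel

variable [FiniteDimensional k M]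

theorem mul_eq_zero_of_root (h : IsMinRoot G S) {A N : Module.End k M} (hA : A ∈ rootSpace G h.sq) :
    (N * S = 0 → N * A = 0) ∧ (S * N = 0 → A * N = 0) := by
  refine ⟨fun e => ?_, fun e => ?_⟩
  · ext m
    obtain ⟨x, hx⟩ := hA.2.1 ⟨m, rfl⟩
    show N (A m) = 0
    rw [← hx, ← Module.End.mul_apply, e]
    rfl
  · ext m
    refine LinearMap.mem_ker.1 (hA.1 (LinearMap.mem_ker.2 ?_))
    rw [← Module.End.mul_apply, e]
    rfl

theorem not_opposite_of_unipotent {σ τ : LinearMap.GeneralLinearGroup k M}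
    (hσ : IsMinRoot G ((σ : Module.End k M) - 1)) (hτ : IsMinRoot G ((τ : Module.End k M) - 1))
    (h2 : (2 : k) ≠ 0) (h3 : Nat.card k ≠ 3)
    (hu : IsUnipotentOn (sameActionSubgroup G σ ⊔ sameActionSubgroup G τ)) :
    ((σ : Module.End k M) - 1) * ((τ : Module.End k M) - 1) * ((σ : Module.End k M) - 1) = 0 := by
  by_contra h
  obtain ⟨⟨i, ⟨hi, -, -, -, hneg, -⟩, -⟩, -⟩ := involution_and_split hσ hτ h2 h3 h
  obtain ⟨n, hn⟩ := (unipotent_iff _).1 hu
  have hσX : σ ∈ sameActionSubgroup G σ ⊔ sameActionSubgroup G τ :=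
    Subgroup.mem_sup_left ((mem_sameActionSubgroup hσ).2 (mem_rootSpace_self hσ.toIsRoot))
  refine hσ.ne (LinearMap.ext fun m => ?_)
  set w := ((σ : Module.End k M) - 1) m
  have hw : (i : Module.End k M) w = -w :=
    hneg w (Submodule.mem_iSup_of_mem σ (Submodule.mem_iSup_of_mem hσX ⟨m, rfl⟩))
  have hpow : ∀ j, (((i : Module.End k M) - 1) ^ j) w = (-2 : k) ^ j • w := by
    intro j
    induction j with
    | zero => simp
    | succ j ih =>
      rw [pow_succ, Module.End.mul_apply, LinearMap.sub_apply, Module.End.one_apply, hw,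
        show -w - w = (-2 : k) • w by rw [neg_smul, two_smul]; abel, map_smul, ih, smul_smul, pow_succ']
  have h0 := Submodule.pow_mem_pow _ (mem_lam hi) n
  rw [hn, Submodule.mem_bot] at h0
  have := hpow n
  rw [h0, LinearMap.zero_apply, eq_comm, smul_eq_zero] at this
  exact this.resolve_left (pow_ne_zero _ (neg_ne_zero.2 h2))

theorem not_opposite_of_class_two {σ τ : LinearMap.GeneralLinearGroup k M}
    (hσ : IsMinRoot G ((σ : Module.End k M) - 1)) (hτ : IsMinRoot G ((τ : Module.End k M) - 1))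
    (h2 : (2 : k) ≠ 0) (h3 : Nat.card k ≠ 3)
    (hc : ⁅⁅sameActionSubgroup G σ ⊔ sameActionSubgroup G τ, sameActionSubgroup G σ ⊔ sameActionSubgroup G τ⁆,
      sameActionSubgroup G σ ⊔ sameActionSubgroup G τ⁆ = ⊥) :
    ((σ : Module.End k M) - 1) * ((τ : Module.End k M) - 1) * ((σ : Module.End k M) - 1) = 0 := by
  by_contra h
  obtain ⟨T', hT', hT0, hweyl⟩ := exists_weyl hσ hτ h2 h3 h
  obtain ⟨c, hc', hce⟩ := exists_mem_of_rootSpace hτ hT'
  obtain ⟨hbraid, -⟩ := hweyl σ c (add_sub_cancel 1 (σ : Module.End k M)).symm hce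
  have hσX : σ ∈ sameActionSubgroup G σ ⊔ sameActionSubgroup G τ :=
    Subgroup.mem_sup_left ((mem_sameActionSubgroup hσ).2 (mem_rootSpace_self hσ.toIsRoot))
  have hcX : c ∈ sameActionSubgroup G σ ⊔ sameActionSubgroup G τ := Subgroup.mem_sup_right hc'
  rw [Subgroup.commutator_eq_bot_iff_le_centralizer] at hc
  have hcomm : σ * c * σ⁻¹ * c⁻¹ ∈ ⁅sameActionSubgroup G σ ⊔ sameActionSubgroup G τ,
      sameActionSubgroup G σ ⊔ sameActionSubgroup G τ⁆ := Subgroup.commutator_mem_commutator hσX hcX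
  have e : σ = c := eq_of_braid_of_central hbraid
    (Subgroup.mem_centralizer_iff.1 (hc hcomm) σ hσX).symm (Subgroup.mem_centralizer_iff.1 (hc hcomm) c hcX).symm
  refine opposite_of_mem hσ hτ h2 h3 h (mem_rootSpace_self hσ.toIsRoot) hσ.ne hT' hT0 ?_
  rw [show T' = (σ : Module.End k M) - 1 by rw [e, hce, add_sub_cancel_left], hσ.sq, zero_mul]

theorem UniPair.br_eq_zero_all (h : UniPair G S T) (hopp : HasOpposites G) (h2 : (2 : k) ≠ 0)
    (h3 : Nat.card k ≠ 3) (h0 : br S T = 0) {A B : Module.End k M} (hA : A ∈ rootSpace G h.left.sq)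
    (hB : B ∈ rootSpace G h.right.sq) : br A B = 0 := by
  have key : ∀ {P Q R : Module.End k M} (hp : UniPair G P Q), br P Q = 0 → R ∈ rootSpace G hp.right.sq →
      br P R = 0 := by
    intro P Q R hp e hR
    by_cases hR0 : R = 0
    · rw [hR0]; simp [br]
    have hp' := hp.of_mem h2 h3 (mem_rootSpace_self hp.left.toIsRoot) hp.left.ne hR hR0
    obtain ⟨-, hk, hr⟩ := hp.right.of_mem_rootSpace hR hR0
    exact hp'.br_eq_zero_of_commute hopp h2 h3 (N := Q)
      (by rw [rootSpace_eq hk hr]; exact mem_rootSpace_self hp.right.toIsRoot) hp.right.ne (sub_eq_zero.1 e)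
  by_cases hA0 : A = 0
  · rw [hA0]; simp [br]
  have h1 : br A T = 0 := by
    rw [br_neg T A, key h.symm (by rw [br_neg, h0, neg_zero]) hA, neg_zero]
  exact key (h.of_mem h2 h3 hA hA0 (mem_rootSpace_self h.right.toIsRoot) h.right.ne) h1 hB

theorem commutator_eq_bot {σ τ : LinearMap.GeneralLinearGroup k M}
    (hσ : IsMinRoot G ((σ : Module.End k M) - 1)) (hτ : IsMinRoot G ((τ : Module.End k M) - 1))
    (h2 : (2 : k) ≠ 0) (h3 : Nat.card k ≠ 3) (hopp : HasOpposites G)
    (hp : UniPair G ((σ : Module.End k M) - 1) ((τ : Module.End k M) - 1))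
    (h0 : br ((σ : Module.End k M) - 1) ((τ : Module.End k M) - 1) = 0) :
    ⁅sameActionSubgroup G σ, sameActionSubgroup G τ⁆ = ⊥ := by
  rw [eq_bot_iff, Subgroup.commutator_le]
  intro a ha b hb
  have e := hp.br_eq_zero_all hopp h2 h3 h0 ((mem_sameActionSubgroup hσ).1 ha) ((mem_sameActionSubgroup hτ).1 hb)
  rw [Subgroup.mem_bot, commutatorElement_eq_one_iff_commute]
  apply Units.ext
  rw [Units.val_mul, Units.val_mul]
  simp only [br, mul_sub, sub_mul, mul_one, one_mul] at e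
  linear_combination (norm := abel) e

theorem commute_criterion {σ τ : LinearMap.GeneralLinearGroup k M}
    (hσ : IsMinRoot G ((σ : Module.End k M) - 1)) (hτ : IsMinRoot G ((τ : Module.End k M) - 1))
    (h2 : (2 : k) ≠ 0) (h3 : Nat.card k ≠ 3) (hopp : HasOpposites G)
    (h : (∃ e ∈ sameActionSubgroup G σ, e ≠ 1 ∧ ∃ f ∈ sameActionSubgroup G τ, f ≠ 1 ∧ e * f = f * e) ∨
      sameActionSubgroup G σ ⊓ Subgroup.normalizer (sameActionSubgroup G τ : Set (LinearMap.GeneralLinearGroup k M)) ≠ ⊥) :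
    ⁅sameActionSubgroup G σ, sameActionSubgroup G τ⁆ = ⊥ := by
  set S := (σ : Module.End k M) - 1 with hS
  set T := (τ : Module.End k M) - 1 with hT
  have hne1 : ∀ x : LinearMap.GeneralLinearGroup k M, x ≠ 1 → (x : Module.End k M) - 1 ≠ 0 :=
    fun x hx e => hx (Units.ext (sub_eq_zero.1 e))
  rcases h with ⟨e, he, he1, f, hf, hf1, hcomm⟩ | hn
  · have hA := (mem_sameActionSubgroup hσ).1 he
    have hB := (mem_sameActionSubgroup hτ).1 hf
    have hAB : ((e : Module.End k M) - 1) * ((f : Module.End k M) - 1) =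
        ((f : Module.End k M) - 1) * ((e : Module.End k M) - 1) := by
      have := congrArg Units.val hcomm
      rw [Units.val_mul, Units.val_mul] at this
      simp only [mul_sub, sub_mul, mul_one, one_mul]
      linear_combination (norm := abel) this
    have hsts : S * T * S = 0 := by
      by_contra hne
      refine opposite_of_mem hσ hτ h2 h3 hne hA (hne1 e he1) hB (hne1 f hf1) ?_
      rw [hAB, mul_assoc, mul_eq_zero_of_mem hA hA, mul_zero]
    have hp := uniPair_of hσ hτ h2 h3 hsts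
    refine commutator_eq_bot hσ hτ h2 h3 hopp hp ?_
    by_contra hne
    have h' := hp.of_mem h2 h3 hA (hne1 e he1) hB (hne1 f hf1)
    have hA' := (hσ.of_mem_rootSpace hA (hne1 e he1))
    have hB' := (hτ.of_mem_rootSpace hB (hne1 f hf1))
    have h0 : br ((e : Module.End k M) - 1) ((f : Module.End k M) - 1) = 0 := sub_eq_zero.2 hAB
    exact hne (h'.br_eq_zero_all hopp h2 h3 h0
      (by rw [rootSpace_eq hA'.2.1 hA'.2.2]; exact mem_rootSpace_self hσ.toIsRoot)
      (by rw [rootSpace_eq hB'.2.1 hB'.2.2]; exact mem_rootSpace_self hτ.toIsRoot))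
  · obtain ⟨⟨e, he, hen⟩, he1⟩ := Subgroup.ne_bot_iff_exists_ne_one.1 hn
    have he1' : e ≠ 1 := fun h => he1 (Subtype.ext h)
    have hnorm : conjBy (sameActionSubgroup G τ) e = sameActionSubgroup G τ := by
      ext x
      constructor
      · rintro ⟨y, hy, rfl⟩
        exact (Subgroup.mem_normalizer_iff.1 hen y).1 hy
      · intro hx
        refine ⟨e⁻¹ * x * e, ?_, by simp only [MulEquiv.coe_toMonoidHom, MulAut.conj_apply]; group⟩
        refine (Subgroup.mem_normalizer_iff.1 hen _).2 ?_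
        rwa [show e * (e⁻¹ * x * e) * e⁻¹ = x by group]
    have hsts : S * T * S = 0 := by
      by_contra hne
      exact he1' (eq_one_of_normalizes hτ hσ h2 h3 (opposite_symm hσ hτ h2 h3 hne) he hnorm)
    have hp := uniPair_of hσ hτ h2 h3 hsts
    have hA := (mem_sameActionSubgroup hσ).1 he
    set A := (e : Module.End k M) - 1 with hAdef
    have hA0 : A ≠ 0 := hne1 e he1'
    have hp' := hp.of_mem h2 h3 hA hA0 (mem_rootSpace_self hτ.toIsRoot) hτ.ne
    obtain ⟨hm, hk, hr⟩ := hσ.of_mem_rootSpace hA hA0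
    refine commutator_eq_bot hσ hτ h2 h3 hopp hp ?_
    by_contra hne
    have hne' : br A T ≠ 0 := fun h0 => hne (hp'.br_eq_zero_all hopp h2 h3 h0
      (by rw [rootSpace_eq hk hr]; exact mem_rootSpace_self hσ.toIsRoot) (mem_rootSpace_self hτ.toIsRoot))
    have heq : (e : Module.End k M) = fam (k := k) hp'.left.sq 1 := by
      rw [fam_val, one_smul, hAdef, add_sub_cancel]
    have hconj : conjEnd e T = T + br A T := by
      rw [conjEnd, show e = fam (k := k) hp'.left.sq 1 from Units.ext heq, fam_val, fam_inv_val, one_smul]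
      simp only [br, mul_sub, add_mul, sub_mul, one_mul, mul_one, mul_assoc, hp'.sts, sub_zero]
      abel
    have hmem : e * τ * e⁻¹ ∈ sameActionSubgroup G τ :=
      (Subgroup.mem_normalizer_iff.1 hen τ).1 ((mem_sameActionSubgroup hτ).2 (mem_rootSpace_self hτ.toIsRoot))
    have hU : br A T ∈ rootSpace G hτ.sq := by
      have := (mem_sameActionSubgroup hτ).1 hmem
      rw [conj_one_add e τ (N := T) (c := (1 : k)) (by rw [one_smul, hT, add_sub_cancel]), one_smul,
        add_sub_cancel_left, hconj] at this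
      simpa using sub_mem this (mem_rootSpace_self hτ.toIsRoot)
    obtain ⟨-, hkU, hrU⟩ := hτ.of_mem_rootSpace hU hne'
    obtain ⟨hUA, hAU, -, -⟩ := hp'.br_mul
    have hAT : A * T = 0 := by
      ext m
      obtain ⟨x, hx⟩ : T m ∈ LinearMap.range (br A T) := hrU.symm ▸ ⟨m, rfl⟩
      show A (T m) = 0
      rw [← hx, ← Module.End.mul_apply, hAU]
      rfl
    have hTA : T * A = 0 := by
      ext m
      show T (A m) = 0
      rw [← LinearMap.mem_ker, ← hkU, LinearMap.mem_ker, ← Module.End.mul_apply, hUA]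
      rfl
    exact hne' (by rw [br, hAT, hTA, sub_zero])

theorem unipotent_pair_commutator {σ τ : LinearMap.GeneralLinearGroup k M}
    (hσ : IsMinRoot G ((σ : Module.End k M) - 1)) (hτ : IsMinRoot G ((τ : Module.End k M) - 1))
    (h2 : (2 : k) ≠ 0) (h3 : Nat.card k ≠ 3) (hopp : HasOpposites G)
    (hp : UniPair G ((σ : Module.End k M) - 1) ((τ : Module.End k M) - 1))
    (hne : br ((σ : Module.End k M) - 1) ((τ : Module.End k M) - 1) ≠ 0) :
    ⁅sameActionSubgroup G σ, sameActionSubgroup G τ⁆ ∈ quadraticRootSubgroups G ∧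
      (∀ e ∈ sameActionSubgroup G σ, e ≠ 1 → Subgroup.closure ((fun f : LinearMap.GeneralLinearGroup k M => e * f * e⁻¹ * f⁻¹) '' (sameActionSubgroup G τ : Set (LinearMap.GeneralLinearGroup k M))) = ⁅sameActionSubgroup G σ, sameActionSubgroup G τ⁆) ∧
      (∀ f ∈ sameActionSubgroup G τ, f ≠ 1 → Subgroup.closure ((fun e : LinearMap.GeneralLinearGroup k M => e * f * e⁻¹ * f⁻¹) '' (sameActionSubgroup G σ : Set (LinearMap.GeneralLinearGroup k M))) = ⁅sameActionSubgroup G σ, sameActionSubgroup G τ⁆) ∧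
      ⁅sameActionSubgroup G σ ⊔ sameActionSubgroup G τ, sameActionSubgroup G σ ⊔ sameActionSubgroup G τ⁆ ≠ ⊥ ∧
      ⁅⁅sameActionSubgroup G σ ⊔ sameActionSubgroup G τ, sameActionSubgroup G σ ⊔ sameActionSubgroup G τ⁆, sameActionSubgroup G σ ⊔ sameActionSubgroup G τ⁆ = ⊥ ∧
      ((sameActionSubgroup G σ ⊔ sameActionSubgroup G τ : Subgroup (LinearMap.GeneralLinearGroup k M)) : Set (LinearMap.GeneralLinearGroup k M)) ⊆
        quadraticUnipotentCore G ⁅sameActionSubgroup G σ, sameActionSubgroup G τ⁆ := by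
  set S := (σ : Module.End k M) - 1 with hS
  set T := (τ : Module.End k M) - 1 with hT
  set E := sameActionSubgroup G σ with hE
  set F := sameActionSubgroup G τ with hF
  have hne' : br T S ≠ 0 := by rw [br_neg, neg_ne_zero]; exact hne
  have hUm := hp.br_min hopp h2 h3 hne
  obtain ⟨υ, -, hυ⟩ := hUm.toIsRoot.exists_elem
  have hυm : IsMinRoot G ((υ : Module.End k M) - 1) := hυ.symm ▸ hUm
  set L := sameActionSubgroup G υ with hL
  have eU : rootSpace G hυm.sq = rootSpace G hp.br_sq := rootSpace_eq (by rw [hυ]) (by rw [hυ])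
  have memL : ∀ {x : LinearMap.GeneralLinearGroup k M}, x ∈ L ↔ (x : Module.End k M) - 1 ∈ rootSpace G hp.br_sq :=
    fun {x} => by rw [hL, mem_sameActionSubgroup hυm, eU]
  have hval : ∀ a ∈ E, ∀ b ∈ F, ((a * b * a⁻¹ * b⁻¹ : LinearMap.GeneralLinearGroup k M) : Module.End k M) =
      1 + br ((a : Module.End k M) - 1) ((b : Module.End k M) - 1) := fun a ha b hb => by
    have hA := (mem_sameActionSubgroup hσ).1 ha
    have hB := (mem_sameActionSubgroup hτ).1 hb
    refine unit_commutator_val (by rw [add_sub_cancel]) (by rw [add_sub_cancel]) (mul_eq_zero_of_mem hA hA)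
      (mul_eq_zero_of_mem hB hB) ?_ ?_
    · rw [← mul_assoc]; exact triple_eq_zero hσ hτ h2 h3 (by rw [mul_assoc]; exact hp.sts) hA hB hA
    · rw [← mul_assoc]; exact triple_eq_zero hτ hσ h2 h3 (by rw [mul_assoc]; exact hp.tst) hB hA hB
  have hmemL : ∀ a ∈ E, ∀ b ∈ F, a * b * a⁻¹ * b⁻¹ ∈ L := fun a ha b hb => memL.2 (by
    rw [hval a ha b hb, add_sub_cancel_left]
    exact hp.br_mem hopp h2 h3 hne ((mem_sameActionSubgroup hσ).1 ha) ((mem_sameActionSubgroup hτ).1 hb))
  have hne1 : ∀ x : LinearMap.GeneralLinearGroup k M, x ≠ 1 → (x : Module.End k M) - 1 ≠ 0 :=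
    fun x hx e => hx (Units.ext (sub_eq_zero.1 e))
  have hsurjE : ∀ e ∈ E, e ≠ 1 → ∀ x ∈ L, ∃ f ∈ F, e * f * e⁻¹ * f⁻¹ = x := by
    intro e he he1 x hx
    have hA := (mem_sameActionSubgroup hσ).1 he
    have hp' := hp.of_mem h2 h3 hA (hne1 e he1) (mem_rootSpace_self hτ.toIsRoot) hτ.ne
    obtain ⟨hm, hk, hr⟩ := hσ.of_mem_rootSpace hA (hne1 e he1)
    have hne2 : br ((e : Module.End k M) - 1) T ≠ 0 := fun h0 => hne (hp'.br_eq_zero_all hopp h2 h3 h0
      (by rw [rootSpace_eq hk hr]; exact mem_rootSpace_self hσ.toIsRoot) (mem_rootSpace_self hτ.toIsRoot))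
    have hU' := hp.br_mem hopp h2 h3 hne hA (mem_rootSpace_self hτ.toIsRoot)
    obtain ⟨-, hkU, hrU⟩ := hUm.of_mem_rootSpace hU' hne2
    have e2 : rootSpace G hp'.br_sq = rootSpace G hp.br_sq := rootSpace_eq hkU hrU
    obtain ⟨B, hB⟩ := hp'.brMap_surjective hopp h2 h3 hne2 ⟨(x : Module.End k M) - 1, e2.symm ▸ memL.1 hx⟩
    obtain ⟨f, hf, hfe⟩ := exists_mem_of_rootSpace hτ B.2
    refine ⟨f, hf, Units.ext ?_⟩
    rw [hval e he f hf, hfe, add_sub_cancel_left,
      show br ((e : Module.End k M) - 1) B.1 = (x : Module.End k M) - 1 from congrArg Subtype.val hB, add_sub_cancel]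
  have hsurjF : ∀ f ∈ F, f ≠ 1 → ∀ x ∈ L, ∃ e ∈ E, e * f * e⁻¹ * f⁻¹ = x := by
    intro f hf hf1 x hx
    have hB := (mem_sameActionSubgroup hτ).1 hf
    have hp' := (hp.of_mem h2 h3 (mem_rootSpace_self hσ.toIsRoot) hσ.ne hB (hne1 f hf1)).symm
    obtain ⟨hm, hk, hr⟩ := hτ.of_mem_rootSpace hB (hne1 f hf1)
    have hne2 : br ((f : Module.End k M) - 1) S ≠ 0 := fun h0 => hne' (hp'.br_eq_zero_all hopp h2 h3 h0
      (by rw [rootSpace_eq hk hr]; exact mem_rootSpace_self hτ.toIsRoot) (mem_rootSpace_self hσ.toIsRoot))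
    have hU' : br ((f : Module.End k M) - 1) S ∈ rootSpace G hp.br_sq := by
      rw [br_neg S]; exact neg_mem (hp.br_mem hopp h2 h3 hne (mem_rootSpace_self hσ.toIsRoot) hB)
    obtain ⟨-, hkU, hrU⟩ := hUm.of_mem_rootSpace hU' hne2
    have e2 : rootSpace G hp'.br_sq = rootSpace G hp.br_sq := rootSpace_eq hkU hrU
    obtain ⟨A, hA⟩ := hp'.brMap_surjective hopp h2 h3 hne2
      ⟨-((x : Module.End k M) - 1), e2.symm ▸ neg_mem (memL.1 hx)⟩
    obtain ⟨e, he, hee⟩ := exists_mem_of_rootSpace hσ A.2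
    refine ⟨e, he, Units.ext ?_⟩
    rw [hval e he f hf, hee, add_sub_cancel_left, br_neg ((f : Module.End k M) - 1) A.1,
      show br ((f : Module.End k M) - 1) A.1 = -((x : Module.End k M) - 1) from congrArg Subtype.val hA,
      neg_neg, add_sub_cancel]
  have hσ1 : σ ≠ 1 := fun e => hσ.ne (by rw [hS, e, Units.val_one, sub_self])
  have hσE : σ ∈ E := (mem_sameActionSubgroup hσ).2 (mem_rootSpace_self hσ.toIsRoot)
  have hEF : ⁅E, F⁆ = L := by
    refine le_antisymm (Subgroup.commutator_le.2 fun a ha b hb => by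
      rw [commutatorElement_def]; exact hmemL a ha b hb) fun x hx => ?_
    obtain ⟨f, hf, rfl⟩ := hsurjE σ hσE hσ1 x hx
    rw [← commutatorElement_def]
    exact Subgroup.commutator_mem_commutator hσE hf
  rw [hEF]
  -- the elements of `⟨E, F⟩`
  let Q : Submodule k (Module.End k M) :=
    { carrier := {N | br S T * N = 0 ∧ N * br S T = 0 ∧
        ∀ m ∈ LinearMap.ker (br S T), N m ∈ LinearMap.range (br S T)}
      zero_mem' := ⟨mul_zero _, zero_mul _, fun m _ => by simp⟩
      add_mem' := fun {a b} ha hb => ⟨by rw [mul_add, ha.1, hb.1, add_zero], by rw [add_mul, ha.2.1, hb.2.1, add_zero],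
        fun m hm => add_mem (ha.2.2 m hm) (hb.2.2 m hm)⟩
      smul_mem' := fun c a ha => ⟨by rw [mul_smul_comm, ha.1, smul_zero], by rw [smul_mul_assoc, ha.2.1, smul_zero],
        fun m hm => Submodule.smul_mem _ c (ha.2.2 m hm)⟩ }
  obtain ⟨hUS, hSU, hUT, hTU⟩ := hp.br_mul
  have hQQ : Q * Q ≤ Q := Submodule.mul_le.2 fun a ha b hb =>
    ⟨by rw [← mul_assoc, ha.1, zero_mul], by rw [mul_assoc, hb.2.1, mul_zero], fun m hm => by
      refine ha.2.2 (b m) (LinearMap.mem_ker.2 ?_)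
      rw [← Module.End.mul_apply, hb.1]
      rfl⟩
  have hQE : ∀ a ∈ E, (a : Module.End k M) - 1 ∈ Q := fun a ha => by
    by_cases h0 : (a : Module.End k M) - 1 = 0
    · rw [h0]; exact zero_mem _
    have hA := (mem_sameActionSubgroup hσ).1 ha
    refine ⟨(mul_eq_zero_of_root hσ hA).1 hUS, (mul_eq_zero_of_root hσ hA).2 hSU, ?_⟩
    have hp' := (hp.of_mem h2 h3 hA h0 (mem_rootSpace_self hτ.toIsRoot) hτ.ne).symm
    have hU' : br T ((a : Module.End k M) - 1) ∈ rootSpace G hp.br_sq := by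
      rw [br_neg ((a : Module.End k M) - 1)]
      exact neg_mem (hp.br_mem hopp h2 h3 hne hA (mem_rootSpace_self hτ.toIsRoot))
    obtain ⟨-, hk, hr⟩ := hσ.of_mem_rootSpace hA h0
    have hne2 : br T ((a : Module.End k M) - 1) ≠ 0 := fun e => hne' (hp'.br_eq_zero_all hopp h2 h3 e
      (mem_rootSpace_self hτ.toIsRoot) (by rw [rootSpace_eq hk hr]; exact mem_rootSpace_self hσ.toIsRoot))
    obtain ⟨-, hkU, hrU⟩ := hUm.of_mem_rootSpace hU' hne2
    have := hp'.map_ker_le hopp h2 h3 hne2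
    rwa [hkU, hrU] at this
  have hQF : ∀ b ∈ F, (b : Module.End k M) - 1 ∈ Q := fun b hb => by
    by_cases h0 : (b : Module.End k M) - 1 = 0
    · rw [h0]; exact zero_mem _
    have hB := (mem_sameActionSubgroup hτ).1 hb
    refine ⟨(mul_eq_zero_of_root hτ hB).1 hUT, (mul_eq_zero_of_root hτ hB).2 hTU, ?_⟩
    have hp' := hp.of_mem h2 h3 (mem_rootSpace_self hσ.toIsRoot) hσ.ne hB h0
    have hne2 := hp.br_ne_zero hopp h2 h3 hne hB h0
    obtain ⟨-, hkU, hrU⟩ := hUm.of_mem_rootSpace (hp.br_mem hopp h2 h3 hne (mem_rootSpace_self hσ.toIsRoot) hB) hne2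
    have := hp'.map_ker_le hopp h2 h3 hne2
    rwa [hkU, hrU] at this
  have hX : ∀ g ∈ E ⊔ F, (g : Module.End k M) - 1 ∈ Q := by
    intro g hg
    have hle := lam_supW_le (P := {E, F}) hQQ (by
      rintro C (rfl | rfl)
      · exact hQE
      · exact hQF)
    rw [supW, iSup_pair] at hle
    exact hle (mem_lam hg)
  have hcent : ∀ c ∈ L, ∀ g ∈ E ⊔ F, c * g = g * c := by
    intro c hc g hg
    have e1 := (mul_eq_zero_of_root (N := (g : Module.End k M) - 1) hUm (memL.1 hc)).1 (hX g hg).2.1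
    have e2 := (mul_eq_zero_of_root (N := (g : Module.End k M) - 1) hUm (memL.1 hc)).2 (hX g hg).1
    apply Units.ext
    rw [Units.val_mul, Units.val_mul]
    simp only [mul_sub, sub_mul, mul_one, one_mul] at e1 e2
    linear_combination (norm := abel) e2 - e1
  have habel : ∀ ρ : LinearMap.GeneralLinearGroup k M, IsMinRoot G ((ρ : Module.End k M) - 1) →
      ∀ a ∈ sameActionSubgroup G ρ, ∀ a' ∈ sameActionSubgroup G ρ, a * a' * a⁻¹ * a'⁻¹ ∈ L := by
    intro ρ hρ a ha a' ha'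
    have := congrArg Subtype.val ((isMulCommutative_sameAction hρ).is_comm.comm ⟨a, ha⟩ ⟨a', ha'⟩)
    simp only [Subgroup.coe_mul] at this
    rw [this, mul_inv_cancel_right, mul_inv_cancel]
    exact one_mem _
  have hXX : ⁅E ⊔ F, E ⊔ F⁆ ≤ L :=
    commutator_sup_le_of_central (habel σ hσ) (habel τ hτ) hmemL hcent
  have hUmem : ∀ {x : LinearMap.GeneralLinearGroup k M}, x ∈ L → ∀ m, ((x : Module.End k M) - 1) m ∈ LinearMap.range (br S T) :=
    fun hx m => (memL.1 hx).2.1 ⟨m, rfl⟩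
  have hυL : υ ∈ L := memL.2 (by rw [hυ]; exact mem_rootSpace_self hUm.toIsRoot)
  have hfix : fixedSubmodule L = LinearMap.ker (br S T) := by
    refine le_antisymm (fun m hm => ?_) (fun m hm => ?_)
    · simp only [fixedSubmodule, Submodule.mem_iInf] at hm
      rw [← hυ]
      exact hm υ hυL
    · simp only [fixedSubmodule, Submodule.mem_iInf]
      exact fun x hx => (memL.1 hx).1 hm
  have hcom : commutatorSubmodule L = LinearMap.range (br S T) := by
    refine le_antisymm ?_ ?_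
    · simp only [commutatorSubmodule, iSup_le_iff]
      exact fun x hx => (memL.1 hx).2.1
    · rw [← hυ]
      exact le_iSup₂_of_le υ hυL le_rfl
  refine ⟨⟨υ, mem_minimal_iff.2 hυm, rfl⟩, ?_, ?_, ?_, ?_, ?_⟩
  · intro e he he1
    refine le_antisymm ((Subgroup.closure_le _).2 ?_) fun x hx => ?_
    · rintro _ ⟨f, hf, rfl⟩
      exact hmemL e he f hf
    · obtain ⟨f, hf, rfl⟩ := hsurjE e he he1 x hx
      exact Subgroup.subset_closure ⟨f, hf, rfl⟩
  · intro f hf hf1
    refine le_antisymm ((Subgroup.closure_le _).2 ?_) fun x hx => ?_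
    · rintro _ ⟨e, he, rfl⟩
      exact hmemL e he f hf
    · obtain ⟨e, he, rfl⟩ := hsurjF f hf hf1 x hx
      exact Subgroup.subset_closure ⟨e, he, rfl⟩
  · intro h
    have : υ ∈ ⁅E ⊔ F, E ⊔ F⁆ := Subgroup.commutator_mono le_sup_left le_sup_right (hEF.symm ▸ hυL)
    rw [h, Subgroup.mem_bot] at this
    exact hne (by rw [← hυ, this, Units.val_one, sub_self])
  · rw [Subgroup.commutator_eq_bot_iff_le_centralizer]
    intro c hc
    rw [Subgroup.mem_centralizer_iff]
    exact fun g hg => (hcent c (hXX hc) g hg).symm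
  · intro g hg
    have hq := hX g hg
    refine ⟨(sup_le (sameActionSubgroup_le hσ) (sameActionSubgroup_le hτ) : E ⊔ F ≤ G) hg, ?_, ?_, ?_, ?_⟩
    · rw [Subgroup.mem_normalizer_iff]
      intro c
      constructor
      · intro hc
        rw [← hcent c hc g hg, mul_inv_cancel_right]
        exact hc
      · intro hc
        have := hcent _ hc g hg
        rw [inv_mul_cancel_right] at this
        rwa [show c = g * c * g⁻¹ from mul_left_cancel this]
    · intro m
      rw [hfix, LinearMap.mem_ker]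
      exact LinearMap.congr_fun hq.1 m
    · rw [hfix, hcom]
      exact hq.2.2
    · rw [hcom]
      rintro _ ⟨m, rfl⟩
      exact sub_eq_zero.1 (LinearMap.congr_fun hq.2.1 m)

end CfsgLib.QP
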