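import Cfsg.Agent.QuadPairs.Connect

set_option autoImplicit false
set_option linter.unusedSectionVars false

/-!
The groups generated by the components of root groups, and their quasisimplicity.
-/

universe u v

namespace CfsgLib.QP

open Cfsg commutatorElement

theorem commutator_sup_normal_le {H : Type*} [Group H] {A K : Subgroup H} (hA : IsMulCommutative A)
    (hn : ∀ a ∈ A, conjBy K a = K) : ⁅A ⊔ K, A ⊔ K⁆ ≤ K := by
  have hle : A ≤ Subgroup.normalizer (K : Set H) := fun a ha => CfsgLib.RankOne.conjBy_eq_self_iff.1 (hn a ha)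
  have hnormal : (K.subgroupOf (A ⊔ K)).Normal := Subgroup.normal_subgroupOf_sup_of_le_normalizer hle
  let q := QuotientGroup.mk' (K.subgroupOf (A ⊔ K))
  have hsurj : ∀ x : ↥(A ⊔ K), ∃ a : A, q x = q ⟨a.1, Subgroup.mem_sup_left a.2⟩ := by
    intro x
    have hx : (x : H) ∈ ((A ⊔ K : Subgroup H) : Set H) := x.2
    rw [Subgroup.coe_mul_of_left_le_normalizer_right A K hle] at hx
    obtain ⟨a, ha, l, hl, e⟩ := hx
    refine ⟨⟨a, ha⟩, ?_⟩
    have hl' : q ⟨l, Subgroup.mem_sup_right hl⟩ = 1 := (QuotientGroup.eq_one_iff _).2 hl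
    rw [show x = (⟨a, Subgroup.mem_sup_left ha⟩ : ↥(A ⊔ K)) * ⟨l, Subgroup.mem_sup_right hl⟩ from Subtype.ext e.symm,
      map_mul, hl', mul_one]
  rw [Subgroup.commutator_le]
  intro x hx y hy
  obtain ⟨a, ha⟩ := hsurj ⟨x, hx⟩
  obtain ⟨b, hb⟩ := hsurj ⟨y, hy⟩
  have hab : q ⁅(⟨x, hx⟩ : ↥(A ⊔ K)), ⟨y, hy⟩⁆ = 1 := by
    rw [map_commutatorElement, ha, hb, commutatorElement_eq_one_iff_commute, commute_iff_eq, ← map_mul, ← map_mul]
    exact congrArg q (Subtype.ext (congrArg Subtype.val (hA.is_comm.comm a b) : (a : H) * b = b * a))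
  exact (QuotientGroup.eq_one_iff (N := K.subgroupOf (A ⊔ K)) _).1 hab

variable {k : Type u} [Field k] {M : Type v} [AddCommGroup M] [Module k M] [FiniteDimensional k M]
  {H : Subgroup (LinearMap.GeneralLinearGroup k M)} {S T : Module.End k M}

/-- The root groups in the component of `S`. -/
def part (H : Subgroup (LinearMap.GeneralLinearGroup k M)) (S : Module.End k M) :
    Set (Subgroup (LinearMap.GeneralLinearGroup k M)) :=
  {A | ∃ σ : LinearMap.GeneralLinearGroup k M, IsMinRoot H ((σ : Module.End k M) - 1) ∧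
    Conn H S ((σ : Module.End k M) - 1) ∧ A = sameActionSubgroup H σ}

/-- The group generated by a component. -/
def comp (H : Subgroup (LinearMap.GeneralLinearGroup k M)) (S : Module.End k M) :
    Subgroup (LinearMap.GeneralLinearGroup k M) := ⨆ A ∈ part H S, A

theorem part_subset : part H S ⊆ quadraticRootSubgroups H := by
  rintro A ⟨σ, hσ, -, rfl⟩
  exact ⟨σ, mem_minimal_iff.2 hσ, rfl⟩

theorem comp_le : comp H S ≤ H := iSup₂_le fun _ hA => le_of_mem_quadraticRootSubgroups (part_subset hA)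

theorem sameAction_le_comp {σ : LinearMap.GeneralLinearGroup k M}
    (hσ : IsMinRoot H ((σ : Module.End k M) - 1)) (hc : Conn H S ((σ : Module.End k M) - 1)) :
    sameActionSubgroup H σ ≤ comp H S :=
  le_iSup₂ (f := fun A (_ : A ∈ part H S) => A) _ ⟨σ, hσ, hc, rfl⟩

theorem mem_comp_of_conn (hT : IsMinRoot H T) (hc : Conn H S T) {x : LinearMap.GeneralLinearGroup k M} {c : k}
    (hx : (x : Module.End k M) = 1 + c • T) : x ∈ comp H S := by
  obtain ⟨σ, -, rfl⟩ := hT.toIsRoot.exists_elem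
  refine sameAction_le_comp hT hc ((mem_sameActionSubgroup hT).2 ?_)
  rw [hx, add_sub_cancel_left]
  exact Submodule.smul_mem _ c (mem_rootSpace_self hT.toIsRoot)

theorem comp_congr (hST : Conn H S T) (h2 : (2 : k) ≠ 0) (h3 : Nat.card k ≠ 3) : comp H S = comp H T := by
  apply le_antisymm <;> refine iSup₂_le fun A hA => ?_
  · obtain ⟨σ, hσ, hc, rfl⟩ := hA
    exact sameAction_le_comp hσ ((hST.symm h2 h3).trans hc)
  · obtain ⟨σ, hσ, hc, rfl⟩ := hA
    exact sameAction_le_comp hσ (hST.trans hc)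

theorem commute_of_not_conn (hopp : HasOpposites H) (h2 : (2 : k) ≠ 0) (h3 : Nat.card k ≠ 3)
    (h : ¬ Conn H S T) : ∀ x ∈ comp H S, ∀ y ∈ comp H T, x * y = y * x := by
  have key : comp H S ≤ Subgroup.centralizer (comp H T : Set (LinearMap.GeneralLinearGroup k M)) := by
    refine iSup₂_le fun A hA => ?_
    rw [Subgroup.le_centralizer_iff]
    refine iSup₂_le fun B hB => ?_
    intro b hb
    rw [Subgroup.mem_centralizer_iff]
    intro a ha
    obtain ⟨σ, hσ, hcS, rfl⟩ := hA
    obtain ⟨τ, hτ, hcT, rfl⟩ := hB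
    have hA' := (mem_sameActionSubgroup hσ).1 ha
    have hB' := (mem_sameActionSubgroup hτ).1 hb
    by_cases ha0 : (a : Module.End k M) - 1 = 0
    · rw [show a = 1 from Units.ext (sub_eq_zero.1 ha0), one_mul, mul_one]
    by_cases hb0 : (b : Module.End k M) - 1 = 0
    · rw [show b = 1 from Units.ext (sub_eq_zero.1 hb0), one_mul, mul_one]
    have hcomm : ((a : Module.End k M) - 1) * ((b : Module.End k M) - 1) =
        ((b : Module.End k M) - 1) * ((a : Module.End k M) - 1) := by
      by_contra hne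
      have hc := conn_of_br (hσ.of_mem_rootSpace hA' ha0).1 (hτ.of_mem_rootSpace hB' hb0).1 hopp h2 h3 hne
      exact h ((hcS.trans (conn_of_mem_rootSpace hσ hopp h2 h3 hA' ha0)).trans (hc.trans
        ((hcT.trans (conn_of_mem_rootSpace hτ hopp h2 h3 hB' hb0)).symm h2 h3)))
    apply Units.ext
    rw [Units.val_mul, Units.val_mul]
    simp only [mul_sub, sub_mul, mul_one, one_mul] at hcomm
    linear_combination (norm := abel) hcomm
  exact fun x hx y hy => (Subgroup.mem_centralizer_iff.1 (key hx) y hy).symm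

theorem conjBy_comp_le {g : LinearMap.GeneralLinearGroup k M} (hg : conjBy H g = H) :
    conjBy (comp H S) g ≤ comp H (conjEnd g S) := by
  rw [comp, conjBy, Subgroup.map_iSup]
  refine iSup_le fun A => ?_
  rw [Subgroup.map_iSup]
  refine iSup_le fun hA => ?_
  obtain ⟨σ, hσ, hc, rfl⟩ := hA
  have he := conjEnd_one_sub g σ
  have hm : IsMinRoot H (((g * σ * g⁻¹ : LinearMap.GeneralLinearGroup k M) : Module.End k M) - 1) :=
    he ▸ hσ.conj_of_normalizes hg
  have hc' : Conn H (conjEnd g S) (((g * σ * g⁻¹ : LinearMap.GeneralLinearGroup k M) : Module.End k M) - 1) :=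
    he ▸ hc.conj hg
  exact (sameActionSubgroup_conj_of_normalizes hσ hg).le.trans (sameAction_le_comp hm hc')

theorem conjBy_inv_eq_self {H' : Subgroup (LinearMap.GeneralLinearGroup k M)} {g : LinearMap.GeneralLinearGroup k M}
    (hg : conjBy H' g = H') : conjBy H' g⁻¹ = H' := by
  conv_lhs => rw [← hg, CfsgLib.RankOne.conjBy_conjBy, inv_mul_cancel, CfsgLib.RankOne.conjBy_one]

theorem conjBy_comp {g : LinearMap.GeneralLinearGroup k M} (hg : conjBy H g = H) :
    conjBy (comp H S) g = comp H (conjEnd g S) := by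
  refine le_antisymm (conjBy_comp_le hg) ?_
  have := Subgroup.map_mono (f := (MulAut.conj g).toMonoidHom)
    (conjBy_comp_le (S := conjEnd g S) (conjBy_inv_eq_self hg))
  change conjBy (conjBy (comp H (conjEnd g S)) g⁻¹) g ≤ conjBy (comp H (conjEnd g⁻¹ (conjEnd g S))) g at this
  rwa [CfsgLib.RankOne.conjBy_conjBy, mul_inv_cancel, CfsgLib.RankOne.conjBy_one, conjEnd_conjEnd,
    inv_mul_cancel, conjEnd_one] at this

theorem sigma_le_normalizer_comp (hS : IsMinRoot H S) (hopp : HasOpposites H) (h2 : (2 : k) ≠ 0)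
    (h3 : Nat.card k ≠ 3) :
    (⨆ A ∈ quadraticRootSubgroups H, A) ≤
      Subgroup.normalizer (comp H S : Set (LinearMap.GeneralLinearGroup k M)) := by
  refine iSup₂_le fun A hA => ?_
  obtain ⟨σ, hσ, rfl⟩ := hA
  have hσm := mem_minimal_iff.1 hσ
  by_cases hc : Conn H S ((σ : Module.End k M) - 1)
  · exact (sameAction_le_comp hσm hc).trans Subgroup.le_normalizer
  · intro a ha
    rw [Subgroup.mem_normalizer_iff]
    intro x
    have hcomm : ∀ y ∈ comp H S, y * a = a * y := fun y hy =>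
      commute_of_not_conn hopp h2 h3 hc y hy a (sameAction_le_comp hσm Relation.ReflTransGen.refl ha)
    refine ⟨fun hx => ?_, fun hx => ?_⟩
    · rw [← hcomm x hx, mul_inv_cancel_right]; exact hx
    · have := hcomm _ hx
      rw [inv_mul_cancel_right] at this
      rwa [show x = a * x * a⁻¹ from mul_left_cancel this]

theorem sameAction_le_commutator {σ τ : LinearMap.GeneralLinearGroup k M}
    (hσ : IsMinRoot H ((σ : Module.End k M) - 1)) (hτ : IsMinRoot H ((τ : Module.End k M) - 1))
    (h2 : (2 : k) ≠ 0) (h3 : Nat.card k ≠ 3)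
    (h : ((σ : Module.End k M) - 1) * ((τ : Module.End k M) - 1) * ((σ : Module.End k M) - 1) ≠ 0) :
    sameActionSubgroup H σ ≤ ⁅sameActionSubgroup H σ ⊔ sameActionSubgroup H τ,
      sameActionSubgroup H σ ⊔ sameActionSubgroup H τ⁆ := by
  intro x hx
  by_cases hx1 : (x : Module.End k M) - 1 = 0
  · rw [show x = 1 from Units.ext (sub_eq_zero.1 hx1)]; exact one_mem _
  have hA := (mem_sameActionSubgroup hσ).1 hx
  obtain ⟨hAm, hk, hr⟩ := hσ.of_mem_rootSpace hA hx1
  have hopp := opposite_of_mem hσ hτ h2 h3 h hA hx1 (mem_rootSpace_self hτ.toIsRoot) hτ.ne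
  obtain ⟨K, _, _, _, D, hadj, heS, heT, hkS, hkT, -⟩ := exists_corner_field hAm hτ h2 h3 hopp
  have hα : IsUnit D.α := IsUnit.of_mul_eq_one D.β D.αβ
  have h1 := (gen_perfect h2 h3 hα hadj 1 (algebraMap k K 1)).1
  have hmem := Subgroup.mem_map_of_mem D.homU (dser_mono (le_top (a := gen k D.α)) 1 h1)
  rw [map_dser, ← MonoidHom.range_eq_map, ← pairGrp_eq_range D h2 h3 hadj heS heT] at hmem
  have hle : pairGrp (k := k) D.hS D.hT ≤ sameActionSubgroup H σ ⊔ sameActionSubgroup H τ := by
    rw [pairGrp, Subgroup.closure_le]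
    rintro _ (⟨c, rfl⟩ | ⟨c, rfl⟩)
    · refine Subgroup.mem_sup_left ((mem_sameActionSubgroup hσ).2 ?_)
      rw [fam_val, add_sub_cancel_left]
      exact Submodule.smul_mem _ c hA
    · refine Subgroup.mem_sup_right ((mem_sameActionSubgroup hτ).2 ?_)
      rw [fam_val, add_sub_cancel_left]
      exact Submodule.smul_mem _ c (mem_rootSpace_self hτ.toIsRoot)
  have hx' : x = D.homU (up (algebraMap k K 1)) := Units.ext (by
    rw [D.homU_up_alg, heS, one_smul, add_sub_cancel])
  rw [hx']
  exact dser_mono hle 1 hmem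

theorem le_of_opposite_conj {K : Subgroup (LinearMap.GeneralLinearGroup k M)}
    {σ g : LinearMap.GeneralLinearGroup k M} (hσ : IsMinRoot H ((σ : Module.End k M) - 1))
    (h2 : (2 : k) ≠ 0) (h3 : Nat.card k ≠ 3) (hgH : conjBy H g = H) (hg : g ∈ K)
    (hn : ∀ a ∈ sameActionSubgroup H σ, conjBy K a = K)
    (h : ((σ : Module.End k M) - 1) * conjEnd g ((σ : Module.End k M) - 1) * ((σ : Module.End k M) - 1) ≠ 0) :
    sameActionSubgroup H σ ≤ K := by
  have he := conjEnd_one_sub g σ
  have hτ : IsMinRoot H (((g * σ * g⁻¹ : LinearMap.GeneralLinearGroup k M) : Module.End k M) - 1) :=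
    he ▸ hσ.conj_of_normalizes hgH
  have h1 := sameAction_le_commutator hσ hτ h2 h3 (by rw [he]; exact h)
  refine h1.trans ?_
  have hB : sameActionSubgroup H (g * σ * g⁻¹) ≤ sameActionSubgroup H σ ⊔ K := by
    rw [← sameActionSubgroup_conj_of_normalizes hσ hgH]
    rintro _ ⟨y, hy, rfl⟩
    exact mul_mem (mul_mem (Subgroup.mem_sup_right hg) (Subgroup.mem_sup_left hy))
      (inv_mem (Subgroup.mem_sup_right hg))
  exact (Subgroup.commutator_mono (sup_le le_sup_left hB) (sup_le le_sup_left hB)).trans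
    (commutator_sup_normal_le (isMulCommutative_sameAction hσ) hn)

/-- A subgroup normalised by a component either centralises a root group or contains one. -/
theorem centralizes_or_contains {K : Subgroup (LinearMap.GeneralLinearGroup k M)}
    {σ : LinearMap.GeneralLinearGroup k M} (hσ : IsMinRoot H ((σ : Module.End k M) - 1))
    (hopp : HasOpposites H) (h2 : (2 : k) ≠ 0) (h3 : Nat.card k ≠ 3) (hK : RadFree K)
    (hKH : ∀ g ∈ K, conjBy H g = H) (hn : ∀ x ∈ comp H ((σ : Module.End k M) - 1), conjBy K x = K) :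
    (∀ a ∈ sameActionSubgroup H σ, ∀ g ∈ K, g * a = a * g) ∨
      ∃ υ : LinearMap.GeneralLinearGroup k M, IsMinRoot H ((υ : Module.End k M) - 1) ∧
        Conn H ((σ : Module.End k M) - 1) ((υ : Module.End k M) - 1) ∧ sameActionSubgroup H υ ≤ K := by
  set S := (σ : Module.End k M) - 1 with hS
  have hσc := sameAction_le_comp hσ (Relation.ReflTransGen.refl : Conn H S S)
  by_cases hall : ∀ g ∈ K, S * conjEnd g S = conjEnd g S * S
  swap
  · push Not at hall
    obtain ⟨g, hg, hne⟩ := hall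
    refine Or.inr ?_
    by_cases hsts : S * conjEnd g S * S = 0
    swap
    · exact ⟨σ, hσ, Relation.ReflTransGen.refl,
        le_of_opposite_conj hσ h2 h3 (hKH g hg) hg (fun a ha => hn a (hσc ha)) hsts⟩
    have he := conjEnd_one_sub g σ
    have hτ : IsMinRoot H (((g * σ * g⁻¹ : LinearMap.GeneralLinearGroup k M) : Module.End k M) - 1) :=
      he ▸ hσ.conj_of_normalizes (hKH g hg)
    have hp : UniPair H S (conjEnd g S) :=
      uniPair_of hσ (hσ.conj_of_normalizes (hKH g hg)) h2 h3 hsts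
    have hbr : br S (conjEnd g S) ≠ 0 := sub_ne_zero.2 hne
    have hUm := hp.br_min hopp h2 h3 hbr
    obtain ⟨u, hu⟩ : ∃ u, u = σ * (g * σ * g⁻¹) * σ⁻¹ * (g * σ * g⁻¹)⁻¹ := ⟨_, rfl⟩
    have hval : (u : Module.End k M) = 1 + br S (conjEnd g S) := by
      rw [hu]
      refine unit_commutator_val (by rw [hS, add_sub_cancel]) (by rw [← he, add_sub_cancel]) hσ.sq hp.right.sq
        hp.sts hp.tst
    have huK : u ∈ K := by
      refine commutator_sup_normal_le (isMulCommutative_sameAction hσ) (fun a ha => hn a (hσc ha)) ?_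
      have h1 : σ ∈ sameActionSubgroup H σ ⊔ K :=
        Subgroup.mem_sup_left ((mem_sameActionSubgroup hσ).2 (mem_rootSpace_self hσ.toIsRoot))
      have h1' : g * σ * g⁻¹ ∈ sameActionSubgroup H σ ⊔ K :=
        mul_mem (mul_mem (Subgroup.mem_sup_right hg) h1) (inv_mem (Subgroup.mem_sup_right hg))
      rw [hu, ← commutatorElement_def]
      exact Subgroup.commutator_mem_commutator h1 h1'
    obtain ⟨W, hW, hUW⟩ := hopp _ hUm
    obtain ⟨V, hV, -, hUVU, hVUV⟩ := exists_normal_opposite hUm hW h2 h3 hUW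
    obtain ⟨υ, -, hυ⟩ := hV.toIsRoot.exists_elem
    subst hυ
    set V := (υ : Module.End k M) - 1 with hVdef
    have hUV : br S (conjEnd g S) * V * br S (conjEnd g S) ≠ 0 := hUVU.symm ▸ hUm.ne
    have hconn : Conn H S V := (hp.conn_br hopp h2 h3 hbr).trans (conn_single hUm hV hUV)
    refine ⟨υ, hV, hconn, le_of_opposite_conj hV h2 h3 (hKH u huK) huK
      (fun a ha => hn a (sameAction_le_comp hV hconn ha)) ?_⟩
    have hinv : ((u⁻¹ : LinearMap.GeneralLinearGroup k M) : Module.End k M) = 1 - br S (conjEnd g S) := by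
      rw [show u = fam (k := k) hp.br_sq 1 from Units.ext (by rw [hval, fam_val, one_smul]), fam_inv_val, one_smul]
    rw [conjEnd, hval, hinv]
    generalize br S (conjEnd g S) = U at hUVU hVUV
    have e : V * ((1 + U) * V * (1 - U)) * V =
        V * V * V + V * U * V * V - V * V * U * V - V * U * V * (U * V) := by noncomm_ring
    rw [e, hV.sq, hVUV, hV.sq, ← mul_assoc, hVUV]
    simp only [zero_mul, zero_add, sub_zero, zero_sub, neg_ne_zero]
    exact hV.ne
  · refine Or.inl fun a ha g hg => ?_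
    set W : Set (Subgroup (LinearMap.GeneralLinearGroup k M)) :=
      {A | ∃ y ∈ K, A = sameActionSubgroup H (y * σ * y⁻¹)} with hW
    have hmin : ∀ y ∈ K, IsMinRoot H (((y * σ * y⁻¹ : LinearMap.GeneralLinearGroup k M) : Module.End k M) - 1) :=
      fun y hy => (conjEnd_one_sub y σ).symm ▸ hσ.conj_of_normalizes (hKH y hy)
    have hpair : ∀ y ∈ K, ∀ z ∈ K, ⁅sameActionSubgroup H (y * σ * y⁻¹), sameActionSubgroup H (z * σ * z⁻¹)⁆ = ⊥ ∧
        IsUnipotentOn (sameActionSubgroup H (y * σ * y⁻¹) ⊔ sameActionSubgroup H (z * σ * z⁻¹)) := by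
      intro y hy z hz
      have hc : conjEnd y S * conjEnd z S = conjEnd z S * conjEnd y S := by
        have := congrArg (conjEnd y) (hall _ (mul_mem (inv_mem hy) hz))
        rwa [← conjEnd_mul, ← conjEnd_mul, conjEnd_conjEnd, mul_inv_cancel_left] at this
      have h0 : (((y * σ * y⁻¹ : LinearMap.GeneralLinearGroup k M) : Module.End k M) - 1) *
          (((z * σ * z⁻¹ : LinearMap.GeneralLinearGroup k M) : Module.End k M) - 1) *
          (((y * σ * y⁻¹ : LinearMap.GeneralLinearGroup k M) : Module.End k M) - 1) = 0 := by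
        rw [conjEnd_one_sub, conjEnd_one_sub, hc, mul_assoc, conjEnd_mul, hσ.sq, conjEnd_zero, mul_zero]
      refine ⟨commutator_eq_bot (hmin y hy) (hmin z hz) h2 h3 hopp (uniPair_of (hmin y hy) (hmin z hz) h2 h3 h0) ?_,
        isUnipotentOn_of_not_opposite (hmin y hy) (hmin z hz) h2 h3 h0 le_rfl⟩
      rw [conjEnd_one_sub, conjEnd_one_sub]
      exact sub_eq_zero.2 hc
    have hcomm : ∀ A ∈ W, ∀ x ∈ supW W, ∀ b ∈ A, b * x = x * b := by
      rintro _ ⟨y, hy, rfl⟩ x hx b hb
      have hle : supW W ≤ Subgroup.centralizer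
          (sameActionSubgroup H (y * σ * y⁻¹) : Set (LinearMap.GeneralLinearGroup k M)) := iSup₂_le fun B hB => by
        obtain ⟨z, hz, rfl⟩ := hB
        exact Subgroup.commutator_eq_bot_iff_le_centralizer.1 (hpair z hz y hy).1
      exact Subgroup.mem_centralizer_iff.1 (hle hx) b hb
    have hu : IsUnipotentOn (supW W) := by
      refine unipotent_of_pairs (G := supW W) (fun A hA => le_supW hA) ?_ ?_
      · rintro _ ⟨y, hy, rfl⟩ _ ⟨z, hz, rfl⟩
        exact (hpair y hy z hz).2
      · intro A hA x hx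
        have hfix : conjBy A x = A := CfsgLib.RankOne.conjBy_eq_self_iff.2 (Subgroup.mem_normalizer_iff.2 fun b => by
          refine ⟨fun hb => ?_, fun hb => ?_⟩
          · rw [← hcomm A hA x hx b hb, mul_inv_cancel_right]; exact hb
          · have := hcomm A hA x hx _ hb
            rw [inv_mul_cancel_right] at this
            rwa [show b = x * b * x⁻¹ from mul_left_cancel this])
        exact hfix.symm ▸ hA
    have hWconj : ∀ A ∈ W, ∀ y ∈ K, conjBy A y ∈ W := by
      rintro _ ⟨z, hz, rfl⟩ y hy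
      exact ⟨y * z, mul_mem hy hz, by
        rw [sameActionSubgroup_conj_of_normalizes (hmin z hz) (hKH y hy), mul_inv_rev]; simp only [mul_assoc]⟩
    have hI := hK (supW W ⊓ K) inf_le_right (isUnipotentOn_mono inf_le_left hu) fun y hy => by
      rw [conjBy, Subgroup.map_inf _ _ _ (MulEquiv.injective _)]
      show conjBy (supW W) y ⊓ conjBy K y = supW W ⊓ K
      rw [conjBy_supW_eq hWconj hy, CfsgLib.RankOne.conjBy_of_mem hy]
    have hmem : ∀ y ∈ K, sameActionSubgroup H (y * σ * y⁻¹) ≤ supW W := fun y hy => le_supW (show _ ∈ W from ⟨y, hy, rfl⟩)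
    have h1 : a * (g * a⁻¹ * g⁻¹) ∈ supW W ⊓ K := by
      refine ⟨mul_mem (hmem 1 (one_mem K) (by simpa using ha)) (hmem g hg ?_), ?_⟩
      · rw [← sameActionSubgroup_conj_of_normalizes hσ (hKH g hg)]
        exact CfsgLib.RankOne.conj_mem_conjBy (A := sameActionSubgroup H σ) (inv_mem ha)
      · rw [show a * (g * a⁻¹ * g⁻¹) = (a * g * a⁻¹) * g⁻¹ by group]
        exact mul_mem (by
          have h := CfsgLib.RankOne.conj_mem_conjBy (g := a) hg
          rwa [hn a (hσc ha)] at h) (K.inv_mem hg)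
    rw [hI, Subgroup.mem_bot] at h1
    have hag : a * g = g * a := by
      calc a * g = (a * (g * a⁻¹ * g⁻¹)) * (g * a) := by group
        _ = g * a := by rw [h1, one_mul]
    exact hag.symm

theorem conn_conjugate (hS : ∀ {T}, Conn H S T → IsMinRoot H T) (h2 : (2 : k) ≠ 0) (h3 : Nat.card k ≠ 3)
    {σ τ : LinearMap.GeneralLinearGroup k M} (hσ : (σ : Module.End k M) - 1 = S)
    (hc : Conn H S ((τ : Module.End k M) - 1)) :
    ∃ x ∈ comp H S, sameActionSubgroup H τ = conjBy (sameActionSubgroup H σ) x := by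
  have key : ∀ T, Conn H S T → ∀ τ : LinearMap.GeneralLinearGroup k M, (τ : Module.End k M) - 1 = T →
      ∃ x ∈ comp H S, sameActionSubgroup H τ = conjBy (sameActionSubgroup H σ) x := by
    intro T hT
    induction hT with
    | refl =>
      intro τ hτ
      refine ⟨1, one_mem _, ?_⟩
      rw [CfsgLib.RankOne.conjBy_one, show τ = σ from Units.ext (by rwa [← hσ, sub_left_inj] at hτ)]
    | @tail B C hab hbc ih =>
      intro τ hτ
      obtain ⟨ρ, -, hρ⟩ := hbc.1.toIsRoot.exists_elem
      obtain ⟨x, hx, e⟩ := ih ρ hρ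
      have hρm : IsMinRoot H ((ρ : Module.End k M) - 1) := hρ.symm ▸ hbc.1
      have hτm : IsMinRoot H ((τ : Module.End k M) - 1) := hτ.symm ▸ hbc.2.1
      have hr := (isSpecialRankOnePair hρm hτm h2 h3 (by rw [hρ, hτ]; exact hbc.2.2)).1
      obtain ⟨y, hy, hye⟩ := CfsgLib.RankOne.exists_swap hr
      refine ⟨y * x, mul_mem ((sup_le (sameAction_le_comp hρm (hρ.symm ▸ hab))
        (sameAction_le_comp hτm (hτ.symm ▸ hab.trans (conn_single hbc.1 hbc.2.1 hbc.2.2))) :
          sameActionSubgroup H ρ ⊔ sameActionSubgroup H τ ≤ comp H S) hy) hx, ?_⟩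
      rw [← CfsgLib.RankOne.conjBy_conjBy, ← e, hye]
  exact key _ hc τ rfl

theorem comp_commutator_eq (hS : IsMinRoot H S) (hopp : HasOpposites H) (h2 : (2 : k) ≠ 0)
    (h3 : Nat.card k ≠ 3) : ⁅comp H S, comp H S⁆ = comp H S := by
  refine le_antisymm (Subgroup.commutator_le.2 fun a ha b hb =>
    mul_mem (mul_mem (mul_mem ha hb) (inv_mem ha)) (inv_mem hb)) (iSup₂_le fun A hA => ?_)
  obtain ⟨σ, hσ, hc, rfl⟩ := hA
  obtain ⟨T, hT, hne⟩ := hopp _ hσ
  obtain ⟨τ, -, hτ⟩ := hT.toIsRoot.exists_elem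
  subst hτ
  have h := (sup_le (sameAction_le_comp hσ hc) (sameAction_le_comp hT (hc.trans (conn_single hσ hT hne))) :
    sameActionSubgroup H σ ⊔ sameActionSubgroup H τ ≤ comp H S)
  exact (sameAction_le_commutator hσ hT h2 h3 hne).trans (Subgroup.commutator_mono h h)

theorem comp_ne_bot (hS : IsMinRoot H S) : comp H S ≠ ⊥ := by
  obtain ⟨σ, -, rfl⟩ := hS.toIsRoot.exists_elem
  intro e
  have := sameAction_le_comp hS (Relation.ReflTransGen.refl : Conn H _ _)
    ((mem_sameActionSubgroup hS).2 (mem_rootSpace_self hS.toIsRoot))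
  rw [e, Subgroup.mem_bot] at this
  exact hS.ne (by rw [this, Units.val_one, sub_self])

theorem isQuasisimple_comp (hS : IsMinRoot H S) (hH : RadFree H) (hn : ∀ g ∈ H, conjBy (comp H S) g = comp H S)
    (h2 : (2 : k) ≠ 0) (h3 : Nat.card k ≠ 3) : IsQuasisimple ↥(comp H S) := by
  have hopp := hH.hasOpposites h2 h3
  set X := comp H S with hX
  have hXr : RadFree X := hH.of_normal comp_le hn
  have hperf := comp_commutator_eq hS hopp h2 h3
  rw [← hX] at hperf
  have htop : _root_.commutator ↥X = ⊤ := by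
    apply Subgroup.map_injective X.subtype_injective
    rw [Subgroup.map_subtype_commutator, hperf, ← MonoidHom.range_eq_map, Subgroup.range_subtype]
  refine ⟨⟨htop⟩, ?_⟩
  have hne : Subgroup.center ↥X ≠ ⊤ := by
    intro hc
    apply comp_ne_bot hS
    rw [← hX, ← hperf, eq_bot_iff, Subgroup.commutator_le]
    intro a ha b hb
    rw [Subgroup.mem_bot, commutatorElement_eq_one_iff_commute]
    have := Subgroup.mem_center_iff.1 (hc ▸ Subgroup.mem_top (⟨b, hb⟩ : X)) ⟨a, ha⟩
    exact congrArg Subtype.val this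
  have : Nontrivial (↥X ⧸ Subgroup.center ↥X) := QuotientGroup.nontrivial_iff.2 hne
  refine ⟨fun N hN => ?_⟩
  set K := (N.comap (QuotientGroup.mk' (Subgroup.center ↥X))).map X.subtype with hK
  have hKX : K ≤ X := Subgroup.map_subtype_le _
  have hKn : ∀ x ∈ X, conjBy K x = K := by
    intro x hx
    have h := hN.comap (QuotientGroup.mk' (Subgroup.center ↥X))
    show conjBy K ((⟨x, hx⟩ : X) : LinearMap.GeneralLinearGroup k M) = K
    rw [hK, ← map_conjBy]
    congr 1
    exact CfsgLib.RankOne.conjBy_eq_self_iff.2 (by rw [Subgroup.normalizer_eq_top_iff.2 h]; exact Subgroup.mem_top _)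
  have hKr : RadFree K := hXr.of_normal hKX hKn
  have hKH : ∀ g ∈ K, conjBy H g = H := fun g hg => CfsgLib.RankOne.conjBy_of_mem (comp_le (hKX hg))
  have hback : N = (K.subgroupOf X).map (QuotientGroup.mk' (Subgroup.center ↥X)) := by
    rw [hK, Subgroup.subgroupOf, Subgroup.comap_map_eq_self_of_injective X.subtype_injective,
      Subgroup.map_comap_eq_self_of_surjective (QuotientGroup.mk'_surjective _)]
  by_cases hcon : ∃ υ : LinearMap.GeneralLinearGroup k M, IsMinRoot H ((υ : Module.End k M) - 1) ∧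
      Conn H S ((υ : Module.End k M) - 1) ∧ sameActionSubgroup H υ ≤ K
  · right
    obtain ⟨υ, hυ, hc, hle⟩ := hcon
    have hXK : X ≤ K := by
      refine iSup₂_le fun A hA => ?_
      obtain ⟨τ, hτ, hcτ, rfl⟩ := hA
      obtain ⟨x, hx, e⟩ := conn_conjugate (fun h => h.isMinRoot hυ) h2 h3 rfl ((hc.symm h2 h3).trans hcτ)
      rw [← comp_congr hc h2 h3] at hx
      exact e ▸ hKn x hx ▸ Subgroup.map_mono hle
    rw [hback, le_antisymm hKX hXK, Subgroup.subgroupOf_self,
      Subgroup.map_top_of_surjective _ (QuotientGroup.mk'_surjective _)]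
  · left
    push Not at hcon
    have hcent : ∀ g ∈ K, ∀ x ∈ X, g * x = x * g := by
      intro g hg
      have hle : X ≤ Subgroup.centralizer {g} := iSup₂_le fun A hA => by
        obtain ⟨τ, hτ, hcτ, rfl⟩ := hA
        intro a ha
        rw [Subgroup.mem_centralizer_singleton_iff]
        rcases centralizes_or_contains hτ hopp h2 h3 hKr hKH
          (fun x hx => hKn x (by rw [hX, comp_congr hcτ h2 h3]; exact hx)) with h | ⟨υ, hυ, hc', hle⟩
        · exact (h a ha g hg).symm
        · exact absurd hle (hcon υ hυ (hcτ.trans hc'))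
      exact fun x hx => (Subgroup.mem_centralizer_singleton_iff.1 (hle hx)).symm
    rw [hback, eq_bot_iff]
    refine (Subgroup.map_mono (fun y hy => ?_ : K.subgroupOf X ≤ Subgroup.center ↥X)).trans
      (QuotientGroup.map_mk'_self _).le
    rw [Subgroup.mem_center_iff]
    exact fun x => Subtype.ext (hcent y hy x x.2).symm

end CfsgLib.QP
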