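import Cfsg.Agent.QuadPairs.RadFree

set_option autoImplicit false
set_option linter.unusedSectionVars false

/-!
The components of the graph of opposite pairs.
-/

universe u v

namespace CfsgLib.QP

open Cfsg commutatorElement

variable {k : Type u} [Field k] {M : Type v} [AddCommGroup M] [Module k M] [FiniteDimensional k M]
  {H : Subgroup (LinearMap.GeneralLinearGroup k M)} {S T U V N P : Module.End k M}

/-- Make `V` annihilate `N` from both sides, keeping the bracket. -/
theorem UniPair.purify_step (h : UniPair H S N) (hopp : HasOpposites H) (h2 : (2 : k) ≠ 0)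
    (h3 : Nat.card k ≠ 3) (hne : br S N ≠ 0) (hV : IsMinRoot H V) (h1 : br S N * V * br S N = br S N)
    (h1' : V * br S N * V = V) :
    ∃ V', IsMinRoot H V' ∧ br S N * V' * br S N = br S N ∧ V' * br S N * V' = V' ∧ V' * N * V' = 0 ∧
      (V * S * V = 0 → V' * S * V' = 0) := by
  set U := br S N with hU
  have hX := sandwich_mem hV h2 h3 h.right.sq h.right.fam
  have hUm := h.br_min hopp h2 h3 hne
  have hP := sandwich_mem hUm h2 h3 (mul_eq_zero_of_mem hX hX) hX.2.2
  set P := U * (V * N * V) * U with hPdef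
  have hne' : br N S ≠ 0 := by rw [br_neg, neg_ne_zero]; exact hne
  have e : rootSpace H h.symm.br_sq = rootSpace H h.br_sq :=
    rootSpace_eq (by rw [br_neg S, LinearMap.ker_neg]) (by rw [br_neg S, LinearMap.range_neg])
  obtain ⟨S', hS'⟩ := h.symm.brMap_surjective hopp h2 h3 hne' ⟨-P, e.symm ▸ neg_mem hP⟩
  have hS'e : br S'.1 N = P := by
    rw [br_neg N S'.1, show br N S'.1 = -P from congrArg Subtype.val hS', neg_neg]
  have hsq : S'.1 * S'.1 = 0 := mul_eq_zero_of_mem S'.2 S'.2
  obtain ⟨g, hg⟩ : ∃ g, g = fam (k := k) hsq 1 := ⟨_, rfl⟩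
  have hgH : g ∈ H := hg ▸ fam_mem S'.2.2.2 hsq 1
  obtain ⟨hUS, hSU, hUN, hNU⟩ := h.br_mul
  have hS'U : S'.1 * U = 0 := (mul_eq_zero_of_root h.left S'.2).2 hSU
  have hUS' : U * S'.1 = 0 := (mul_eq_zero_of_root h.left S'.2).1 hUS
  have hfix : ∀ A, S'.1 * A = 0 → A * S'.1 = 0 → conjEnd g A = A := fun A ha ha' => by
    rw [conjEnd, hg, fam_val, fam_inv_val, one_smul, add_mul, one_mul, ha, add_zero, mul_sub, mul_one, ha', sub_zero]
  have hgU := hfix U hS'U hUS'
  have hgS := hfix S (mul_eq_zero_of_mem S'.2 (mem_rootSpace_self h.left.toIsRoot))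
    (mul_eq_zero_of_mem (mem_rootSpace_self h.left.toIsRoot) S'.2)
  have hgN : conjEnd g (N - P) = N := by
    have hSP : S'.1 * P = 0 := by rw [hPdef, ← mul_assoc, ← mul_assoc S'.1, hS'U, zero_mul, zero_mul]
    have hPS : P * S'.1 = 0 := by rw [hPdef, mul_assoc, hUS', mul_zero]
    have h0 : S'.1 * N * S'.1 = 0 :=
      triple_eq_zero h.left h.right h2 h3 (by rw [mul_assoc]; exact h.sts) S'.2
        (mem_rootSpace_self h.right.toIsRoot) S'.2
    have eN : conjEnd g N = N + P := by
      rw [conjEnd, hg, fam_val, fam_inv_val, one_smul, ← hS'e]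
      calc (1 + S'.1) * N * (1 - S'.1) = N + br S'.1 N - S'.1 * N * S'.1 := by simp only [br]; noncomm_ring
        _ = N + br S'.1 N := by rw [h0, sub_zero]
    rw [conjEnd_sub, eN, hfix P hSP hPS, add_sub_cancel_right]
  refine ⟨conjEnd g V, hV.conj hgH, ?_, ?_, ?_, fun h0 => ?_⟩
  · conv_lhs => rw [← hgU]
    rw [conjEnd_mul, conjEnd_mul, h1, hgU]
  · conv_lhs => rw [← hgU]
    rw [conjEnd_mul, conjEnd_mul, h1']
  · have hkey : V * (N - P) * V = 0 := by
      rw [mul_sub, sub_mul, sub_eq_zero, hPdef]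
      conv_lhs => rw [← h1']
      simp only [mul_assoc]
    rw [← conjEnd_zero g, ← hkey, ← conjEnd_mul, ← conjEnd_mul, hgN]
  · rw [← hgS, conjEnd_mul, conjEnd_mul, h0, conjEnd_zero]

theorem UniPair.exists_pure (h : UniPair H S N) (hopp : HasOpposites H) (h2 : (2 : k) ≠ 0)
    (h3 : Nat.card k ≠ 3) (hne : br S N ≠ 0) :
    ∃ V, IsMinRoot H V ∧ br S N * V * br S N = br S N ∧ V * br S N * V = V ∧ V * S * V = 0 ∧ V * N * V = 0 := by
  obtain ⟨W, hW, hUW⟩ := hopp _ (h.br_min hopp h2 h3 hne)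
  obtain ⟨V, hV, -, hUV, hVU⟩ := exists_normal_opposite (h.br_min hopp h2 h3 hne) hW h2 h3 hUW
  obtain ⟨V₁, hV₁, hUV₁, hVU₁, hN₁, -⟩ := h.purify_step hopp h2 h3 hne hV hUV hVU
  have hne' : br N S ≠ 0 := by rw [br_neg, neg_ne_zero]; exact hne
  have hb : br N S = -br S N := br_neg S N
  have hVm : IsMinRoot H (-V₁) :=
    (hV₁.of_mem_rootSpace (neg_mem (mem_rootSpace_self hV₁.toIsRoot)) (neg_ne_zero.2 hV₁.ne)).1
  obtain ⟨V₂, hV₂, hUV₂, hVU₂, hS₂, hkeep⟩ := h.symm.purify_step hopp h2 h3 hne' hVm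
    (by rw [hb, neg_mul_neg, mul_neg, hUV₁]) (by rw [hb, neg_mul_neg, mul_neg, hVU₁])
  have hN₂ := hkeep (by rw [neg_mul, neg_mul_neg, hN₁])
  refine ⟨-V₂, (hV₂.of_mem_rootSpace (neg_mem (mem_rootSpace_self hV₂.toIsRoot)) (neg_ne_zero.2 hV₂.ne)).1,
    ?_, ?_, ?_, ?_⟩
  · rw [hb] at hUV₂
    have := congrArg (fun x => -x) hUV₂
    simpa [mul_assoc] using this
  · rw [hb] at hVU₂
    have := congrArg (fun x => -x) hVU₂
    simpa [mul_assoc] using this
  · rw [neg_mul, neg_mul_neg, hS₂]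
  · rw [neg_mul, neg_mul_neg, hN₂]

theorem pure_identities {S N V : Module.End k M} (hU : br S N = U) (hSU : S * U = 0)
    (hNU : N * U = 0) (hUS : U * S = 0) (hUN : U * N = 0) (hSVS : S * (V * S) = 0) (hNVN : N * (V * N) = 0)
    (hS : S = U * (V * S) + S * (V * U)) (hN : N = U * (V * N) + N * (V * U)) :
    S * br V N * S = -S ∧ N * br V S * N = N := by
  have eSN : S * N = U + N * S := by rw [← hU, br, sub_add_cancel]
  have eNS : N * S = S * N - U := by rw [← hU, br, sub_sub_cancel]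
  constructor
  · have a1 : S * (V * (N * S)) = -(S * (V * U)) := by
      rw [eNS, mul_sub, mul_sub, ← mul_assoc V S N, ← mul_assoc S (V * S), hSVS, zero_mul, zero_sub]
    have a2 : S * (N * (V * S)) = U * (V * S) := by
      rw [← mul_assoc S N, eSN, add_mul, mul_assoc N, hSVS, mul_zero, add_zero]
    calc S * br V N * S = S * (V * (N * S)) - S * (N * (V * S)) := by
          simp only [br, mul_sub, sub_mul, mul_assoc]
      _ = -S := by rw [a1, a2]; conv_rhs => rw [hS]
                   abel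
  · have a1 : N * (V * (S * N)) = N * (V * U) := by
      rw [eSN, mul_add, mul_add, ← mul_assoc V N S, ← mul_assoc N (V * N), hNVN, zero_mul, add_zero]
    have a2 : N * (S * (V * N)) = -(U * (V * N)) := by
      rw [← mul_assoc N S, eNS, sub_mul, mul_assoc S, hNVN, mul_zero, zero_sub]
    calc N * br V S * N = N * (V * (S * N)) - N * (S * (V * N)) := by
          simp only [br, mul_sub, sub_mul, mul_assoc]
      _ = N := by rw [a1, a2]; conv_rhs => rw [hN]
                  abel

theorem eq_two_pieces {T U V : Module.End k M} (hUV : U * V * U = U) (hVT : V * T * V = 0)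
    (hmap : ∀ m ∈ LinearMap.ker U, T m ∈ LinearMap.range U) : T = U * (V * T) + T * (V * U) := by
  ext m
  have hm : m - (V * U) m ∈ LinearMap.ker U := by
    rw [LinearMap.mem_ker, map_sub, ← Module.End.mul_apply, ← mul_assoc, hUV, sub_self]
  obtain ⟨x, hx⟩ := hmap _ hm
  have h1 : (U * V) (T (m - (V * U) m)) = T (m - (V * U) m) := by
    rw [← hx, ← Module.End.mul_apply, hUV]
  have h0 : (U * V) (T ((V * U) m)) = 0 := by
    show U ((V * T * V) (U m)) = 0
    rw [hVT]; simp
  rw [map_sub, map_sub, h0, sub_zero, eq_sub_iff_add_eq] at h1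
  exact h1.symm

/-- Two root endomorphisms are in the same component. -/
def Conn (H : Subgroup (LinearMap.GeneralLinearGroup k M)) (S T : Module.End k M) : Prop :=
  Relation.ReflTransGen (fun A B => IsMinRoot H A ∧ IsMinRoot H B ∧ A * B * A ≠ 0) S T

theorem Conn.trans {A B C : Module.End k M} (h : Conn H A B) (h' : Conn H B C) : Conn H A C :=
  Relation.ReflTransGen.trans h h'

theorem conn_single (hS : IsMinRoot H S) (hT : IsMinRoot H T) (h : S * T * S ≠ 0) : Conn H S T :=
  Relation.ReflTransGen.single ⟨hS, hT, h⟩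

theorem Conn.symm (h : Conn H S T) (h2 : (2 : k) ≠ 0) (h3 : Nat.card k ≠ 3) : Conn H T S := by
  induction h with
  | refl => exact Relation.ReflTransGen.refl
  | tail _ hbc ih =>
    exact (conn_single hbc.2.1 hbc.1 (opposite_symm hbc.1 hbc.2.1 h2 h3 hbc.2.2)).trans ih

theorem Conn.isMinRoot (h : Conn H S T) (hS : IsMinRoot H S) : IsMinRoot H T := by
  induction h with
  | refl => exact hS
  | tail _ hbc _ => exact hbc.2.1

theorem Conn.conj (h : Conn H S T) {g : LinearMap.GeneralLinearGroup k M} (hg : conjBy H g = H) :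
    Conn H (conjEnd g S) (conjEnd g T) := by
  induction h with
  | refl => exact Relation.ReflTransGen.refl
  | tail _ hbc ih =>
    refine ih.trans (conn_single (hbc.1.conj_of_normalizes hg) (hbc.2.1.conj_of_normalizes hg) fun e => hbc.2.2 ?_)
    rw [conjEnd_mul, conjEnd_mul] at e
    exact conjEnd_eq_zero e

theorem conn_of_mem_rootSpace (hS : IsMinRoot H S) (hopp : HasOpposites H) (h2 : (2 : k) ≠ 0)
    (h3 : Nat.card k ≠ 3) {A : Module.End k M} (hA : A ∈ rootSpace H hS.sq) (hA0 : A ≠ 0) : Conn H S A := by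
  obtain ⟨T, hT, hne⟩ := hopp S hS
  have hAm := (hS.of_mem_rootSpace hA hA0).1
  exact (conn_single hS hT hne).trans (conn_single hT hAm
    (opposite_of_mem hT hS h2 h3 (opposite_symm hS hT h2 h3 hne) (mem_rootSpace_self hT.toIsRoot) hT.ne hA hA0))

theorem UniPair.conn (h : UniPair H S N) (hopp : HasOpposites H) (h2 : (2 : k) ≠ 0) (h3 : Nat.card k ≠ 3)
    (hne : br S N ≠ 0) : Conn H S N := by
  obtain ⟨V, hV, hUV, hVU, hVS, hVN⟩ := h.exists_pure hopp h2 h3 hne
  obtain ⟨hUS, hSU, hUN, hNU⟩ := h.br_mul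
  have hm := h.map_ker_le hopp h2 h3 hne
  have hne' : br N S ≠ 0 := by rw [br_neg, neg_ne_zero]; exact hne
  have hm' := h.symm.map_ker_le hopp h2 h3 hne'
  rw [br_neg S N, LinearMap.ker_neg, LinearMap.range_neg] at hm'
  have hpS := uniPair_of hV h.left h2 h3 hVS
  have hpN := uniPair_of hV h.right h2 h3 hVN
  obtain ⟨eS, eN⟩ := pure_identities (rfl : br S N = br S N) hSU hNU hUS hUN hpS.tst hpN.tst
    (eq_two_pieces hUV hVS hm') (eq_two_pieces hUV hVN hm)
  have hP0 : br V N ≠ 0 := fun e => h.left.ne (by rw [e] at eS; simpa using eS.symm)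
  have hP0' : br V S ≠ 0 := fun e => h.right.ne (by rw [e] at eN; simpa using eN.symm)
  have hPm := hpN.br_min hopp h2 h3 hP0
  have hPm' := hpS.br_min hopp h2 h3 hP0'
  have hUm := h.br_min hopp h2 h3 hne
  obtain ⟨g, hg⟩ : ∃ g : k → LinearMap.GeneralLinearGroup k M, ∀ c, g c = fam h.br_sq c := ⟨_, fun _ => rfl⟩
  have hX : ∀ c, IsMinRoot H (conjEnd (g c) (br V N)) := fun c => hPm.conj (hg c ▸ fam_mem h.br_fam h.br_sq c)
  have hUPU : br S N * br V N * br S N = 0 := (br_br_eq hNU hUN).2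
  have hXv : ∀ c : k, conjEnd (g c) (br V N) = br V N + c • N := fun c => by
    have e : br (br V N) (br S N) = -N := by
      rw [(br_br_eq hNU hUN).1, mul_assoc (br S N) V N, ← eq_two_pieces hUV hVN hm]
    rw [br] at e
    rw [conjEnd, hg, fam_val, fam_inv_val]
    simp only [add_mul, mul_sub, one_mul, mul_one, smul_mul_assoc, mul_smul_comm]
    rw [hUPU, smul_zero, add_zero,
      show c • N = c • (br S N * br V N - br V N * br S N) from congrArg (c • ·) (by
        have e' := congrArg (fun x => -x) e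
        simp only [neg_sub, neg_neg] at e'
        exact e'.symm), smul_sub]
    abel
  have hSX : ∀ c, S * conjEnd (g c) (br V N) * S ≠ 0 := fun c => by
    rw [hXv, mul_add, add_mul, eS, mul_smul_comm, smul_mul_assoc, mul_assoc S N, h.sts, smul_zero, add_zero,
      neg_ne_zero]
    exact h.left.ne
  obtain ⟨c, hc⟩ : ∃ c : k, br V S * conjEnd (g c) (br V N) * br V S ≠ 0 := by
    by_contra hcon
    push Not at hcon
    have e1 := hcon 1
    have e2 := hcon 2
    rw [hXv, mul_add, add_mul, mul_smul_comm, smul_mul_assoc] at e1 e2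
    have hz : br V S * N * br V S = 0 := by
      rw [one_smul] at e1
      rw [two_smul, ← add_assoc, e1, zero_add] at e2
      exact e2
    have hsym := opposite_symm h.right hPm' h2 h3 (by rw [eN]; exact h.right.ne)
    exact hsym hz
  refine (conn_single h.left (hX c) (hSX c)).trans ((conn_single (hX c) hPm' ?_).trans ?_)
  · exact opposite_symm hPm' (hX c) h2 h3 hc
  · exact conn_single hPm' h.right (opposite_symm h.right hPm' h2 h3 (by rw [eN]; exact h.right.ne))

theorem conn_of_br (hS : IsMinRoot H S) (hT : IsMinRoot H T) (hopp : HasOpposites H) (h2 : (2 : k) ≠ 0)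
    (h3 : Nat.card k ≠ 3) (h : S * T ≠ T * S) : Conn H S T := by
  by_cases hne : S * T * S = 0
  · exact (uniPair_of hS hT h2 h3 hne).conn hopp h2 h3 (sub_ne_zero.2 h)
  · exact conn_single hS hT hne

theorem UniPair.conn_br (h : UniPair H S N) (hopp : HasOpposites H) (h2 : (2 : k) ≠ 0) (h3 : Nat.card k ≠ 3)
    (hne : br S N ≠ 0) : Conn H S (br S N) := by
  obtain ⟨V, hV, hUV, hVU, hVS, hVN⟩ := h.exists_pure hopp h2 h3 hne
  obtain ⟨hUS, hSU, hUN, hNU⟩ := h.br_mul
  have hm := h.map_ker_le hopp h2 h3 hne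
  have hne' : br N S ≠ 0 := by rw [br_neg, neg_ne_zero]; exact hne
  have hm' := h.symm.map_ker_le hopp h2 h3 hne'
  rw [br_neg S N, LinearMap.ker_neg, LinearMap.range_neg] at hm'
  have hpS := uniPair_of hV h.left h2 h3 hVS
  have hpN := uniPair_of hV h.right h2 h3 hVN
  obtain ⟨eS, -⟩ := pure_identities (rfl : br S N = br S N) hSU hNU hUS hUN hpS.tst hpN.tst
    (eq_two_pieces hUV hVS hm') (eq_two_pieces hUV hVN hm)
  have hP0 : br V N ≠ 0 := fun e => h.left.ne (by rw [e] at eS; simpa using eS.symm)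
  have hPm := hpN.br_min hopp h2 h3 hP0
  refine (conn_single h.left hPm (by rw [eS]; exact neg_ne_zero.2 h.left.ne)).trans
    (conn_of_br hPm (h.br_min hopp h2 h3 hne) hopp h2 h3 fun e => h.right.ne ?_)
  have : br (br V N) (br S N) = 0 := sub_eq_zero.2 e
  rw [(br_br_eq hNU hUN).1, mul_assoc (br S N) V N, ← eq_two_pieces hUV hVN hm, neg_eq_zero] at this
  exact this

end CfsgLib.QP
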