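import Cfsg.Agent.QuadPairs.Dickson
import Mathlib.GroupTheory.Commutator.Basic
import Mathlib.RingTheory.AdjoinRoot

set_option autoImplicit false
set_option linter.unusedSectionVars false

/-!
Two square-zero elements `S`, `T` of a finite-dimensional algebra: the group generated by the two
scalar families contains the image of `SL₂(k[z])` on the part where `z = ST + TS` is invertible.
-/

universe u v

namespace CfsgLib.QP

open Polynomial Matrix commutatorElement

section Derived

variable {G H : Type*} [Group G] [Group H]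

/-- The derived series of a subgroup, inside the ambient group. -/
def dser (P : Subgroup G) : ℕ → Subgroup G
  | 0 => P
  | n + 1 => ⁅dser P n, dser P n⁆

theorem dser_succ (P : Subgroup G) (n : ℕ) : dser P (n + 1) = ⁅dser P n, dser P n⁆ := rfl

theorem dser_le (P : Subgroup G) : ∀ n, dser P n ≤ P
  | 0 => le_rfl
  | n + 1 => (Subgroup.commutator_le.2 fun a ha b hb => by
      have h := dser_le P n
      rw [commutatorElement_def]
      exact mul_mem (mul_mem (mul_mem (h ha) (h hb)) (inv_mem (h ha))) (inv_mem (h hb)))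

theorem dser_mono {P Q : Subgroup G} (h : P ≤ Q) : ∀ n, dser P n ≤ dser Q n
  | 0 => h
  | n + 1 => Subgroup.commutator_mono (dser_mono h n) (dser_mono h n)

theorem map_dser (f : G →* H) (P : Subgroup G) : ∀ n, (dser P n).map f = dser (P.map f) n
  | 0 => rfl
  | n + 1 => by rw [dser_succ, dser_succ, Subgroup.map_commutator, map_dser f P n]

end Derived

section Perfect

variable {k : Type u} [Field k] {A : Type v} [CommRing A] [Algebra k A]

theorem exists_sq_ne_one' (h2 : (2 : k) ≠ 0) (h3 : Nat.card k ≠ 3) : ∃ a : k, a ≠ 0 ∧ a ^ 2 ≠ 1 := by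
  rcases finite_or_infinite k with hk | hk
  · exact exists_sq_ne_one h2 h3
  · classical
    obtain ⟨a, ha⟩ := Infinite.exists_notMem_finset ({0, 1, -1} : Finset k)
    simp only [Finset.mem_insert, Finset.mem_singleton, not_or] at ha
    exact ⟨a, ha.1, fun e => (sq_eq_one_iff.1 e).elim ha.2.1 ha.2.2⟩

theorem torus_up (t t' u : A) (h : t * t' = 1) :
    (low (-t') * up t * low (-t') * (low 1 * up (-1) * low 1)) * up u *
      (low (-t') * up t * low (-t') * (low 1 * up (-1) * low 1))⁻¹ = up (t * t * u) := by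
  rw [mul_inv_eq_iff_eq_mul]
  apply Subtype.ext
  ext i j
  fin_cases i <;> fin_cases j <;> simp [Matrix.mul_apply, Fin.sum_univ_two, up_coe, low_coe] <;> grind

theorem torus_low (t t' u : A) (h : t * t' = 1) :
    (low (-t') * up t * low (-t') * (low 1 * up (-1) * low 1)) * low u *
      (low (-t') * up t * low (-t') * (low 1 * up (-1) * low 1))⁻¹ = low (t' * t' * u) := by
  rw [mul_inv_eq_iff_eq_mul]
  apply Subtype.ext
  ext i j
  fin_cases i <;> fin_cases j <;> simp [Matrix.mul_apply, Fin.sum_univ_two, up_coe, low_coe] <;> grind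

/-- All root elements lie in every term of the derived series of `gen`. -/
theorem gen_perfect [FiniteDimensional k A] (h2 : (2 : k) ≠ 0) (h3 : Nat.card k ≠ 3) {α : A}
    (hα : IsUnit α) (hA : Algebra.adjoin k {α} = ⊤) (n : ℕ) (r : A) :
    up r ∈ dser (gen k α) n ∧ low r ∈ dser (gen k α) n := by
  obtain ⟨a, ha0, ha⟩ := exists_sq_ne_one' h2 h3
  induction n generalizing r with
  | zero => exact gen_contains h2 h3 hα hA r
  | succ n ih =>
    set D := dser (gen k α) n with hD
    have key : ∀ b : k, b ≠ 0 → b ^ 2 ≠ 1 → ∀ x : A,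
        up (algebraMap k A (b ^ 2 - 1) * x) ∈ ⁅D, D⁆ ∧ low (algebraMap k A (b⁻¹ ^ 2 - 1) * x) ∈ ⁅D, D⁆ := by
      intro b hb _ x
      have hbb : algebraMap k A b * algebraMap k A b⁻¹ = 1 := by
        rw [← map_mul, mul_inv_cancel₀ hb, map_one]
      set h := low (-(algebraMap k A b⁻¹)) * up (algebraMap k A b) * low (-(algebraMap k A b⁻¹)) *
        (low 1 * up (-1) * low 1) with hh
      have hmem : h ∈ D := mul_mem (mul_mem (mul_mem (ih _).2 (ih _).1) (ih _).2)
        (mul_mem (mul_mem (ih _).2 (ih _).1) (ih _).2)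
      constructor
      · have hc := Subgroup.commutator_mem_commutator hmem (ih x).1
        rw [commutatorElement_def, hh, torus_up _ _ x hbb, up_inv, up_mul] at hc
        convert hc using 2
        simp only [map_sub, map_pow, map_one]
        ring
      · have hc := Subgroup.commutator_mem_commutator hmem (ih x).2
        rw [commutatorElement_def, hh, torus_low _ _ x hbb, low_inv, low_mul] at hc
        convert hc using 2
        simp only [map_sub, map_pow, map_one]
        ring
    have hscale : ∀ c : k, c ≠ 0 → algebraMap k A c * (algebraMap k A c⁻¹ * r) = r := fun c hc => by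
      rw [← mul_assoc, ← map_mul, mul_inv_cancel₀ hc, map_one, one_mul]
    refine ⟨?_, ?_⟩
    · have := (key a ha0 ha (algebraMap k A (a ^ 2 - 1)⁻¹ * r)).1
      rwa [hscale _ (sub_ne_zero.2 ha)] at this
    · have hai : a⁻¹ ^ 2 - 1 ≠ 0 := by
        rw [sub_ne_zero, inv_pow, Ne, inv_eq_one]; exact ha
      have := (key a ha0 ha (algebraMap k A (a⁻¹ ^ 2 - 1)⁻¹ * r)).2
      rwa [hscale _ hai] at this

end Perfect

section Algebra

variable {k : Type u} [Field k] {R : Type v} [Ring R] [Algebra k R]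

/-- The unit `1 + c S` for a square-zero element `S`. -/
def fam {S : R} (hS : S * S = 0) (c : k) : Rˣ where
  val := 1 + c • S
  inv := 1 - c • S
  val_inv := by simp [mul_sub, add_mul, hS]
  inv_val := by simp [sub_mul, mul_add, hS]

theorem fam_val {S : R} (hS : S * S = 0) (c : k) : (fam hS c : R) = 1 + c • S := rfl

theorem fam_inv_val {S : R} (hS : S * S = 0) (c : k) : ((fam hS c)⁻¹ : Rˣ).val = 1 - c • S := rfl

variable {S T : R}

/-- The group generated by the two scalar families. -/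
def pairGrp (hS : S * S = 0) (hT : T * T = 0) : Subgroup Rˣ :=
  Subgroup.closure (Set.range (fam (k := k) hS) ∪ Set.range (fam (k := k) hT))

theorem commute_z_S (hS : S * S = 0) : Commute (S * T + T * S) S := by
  simp [Commute, SemiconjBy, add_mul, mul_add, mul_assoc, hS, ← mul_assoc S S]

theorem commute_z_T (hT : T * T = 0) : Commute (S * T + T * S) T := by
  simp [Commute, SemiconjBy, add_mul, mul_add, mul_assoc, hT, ← mul_assoc T T]

theorem commute_aeval {z x : R} (h : Commute z x) (p : k[X]) : Commute (aeval z p) x := by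
  induction p using Polynomial.induction_on with
  | C a => rw [aeval_C]; exact Algebra.commutes a x
  | add p q hp hq => rw [map_add]; exact hp.add_left hq
  | monomial n a _ =>
    rw [map_mul, aeval_C, map_pow, aeval_X]
    exact (show Commute (algebraMap k R a) x from Algebra.commutes a x).mul_left (h.pow_left _)

/-- The multiplication table of `1, ST, S, T`. -/
theorem quad_mul (hS : S * S = 0) (hT : T * T = 0) {x₁ y₁ b₁ c₁ x₂ y₂ b₂ c₂ : R}
    (hx : Commute x₂ S ∧ Commute x₂ T) (hy : Commute y₂ S ∧ Commute y₂ T)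
    (hb : Commute b₂ S ∧ Commute b₂ T) (hc : Commute c₂ S ∧ Commute c₂ T) :
    (x₁ + y₁ * (S * T) + b₁ * S + c₁ * T) * (x₂ + y₂ * (S * T) + b₂ * S + c₂ * T) =
      (x₁ * x₂ + c₁ * b₂ * (S * T + T * S)) +
        (x₁ * y₂ + y₁ * x₂ + y₁ * y₂ * (S * T + T * S) + b₁ * c₂ - c₁ * b₂) * (S * T) +
        (x₁ * b₂ + b₁ * x₂ + y₁ * b₂ * (S * T + T * S)) * S +
        (x₁ * c₂ + c₁ * x₂ + c₁ * y₂ * (S * T + T * S)) * T := by
  have eS : ∀ w, S * (S * w) = 0 := fun w => by rw [← mul_assoc, hS, zero_mul]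
  have eT : ∀ w, T * (T * w) = 0 := fun w => by rw [← mul_assoc, hT, zero_mul]
  have x1 : ∀ w, S * (x₂ * w) = x₂ * (S * w) := fun w => by rw [← mul_assoc, ← hx.1.eq, mul_assoc]
  have x2 : ∀ w, T * (x₂ * w) = x₂ * (T * w) := fun w => by rw [← mul_assoc, ← hx.2.eq, mul_assoc]
  have y1 : ∀ w, S * (y₂ * w) = y₂ * (S * w) := fun w => by rw [← mul_assoc, ← hy.1.eq, mul_assoc]
  have y2 : ∀ w, T * (y₂ * w) = y₂ * (T * w) := fun w => by rw [← mul_assoc, ← hy.2.eq, mul_assoc]
  have b1 : ∀ w, S * (b₂ * w) = b₂ * (S * w) := fun w => by rw [← mul_assoc, ← hb.1.eq, mul_assoc]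
  have b2 : ∀ w, T * (b₂ * w) = b₂ * (T * w) := fun w => by rw [← mul_assoc, ← hb.2.eq, mul_assoc]
  have d1 : ∀ w, S * (c₂ * w) = c₂ * (S * w) := fun w => by rw [← mul_assoc, ← hc.1.eq, mul_assoc]
  have d2 : ∀ w, T * (c₂ * w) = c₂ * (T * w) := fun w => by rw [← mul_assoc, ← hc.2.eq, mul_assoc]
  simp only [mul_add, add_mul, sub_mul, mul_assoc, x1, x2, y1, y2, b1, b2, d1, d2, hS, hT, eS, eT,
    ← hx.1.eq, ← hx.2.eq, mul_zero, zero_add, add_zero]
  abel

/-- An idempotent splitting off the invertible part of `z`. -/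
theorem exists_corner [FiniteDimensional k R] (z : R) :
    ∃ (q s : k[X]) (N : ℕ), q ≠ 0 ∧ 1 ≤ N ∧
      (∀ p : k[X], q ∣ p → aeval z p * aeval z (s * X ^ N) = 0) ∧
      q ∣ s * X ^ N - 1 ∧
      aeval z ((X : k[X]) ^ N) * (1 - aeval z (s * X ^ N)) = 0 := by
  have hint : IsIntegral k z := Algebra.IsIntegral.isIntegral z
  have hm := minpoly.ne_zero hint
  obtain ⟨q, hmq, hq⟩ := Polynomial.exists_eq_pow_rootMultiplicity_mul_and_not_dvd (minpoly k z) hm 0
  rw [map_zero, sub_zero] at hmq hq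
  set a := rootMultiplicity (0 : k) (minpoly k z)
  have hcop : IsCoprime (X ^ (a + 1)) q :=
    IsCoprime.pow_left ((Polynomial.irreducible_X.coprime_iff_not_dvd).2 hq)
  obtain ⟨s, t, hst⟩ := hcop
  have hkill : ∀ p, q ∣ p → aeval z (p * X ^ (a + 1)) = 0 := by
    rintro p ⟨w, rfl⟩
    rw [show q * w * X ^ (a + 1) = (X ^ a * q) * (X * w) by ring, ← hmq, map_mul, minpoly.aeval, zero_mul]
  refine ⟨q, s, a + 1, fun e => hq (e ▸ dvd_zero _), by omega, fun p hp => ?_, ⟨-t, by linear_combination hst⟩, ?_⟩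
  · rw [← map_mul, show p * (s * X ^ (a + 1)) = (p * s) * X ^ (a + 1) by ring]
    exact hkill _ (hp.mul_right s)
  · rw [← map_one (aeval z : k[X] →ₐ[k] R), ← map_sub, ← map_mul, mul_comm]
    exact hkill _ ⟨t, by linear_combination -hst⟩

/-- The products `z ^ i S`, `z ^ i T`, `z ^ i ST`, `z ^ i TS`. -/
def word (S T : R) : Fin 4 → R := ![S, T, S * T, T * S]

/-- Their degrees. -/
def wdeg : Fin 4 → ℕ := ![1, 1, 2, 2]

theorem word_commute (hS : S * S = 0) (hT : T * T = 0) (a : Fin 4) :
    Commute (S * T + T * S) (word S T a) := by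
  fin_cases a
  · exact commute_z_S hS
  · exact commute_z_T hT
  · exact (commute_z_S hS).mul_right (commute_z_T hT)
  · exact (commute_z_T hT).mul_right (commute_z_S hS)

theorem word_mul (hS : S * S = 0) (hT : T * T = 0) (a b : Fin 4) :
    word S T a * word S T b = 0 ∨ ∃ (δ : ℕ) (c : Fin 4),
      word S T a * word S T b = (S * T + T * S) ^ δ * word S T c ∧ wdeg a + wdeg b = 2 * δ + wdeg c := by
  have eS : ∀ w, S * (S * w) = 0 := fun w => by rw [← mul_assoc, hS, zero_mul]
  have eT : ∀ w, T * (T * w) = 0 := fun w => by rw [← mul_assoc, hT, zero_mul]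
  fin_cases a <;> fin_cases b <;>
    first
    | (left; simp [word, mul_assoc, hS, hT, eS, eT]; done)
    | (right; refine ⟨0, 2, ?_, ?_⟩ <;> simp [word, wdeg]; done)
    | (right; refine ⟨0, 3, ?_, ?_⟩ <;> simp [word, wdeg]; done)
    | (right; refine ⟨1, 0, ?_, ?_⟩ <;> simp [word, wdeg, mul_assoc, add_mul, hS, hT, eS, eT]; done)
    | (right; refine ⟨1, 1, ?_, ?_⟩ <;> simp [word, wdeg, mul_assoc, add_mul, hS, hT, eS, eT]; done)
    | (right; refine ⟨1, 2, ?_, ?_⟩ <;> simp [word, wdeg, mul_assoc, add_mul, hS, hT, eS, eT]; done)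
    | (right; refine ⟨1, 3, ?_, ?_⟩ <;> simp [word, wdeg, mul_assoc, add_mul, hS, hT, eS, eT]; done)

/-- The part of degree at least `L` of the nilpotent ideal cut out by `f`. -/
def layer (k : Type u) [Field k] [Algebra k R] (S T f : R) (L : ℕ) : Submodule k R :=
  Submodule.span k {w | ∃ i a, L ≤ 2 * i + wdeg a ∧ w = (S * T + T * S) ^ i * word S T a * f}

theorem layer_anti {f : R} {a b : ℕ} (h : a ≤ b) : layer k S T f b ≤ layer k S T f a :=
  Submodule.span_mono fun _ ⟨i, c, hc, e⟩ => ⟨i, c, h.trans hc, e⟩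

theorem layer_mul (hS : S * S = 0) (hT : T * T = 0) {f : R} (hf : f * f = f)
    (hfS : Commute f S ∧ Commute f T) {a b : ℕ} {x y : R}
    (hx : x ∈ layer k S T f a) (hy : y ∈ layer k S T f b) : x * y ∈ layer k S T f (a + b) := by
  set z := S * T + T * S with hz
  have hfz : Commute f z := (hfS.1.mul_right hfS.2).add_right (hfS.2.mul_right hfS.1)
  have hfw : ∀ c, Commute f (word S T c) := by
    intro c; fin_cases c
    exacts [hfS.1, hfS.2, hfS.1.mul_right hfS.2, hfS.2.mul_right hfS.1]
  induction hx using Submodule.span_induction with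
  | mem x hx =>
    induction hy using Submodule.span_induction with
    | mem y hy =>
      obtain ⟨i, c, hc, rfl⟩ := hx
      obtain ⟨j, d, hd, rfl⟩ := hy
      have e : z ^ i * word S T c * f * (z ^ j * word S T d * f) =
          z ^ (i + j) * (word S T c * word S T d) * f := by
        rw [mul_assoc _ f, ← mul_assoc f, ((hfz.pow_right j).mul_right (hfw d)).eq, mul_assoc _ f f, hf,
          pow_add, mul_assoc (z ^ i) (word S T c), ← mul_assoc (word S T c), ← mul_assoc (word S T c),
          ← ((word_commute hS hT c).pow_left j).eq]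
        simp only [hz, mul_assoc]
      show _ ∈ layer k S T f (a + b)
      rw [e]
      rcases word_mul hS hT c d with h0 | ⟨δ, c', hcd, hdeg⟩
      · rw [h0, mul_zero, zero_mul]; exact zero_mem _
      · refine Submodule.subset_span ⟨i + j + δ, c', by omega, ?_⟩
        rw [hcd, ← mul_assoc, ← pow_add]
    | zero => rw [mul_zero]; exact zero_mem _
    | add u v _ _ hu hv => rw [mul_add]; exact add_mem hu hv
    | smul c u _ hu => rw [mul_smul_comm]; exact Submodule.smul_mem _ c hu
  | zero => rw [zero_mul]; exact zero_mem _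
  | add u v _ _ hu hv => rw [add_mul]; exact add_mem hu hv
  | smul c u _ hu => rw [smul_mul_assoc]; exact Submodule.smul_mem _ c hu

/-- The pair group acts unipotently on the nilpotent corner: the derived series dies there. -/
theorem dser_trivial (hS : S * S = 0) (hT : T * T = 0) {f : R} (hf : f * f = f)
    (hfS : Commute f S ∧ Commute f T) {N : ℕ} (hN : (S * T + T * S) ^ N * f = 0)
    {g : Rˣ} (hg : g ∈ dser (pairGrp (k := k) hS hT) (2 * N + 2)) : (g : R) * f = f := by
  set z := S * T + T * S with hz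
  set P := pairGrp (k := k) hS hT
  have hfP : ∀ x ∈ P, Commute (x : R) f := by
    intro x hx
    induction hx using Subgroup.closure_induction with
    | mem x hx =>
      rcases hx with ⟨c, rfl⟩ | ⟨c, rfl⟩
      · exact (Commute.one_left f).add_left (hfS.1.symm.smul_left c)
      · exact (Commute.one_left f).add_left (hfS.2.symm.smul_left c)
    | one => exact Commute.one_left f
    | mul x y _ _ hx hy => rw [Units.val_mul]; exact hx.mul_left hy
    | inv x _ hx => exact hx.units_inv_left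
  have hxf : ∀ L x, x ∈ layer k S T f L → x * f = x := by
    intro L x hx
    induction hx using Submodule.span_induction with
    | mem x hx => obtain ⟨i, a, -, rfl⟩ := hx; rw [mul_assoc, hf]
    | zero => rw [zero_mul]
    | add u v _ _ hu hv => rw [add_mul, hu, hv]
    | smul c u _ hu => rw [smul_mul_assoc, hu]
  have hprod : ∀ x y : Rˣ, x ∈ P → y ∈ P → ((x : R) * y - 1) * f =
      ((x : R) - 1) * f + ((y : R) - 1) * f + (((x : R) - 1) * f) * (((y : R) - 1) * f) := by
    intro x y _ hy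
    have hc : Commute f ((y : R) - 1) := (hfP y hy).symm.sub_right (Commute.one_right f)
    rw [mul_assoc ((x : R) - 1) f, ← mul_assoc f, hc.eq, mul_assoc _ f f, hf]
    noncomm_ring
  have h1 : ∀ x ∈ P, ((x : R) - 1) * f ∈ layer k S T f 1 := by
    have hgen : ∀ c : k, ((fam hS c : R) - 1) * f ∈ layer k S T f 1 ∧ ((fam hT c : R) - 1) * f ∈ layer k S T f 1 := by
      intro c
      simp only [fam_val, add_sub_cancel_left, smul_mul_assoc]
      exact ⟨Submodule.smul_mem _ _ (Submodule.subset_span ⟨0, 0, le_rfl, by simp [word]⟩),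
        Submodule.smul_mem _ _ (Submodule.subset_span ⟨0, 1, le_rfl, by simp [word]⟩)⟩
    intro x hx
    suffices ((x : R) - 1) * f ∈ layer k S T f 1 ∧ (((x⁻¹ : Rˣ) : R) - 1) * f ∈ layer k S T f 1 from this.1
    induction hx using Subgroup.closure_induction with
    | mem x hx =>
      rcases hx with ⟨c, rfl⟩ | ⟨c, rfl⟩
      · refine ⟨(hgen c).1, ?_⟩
        rw [fam_inv_val, sub_eq_add_neg 1, ← neg_smul, ← fam_val hS]; exact (hgen _).1
      · refine ⟨(hgen c).2, ?_⟩
        rw [fam_inv_val, sub_eq_add_neg 1, ← neg_smul, ← fam_val hT]; exact (hgen _).2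
    | one => simp
    | mul x y hxP hyP hx hy =>
      refine ⟨?_, ?_⟩
      · rw [Units.val_mul, hprod x y hxP hyP]
        exact add_mem (add_mem hx.1 hy.1) (layer_anti (by omega) (layer_mul hS hT hf hfS hx.1 hy.1))
      · rw [_root_.mul_inv_rev, Units.val_mul, hprod y⁻¹ x⁻¹ (inv_mem hyP) (inv_mem hxP)]
        exact add_mem (add_mem hy.2 hx.2) (layer_anti (by omega) (layer_mul hS hT hf hfS hy.2 hx.2))
    | inv x _ hx => exact ⟨hx.2, by rw [inv_inv]; exact hx.1⟩
  let U : ℕ → Subgroup Rˣ := fun L =>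
    { carrier := {x | x ∈ P ∧ ((x : R) - 1) * f ∈ layer k S T f L}
      one_mem' := ⟨one_mem _, by simp⟩
      mul_mem' := fun {x y} hx hy => ⟨mul_mem hx.1 hy.1, by
        rw [Units.val_mul, hprod x y hx.1 hy.1]
        exact add_mem (add_mem hx.2 hy.2) (layer_anti (by omega) (layer_mul hS hT hf hfS hx.2 hy.2))⟩
      inv_mem' := fun {x} hx => ⟨inv_mem hx.1, by
        have h := hprod x⁻¹ x (inv_mem hx.1) hx.1
        rw [Units.inv_mul, sub_self, zero_mul] at h
        have := neg_mem (add_mem hx.2 (layer_anti (a := L) (by omega)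
          (layer_mul hS hT hf hfS (h1 _ (inv_mem hx.1)) hx.2)))
        convert this using 1
        linear_combination (norm := abel) -h⟩ }
  have hcomm : ∀ L, ⁅U L, U L⁆ ≤ U (L + L) := by
    intro L
    rw [Subgroup.commutator_le]
    intro x hx y hy
    have hxy : ⁅x, y⁆ ∈ P := by
      rw [commutatorElement_def]
      exact mul_mem (mul_mem (mul_mem hx.1 hy.1) (inv_mem hx.1)) (inv_mem hy.1)
    refine ⟨hxy, ?_⟩
    set w : Rˣ := (y * x)⁻¹
    have e : ((⁅x, y⁆ : Rˣ) : R) - 1 = ((x : R) * y - y * x) * w := by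
      rw [sub_mul, ← Units.val_mul, ← Units.val_mul, ← Units.val_mul, ← Units.val_mul, commutatorElement_def,
        show w = (y * x)⁻¹ from rfl, mul_inv_cancel, Units.val_one]
      simp [mul_assoc]
    set X := ((x : R) * y - y * x) * f with hX
    have hXeq : X = (((x : R) - 1) * f) * (((y : R) - 1) * f) - (((y : R) - 1) * f) * (((x : R) - 1) * f) := by
      have h1' := hprod x y hx.1 hy.1
      have h2' := hprod y x hy.1 hx.1
      rw [hX, show (x : R) * y - y * x = ((x : R) * y - 1) - ((y : R) * x - 1) by abel, sub_mul, h1', h2']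
      abel
    have hXm : X ∈ layer k S T f (L + L) := by
      rw [hXeq]
      exact sub_mem (layer_mul hS hT hf hfS hx.2 hy.2) (layer_mul hS hT hf hfS hy.2 hx.2)
    have e2 : (((⁅x, y⁆ : Rˣ) : R) - 1) * f = X + X * (((w : R) - 1) * f) := by
      have hwf := (hfP w (inv_mem (mul_mem hy.1 hx.1))).eq
      rw [e, mul_assoc, hwf, ← mul_assoc, ← hX, sub_mul, one_mul, hwf, mul_sub, ← mul_assoc,
        hxf _ _ hXm, add_sub_cancel]
    rw [e2]
    exact add_mem hXm (layer_anti (by omega)
      (layer_mul hS hT hf hfS hXm (h1 w (inv_mem (mul_mem hy.1 hx.1)))))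
  have hser : ∀ n, dser P n ≤ U (2 ^ n) := by
    intro n
    induction n with
    | zero => exact fun x hx => ⟨hx, h1 x hx⟩
    | succ n ih =>
      rw [dser_succ, pow_succ, mul_two]
      exact (Subgroup.commutator_mono ih ih).trans (hcomm _)
  have := (hser _ hg).2
  have hbot : layer k S T f (2 ^ (2 * N + 2)) ≤ ⊥ := by
    refine Submodule.span_le.2 ?_
    rintro w ⟨i, a, hi, rfl⟩
    have ha : wdeg a ≤ 2 := by fin_cases a <;> simp [wdeg]
    have := (2 * N + 2).lt_two_pow_self
    obtain ⟨j, rfl⟩ : ∃ j, i = j + N := ⟨i - N, by omega⟩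
    have hfw : Commute f (word S T a) := by
      fin_cases a
      exacts [hfS.1, hfS.2, hfS.1.mul_right hfS.2, hfS.2.mul_right hfS.1]
    show _ = _
    rw [mul_assoc, ← hfw.eq, ← mul_assoc, pow_add, mul_assoc (z ^ j), hN, mul_zero, zero_mul]
  have h0 := hbot this
  rwa [Submodule.mem_bot, sub_mul, one_mul, sub_eq_zero] at h0

/-- A corner of the algebra generated by `S` and `T` on which `z` is invertible, parametrised by the
commutative algebra `A`. -/
structure CornerData (k : Type u) [Field k] (A : Type*) [CommRing A] [Algebra k A] [Algebra k R] (S T : R) where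
  ι : A → R
  α : A
  β : A
  hS : S * S = 0
  hT : T * T = 0
  map_add : ∀ a b, ι (a + b) = ι a + ι b
  map_mul : ∀ a b, ι (a * b) = ι a * ι b
  comm : ∀ a, Commute (ι a) S ∧ Commute (ι a) T
  mul_z : ∀ a, ι a * (S * T + T * S) = ι (a * α)
  αβ : α * β = 1
  map_alg : ∀ c : k, ι (algebraMap k A c) = c • ι 1

namespace CornerData

variable {A : Type*} [CommRing A] [Algebra k A] (D : CornerData k A S T)

theorem map_zero : D.ι 0 = 0 := by
  have h := D.map_add 0 0
  rw [add_zero] at h
  exact (left_eq_add.1 h)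

theorem map_sub (a b : A) : D.ι a - D.ι b = D.ι (a - b) := by
  rw [sub_eq_iff_eq_add, ← D.map_add, sub_add_cancel]

theorem e_idem : D.ι 1 * D.ι 1 = D.ι 1 := by rw [← D.map_mul, one_mul]

theorem compl_idem : (1 - D.ι 1) * (1 - D.ι 1) = 1 - D.ι 1 := by
  simp [mul_sub, sub_mul, D.e_idem]

theorem compl_comm : Commute (1 - D.ι 1) S ∧ Commute (1 - D.ι 1) T :=
  ⟨(Commute.one_left S).sub_left (D.comm 1).1, (Commute.one_left T).sub_left (D.comm 1).2⟩

/-- The image of a matrix. -/
def Φ (m : Matrix (Fin 2) (Fin 2) A) : R :=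
  D.ι (m 1 1) + D.ι ((m 0 0 - m 1 1) * D.β) * (S * T) + D.ι (m 0 1) * S + D.ι (m 1 0 * D.β) * T

theorem Φ_mul (m n : Matrix (Fin 2) (Fin 2) A) : D.Φ (m * n) = D.Φ m * D.Φ n := by
  simp only [Φ]
  rw [quad_mul D.hS D.hT (D.comm _) (D.comm _) (D.comm _) (D.comm _)]
  simp only [← D.map_mul, ← D.map_add, D.mul_z, D.map_sub]
  have e : ∀ i j, (m * n) i j = m i 0 * n 0 j + m i 1 * n 1 j := fun i j => by
    rw [Matrix.mul_apply, Fin.sum_univ_two]
  rw [e, e, e, e]
  have hαβ := D.αβ
  refine congrArg₂ (· + ·) (congrArg₂ (· + ·) (congrArg₂ (· + ·) (congrArg D.ι ?_)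
    (congrArg (D.ι · * (S * T)) ?_)) (congrArg (D.ι · * S) ?_)) (congrArg (D.ι · * T) ?_)
  · linear_combination (-(m 1 0 * n 0 1)) * hαβ
  · linear_combination (-((m 0 0 - m 1 1) * (n 0 0 - n 1 1) * D.β)) * hαβ
  · linear_combination (-((m 0 0 - m 1 1) * n 0 1)) * hαβ
  · linear_combination (-(m 1 0 * D.β * (n 0 0 - n 1 1))) * hαβ

theorem Φ_compl (m : Matrix (Fin 2) (Fin 2) A) :
    D.Φ m * (1 - D.ι 1) = 0 ∧ (1 - D.ι 1) * D.Φ m = 0 := by
  have h0 : ∀ a, (1 - D.ι 1) * D.ι a = 0 := fun a => by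
    rw [sub_mul, one_mul, ← D.map_mul, one_mul, sub_self]
  have h1 : ∀ a, D.ι a * (1 - D.ι 1) = 0 := fun a => by
    rw [mul_sub, mul_one, ← D.map_mul, mul_one, sub_self]
  have hrot : ∀ a W, Commute (1 - D.ι 1) W → D.ι a * W * (1 - D.ι 1) = 0 := fun a W hW => by
    rw [mul_assoc, ← hW.eq, ← mul_assoc, h1, zero_mul]
  have hf := D.compl_comm
  constructor
  · simp only [Φ, add_mul, h1, hrot _ _ hf.1, hrot _ _ hf.2, hrot _ _ (hf.1.mul_right hf.2), add_zero]
  · simp only [Φ, mul_add, ← mul_assoc, h0, zero_mul, add_zero]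

theorem Φ_one : D.Φ 1 = D.ι 1 := by simp [Φ, D.map_zero]

/-- The homomorphism `SL₂(A) → R`. -/
def hom : Matrix.SpecialLinearGroup (Fin 2) A →* R where
  toFun g := (1 - D.ι 1) + D.Φ g.1
  map_one' := by show (1 - D.ι 1) + D.Φ 1 = 1; rw [D.Φ_one, sub_add_cancel]
  map_mul' g h := by
    show (1 - D.ι 1) + D.Φ (g.1 * h.1) = ((1 - D.ι 1) + D.Φ g.1) * ((1 - D.ι 1) + D.Φ h.1)
    rw [D.Φ_mul, add_mul, mul_add, mul_add, (D.Φ_compl g.1).1, (D.Φ_compl h.1).2, D.compl_idem]
    simp

/-- The homomorphism `SL₂(A) → Rˣ`. -/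
def homU : Matrix.SpecialLinearGroup (Fin 2) A →* Rˣ := D.hom.toHomUnits

theorem homU_val (g : Matrix.SpecialLinearGroup (Fin 2) A) : (D.homU g : R) = (1 - D.ι 1) + D.Φ g.1 := rfl

theorem homU_up (a : A) : (D.homU (up a) : R) = 1 + D.ι a * S := by
  rw [D.homU_val, up_coe]
  show (1 - D.ι 1) + (D.ι 1 + D.ι ((1 - 1) * D.β) * (S * T) + D.ι a * S + D.ι (0 * D.β) * T) = _
  rw [sub_self, zero_mul, D.map_zero, zero_mul, zero_mul]
  abel

theorem homU_low (a : A) : (D.homU (low (a * D.α)) : R) = 1 + D.ι a * T := by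
  rw [D.homU_val, low_coe]
  show (1 - D.ι 1) + (D.ι 1 + D.ι ((1 - 1) * D.β) * (S * T) + D.ι 0 * S + D.ι (a * D.α * D.β) * T) = _
  rw [sub_self, zero_mul, D.map_zero, mul_assoc a, D.αβ, mul_one, zero_mul, zero_mul]
  abel

theorem homU_up_alg (c : k) : (D.homU (up (algebraMap k A c)) : R) = 1 + c • (D.ι 1 * S) := by
  rw [D.homU_up, D.map_alg, smul_mul_assoc]

theorem homU_low_alg (c : k) : (D.homU (low (c • D.α)) : R) = 1 + c • (D.ι 1 * T) := by
  rw [Algebra.smul_def, D.homU_low, D.map_alg, smul_mul_assoc]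

end CornerData

/-- For every polynomial `r`, the pair group contains `1 + r(z) z ^ N S` for a fixed `N`. -/
theorem exists_mem_pairGrp [FiniteDimensional k R] (h2 : (2 : k) ≠ 0) (h3 : Nat.card k ≠ 3)
    (hS : S * S = 0) (hT : T * T = 0) :
    ∃ N : ℕ, 1 ≤ N ∧ ∀ r : k[X], ∃ g ∈ pairGrp (k := k) hS hT,
      (g : R) = 1 + aeval (S * T + T * S) (r * X ^ N) * S := by
  obtain ⟨q, s, N, hq0, hN, hkill, hunit, hnil⟩ := exists_corner (k := k) (S * T + T * S)
  set z := S * T + T * S with hz
  set e := aeval z (s * X ^ N) with he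
  refine ⟨N, hN, ?_⟩
  -- the corner algebra
  let A := AdjoinRoot q
  have : FiniteDimensional k A := (AdjoinRoot.powerBasis hq0).finite
  let mk : k[X] →+* A := AdjoinRoot.mk q
  have hmk : Function.Surjective mk := AdjoinRoot.mk_surjective
  obtain ⟨ι, hι⟩ : ∃ ι : A → R, ∀ p, ι (mk p) = aeval z p * e := by
    refine ⟨fun a => aeval z (Function.surjInv hmk a) * e, fun p => ?_⟩
    have hd : q ∣ Function.surjInv hmk (mk p) - p := AdjoinRoot.mk_eq_mk.1 (Function.surjInv_eq hmk (mk p))
    show aeval z _ * e = _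
    rw [← sub_eq_zero, ← sub_mul, ← map_sub, hkill _ hd]
  have hee : e * e = e := by
    have := hkill _ hunit
    rw [map_sub, map_one, sub_mul, one_mul, sub_eq_zero] at this
    exact this
  have hι1 : ι 1 = e := by rw [← map_one mk, hι, map_one, one_mul]
  have hze : Commute z e := by
    have h := (Commute.all (X : k[X]) (s * X ^ N)).map (aeval z : k[X] →ₐ[k] R)
    rwa [aeval_X] at h
  let D : CornerData k A S T :=
    { ι := ι
      α := AdjoinRoot.root q
      β := mk (s * X ^ (N - 1))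
      hS := hS
      hT := hT
      map_add := fun a b => by
        obtain ⟨p, rfl⟩ := hmk a
        obtain ⟨p', rfl⟩ := hmk b
        rw [← map_add, hι, hι, hι, map_add, add_mul]
      map_mul := fun a b => by
        obtain ⟨p, rfl⟩ := hmk a
        obtain ⟨p', rfl⟩ := hmk b
        rw [← map_mul, hι, hι, hι, map_mul]
        have hc : Commute (aeval z p') e := Commute.map (Commute.all _ _) (aeval z : k[X] →ₐ[k] R)
        rw [mul_assoc (aeval z p) e, ← mul_assoc e, ← hc.eq, mul_assoc (aeval z p') e, hee, mul_assoc]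
      comm := fun a => by
        obtain ⟨p, rfl⟩ := hmk a
        rw [hι, he, ← map_mul]
        exact ⟨commute_aeval (commute_z_S hS) _, commute_aeval (commute_z_T hT) _⟩
      mul_z := fun a => by
        obtain ⟨p, rfl⟩ := hmk a
        show _ * z = ι (mk p * mk X)
        rw [← map_mul, hι, hι, map_mul, aeval_X, mul_assoc, ← hze.eq, mul_assoc]
      αβ := by
        show mk X * mk _ = 1
        rw [← map_mul, ← map_one mk]
        refine AdjoinRoot.mk_eq_mk.2 ?_
        rwa [show X * (s * X ^ (N - 1)) = s * X ^ N by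
          rw [← mul_assoc, mul_comm X s, mul_assoc, ← pow_succ', Nat.sub_add_cancel hN]]
      map_alg := fun c => by
        show ι (mk (C c)) = _
        rw [hι, hι1, aeval_C, ← Algebra.smul_def] }
  set Ψu := D.homU
  have hecomm : Commute e S ∧ Commute e T := hι1 ▸ D.comm 1
  have hef : e * (1 - e) = 0 ∧ (1 - e) * e = 0 := by constructor <;> simp [mul_sub, sub_mul, hee]
  -- the corner map on the pair group
  have hPe : ∀ g ∈ pairGrp (k := k) hS hT, Commute (g : R) e := by
    intro g hg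
    induction hg using Subgroup.closure_induction with
    | mem x hx =>
      rcases hx with ⟨c, rfl⟩ | ⟨c, rfl⟩
      · exact (Commute.one_left e).add_left ((hecomm.1.symm).smul_left c)
      · exact (Commute.one_left e).add_left ((hecomm.2.symm).smul_left c)
    | one => exact Commute.one_left e
    | mul x y _ _ hx hy => rw [Units.val_mul]; exact hx.mul_left hy
    | inv x _ hx => exact hx.units_inv_left
  let ρ : pairGrp (k := k) hS hT →* R :=
    { toFun := fun g => (1 - e) + (g : Rˣ).val * e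
      map_one' := by simp
      map_mul' := fun g h => by
        have hc := (hPe _ h.2).eq
        simp only [Subgroup.coe_mul, Units.val_mul, add_mul, mul_add]
        rw [show (1 - e) * (1 - e) = 1 - e by rw [sub_mul, one_mul, hef.1, sub_zero],
          show (1 - e) * (((h : Rˣ) : R) * e) = 0 by rw [hc, ← mul_assoc, hef.2, zero_mul],
          show ((g : Rˣ) : R) * e * (1 - e) = 0 by rw [mul_assoc, hef.1, mul_zero], mul_assoc ((g : Rˣ) : R) e,
          show e * (((h : Rˣ) : R) * e) = ((h : Rˣ) : R) * e by rw [hc, ← mul_assoc, hee]]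
        simp [mul_assoc] }
  let ρu := ρ.toHomUnits
  have hgen : gen k D.α ≤ ((⊤ : Subgroup (pairGrp (k := k) hS hT)).map ρu).comap Ψu := by
    rw [gen, Subgroup.closure_le]
    rintro _ (⟨c, rfl⟩ | ⟨c, rfl⟩)
    · refine ⟨⟨fam hS c, Subgroup.subset_closure (Or.inl ⟨c, rfl⟩)⟩, Subgroup.mem_top _, Units.ext ?_⟩
      rw [D.homU_up_alg]
      show (1 - e) + (1 + c • S) * e = 1 + c • (ι 1 * S)
      rw [hι1, add_mul, one_mul, smul_mul_assoc, ← hecomm.1.eq]; abel
    · refine ⟨⟨fam hT c, Subgroup.subset_closure (Or.inr ⟨c, rfl⟩)⟩, Subgroup.mem_top _, Units.ext ?_⟩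
      rw [D.homU_low_alg]
      show (1 - e) + (1 + c • T) * e = 1 + c • (ι 1 * T)
      rw [hι1, add_mul, one_mul, smul_mul_assoc, ← hecomm.2.eq]; abel
  set n := 2 * N + 2
  intro r
  set x := up (mk (r * X ^ N)) with hx
  have hmem : Ψu x ∈ (dser (⊤ : Subgroup (pairGrp (k := k) hS hT)) n).map ρu := by
    have h1 : Ψu x ∈ (dser (gen k D.α) n).map Ψu :=
      ⟨x, (gen_perfect h2 h3 (IsUnit.of_mul_eq_one D.β D.αβ) (AdjoinRoot.adjoinRoot_eq_top) n _).1, rfl⟩
    rw [map_dser] at h1 ⊢
    exact dser_mono (Subgroup.map_le_iff_le_comap.2 hgen) n h1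
  obtain ⟨g, hg, hgx⟩ := hmem
  have hgP : (g : Rˣ) ∈ dser (pairGrp (k := k) hS hT) n := by
    have := Subgroup.mem_map_of_mem (pairGrp (k := k) hS hT).subtype hg
    rwa [map_dser, ← MonoidHom.range_eq_map, Subgroup.range_subtype] at this
  have hfcomm : Commute (1 - e) S ∧ Commute (1 - e) T :=
    ⟨(Commute.one_left S).sub_left hecomm.1, (Commute.one_left T).sub_left hecomm.2⟩
  have hff : (1 - e) * (1 - e) = 1 - e := by rw [sub_mul, one_mul, hef.1, sub_zero]
  have hzN : z ^ N * (1 - e) = 0 := by simpa using hnil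
  have hfix := dser_trivial hS hT hff hfcomm hzN hgP
  refine ⟨g, g.2, ?_⟩
  have h : (1 - e) + ((g : Rˣ) : R) * e = 1 + aeval z (r * X ^ N) * e * S := by
    refine (congrArg Units.val hgx).trans ?_
    rw [hx, D.homU_up]
    show 1 + ι (mk (r * X ^ N)) * S = _
    rw [hι]
  have hgg : ((g : Rˣ) : R) = (1 - e) + ((g : Rˣ) : R) * e := by
    conv_rhs => rw [← hfix]
    rw [← mul_add, sub_add_cancel, mul_one]
  rw [hgg, h]
  have hX : aeval z (r * X ^ N) * e = aeval z (r * X ^ N) := by
    have h0 : aeval z (r * X ^ N) * (1 - e) = 0 := by rw [map_mul, mul_assoc, hnil, mul_zero]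
    rw [mul_sub, mul_one, sub_eq_zero] at h0
    exact h0.symm
  rw [hX]

end Algebra

end CfsgLib.QP
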