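import Cfsg.Agent.QuadPairs.Unipotent

set_option autoImplicit false
set_option linter.unusedSectionVars false

/-!
A conjugation invariant family of subgroups, any two of which generate a unipotent group, generates
a unipotent group.
-/

universe u v

namespace CfsgLib.QP

open Cfsg

variable {k : Type u} [Field k] {M : Type v} [AddCommGroup M] [Module k M]

/-- The span of the endomorphisms `g - 1`, `g` in `H`. -/
def lam (H : Subgroup (LinearMap.GeneralLinearGroup k M)) : Submodule k (Module.End k M) :=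
  Submodule.span k {x | ∃ g ∈ H, (g : Module.End k M) - 1 = x}

theorem mem_lam {H : Subgroup (LinearMap.GeneralLinearGroup k M)} {g : LinearMap.GeneralLinearGroup k M}
    (h : g ∈ H) : (g : Module.End k M) - 1 ∈ lam H := Submodule.subset_span ⟨g, h, rfl⟩

theorem lam_mono {H K : Subgroup (LinearMap.GeneralLinearGroup k M)} (h : H ≤ K) : lam H ≤ lam K :=
  Submodule.span_mono fun _ ⟨g, hg, e⟩ => ⟨g, h hg, e⟩

theorem lam_mul_le (H : Subgroup (LinearMap.GeneralLinearGroup k M)) : lam H * lam H ≤ lam H := by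
  rw [lam, Submodule.span_mul_span, Submodule.span_le]
  rintro _ ⟨_, ⟨g, hg, rfl⟩, _, ⟨h, hh, rfl⟩, rfl⟩
  show ((g : Module.End k M) - 1) * ((h : Module.End k M) - 1) ∈ lam H
  rw [show ((g : Module.End k M) - 1) * ((h : Module.End k M) - 1) =
    (((g * h : LinearMap.GeneralLinearGroup k M) : Module.End k M) - 1) - ((g : Module.End k M) - 1)
      - ((h : Module.End k M) - 1) by rw [Units.val_mul]; noncomm_ring]
  exact sub_mem (sub_mem (mem_lam (mul_mem hg hh)) (mem_lam hg)) (mem_lam hh)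

theorem unipotent_iff (H : Subgroup (LinearMap.GeneralLinearGroup k M)) :
    IsUnipotentOn H ↔ ∃ n, lam H ^ n = ⊥ := by
  constructor
  · intro h
    obtain ⟨n, hn⟩ := IsUnipotentOn.prod_eq_zero h
    refine ⟨n + 1, eq_bot_iff.2 ?_⟩
    have hle : ∀ m, lam H ^ (m + 1) ≤ wordSpan k {x | ∃ g ∈ H, (g : Module.End k M) - 1 = x} (m + 1) := by
      intro m
      induction m with
      | zero =>
        rw [pow_one, lam, Submodule.span_le]
        exact fun x hx => mem_wordSpan_one hx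
      | succ m ih =>
        rw [pow_succ, Submodule.mul_le]
        intro x hx y hy
        exact wordSpan_mul (ih hx) (Submodule.span_le.2 (fun x hx => mem_wordSpan_one hx) hy)
    refine (hle n).trans (le_of_eq (wordSpan_eq_bot (n := n) (fun l hl hlen => ?_) (Nat.le_succ n)))
    choose! f hf hfe using hl
    have := hn (l.map f) (fun g hg => by
      obtain ⟨x, hx, rfl⟩ := List.mem_map.1 hg
      exact hf x hx) (by rw [List.length_map, hlen])
    rw [List.map_map] at this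
    rwa [List.map_congr_left (g := id) (by exact fun x hx => hfe x hx), List.map_id] at this
  · rintro ⟨n, hn⟩
    refine ⟨n, fun l hl hlen => ?_⟩
    simp only [List.pure_def, List.bind_eq_flatMap, ← List.map_eq_flatMap, List.map_map]
    have key : ∀ l : List (LinearMap.GeneralLinearGroup k M), (∀ g ∈ l, g ∈ H) →
        (l.map fun g : LinearMap.GeneralLinearGroup k M => (g : Module.End k M) - 1).prod ∈ lam H ^ l.length := by
      intro l
      induction l with
      | nil => intro _; simp [Submodule.one_le.1 le_rfl]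
      | cons a l ih =>
        intro hl
        rw [List.map_cons, List.prod_cons, List.length_cons, pow_succ']
        exact Submodule.mul_mem_mul (mem_lam (hl a List.mem_cons_self))
          (ih fun g hg => hl g (List.mem_cons_of_mem _ hg))
    have := key l hl
    rw [hlen, hn, Submodule.mem_bot] at this
    exact this

/-- The subgroup generated by a family. -/
abbrev supW (P : Set (Subgroup (LinearMap.GeneralLinearGroup k M))) : Subgroup (LinearMap.GeneralLinearGroup k M) :=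
  ⨆ A ∈ P, A

theorem le_supW {P : Set (Subgroup (LinearMap.GeneralLinearGroup k M))}
    {A : Subgroup (LinearMap.GeneralLinearGroup k M)} (h : A ∈ P) : A ≤ supW P :=
  le_iSup₂ (f := fun A (_ : A ∈ P) => A) A h

theorem lam_supW_le {P : Set (Subgroup (LinearMap.GeneralLinearGroup k M))} {L : Submodule k (Module.End k M)}
    (hL : L * L ≤ L) (h : ∀ A ∈ P, ∀ a ∈ A, (a : Module.End k M) - 1 ∈ L) : lam (supW P) ≤ L := by
  rw [lam, Submodule.span_le]
  rintro _ ⟨g, hg, rfl⟩
  show (g : Module.End k M) - 1 ∈ L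
  suffices (g : Module.End k M) - 1 ∈ L ∧ ((g⁻¹ : LinearMap.GeneralLinearGroup k M) : Module.End k M) - 1 ∈ L
    from this.1
  have key : ∀ x y : Module.End k M, x - 1 ∈ L → y - 1 ∈ L → x * y - 1 ∈ L := by
    intro x y hx hy
    rw [show x * y - 1 = (x - 1) + (y - 1) + (x - 1) * (y - 1) by noncomm_ring]
    exact add_mem (add_mem hx hy) (hL (Submodule.mul_mem_mul hx hy))
  rw [supW, iSup_subtype'] at hg
  refine Subgroup.iSup_induction (S := fun A : P => (A : Subgroup (LinearMap.GeneralLinearGroup k M)))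
    (C := fun g => (g : Module.End k M) - 1 ∈ L ∧
      ((g⁻¹ : LinearMap.GeneralLinearGroup k M) : Module.End k M) - 1 ∈ L) hg ?_ ?_ ?_
  · exact fun A a ha => ⟨h A.1 A.2 a ha, h A.1 A.2 _ (inv_mem ha)⟩
  · simp
  · intro x y hx hy
    refine ⟨?_, ?_⟩
    · rw [Units.val_mul]; exact key _ _ hx.1 hy.1
    · rw [mul_inv_rev, Units.val_mul]; exact key _ _ hy.2 hx.2

theorem pow_eq_bot_of_le {X Y : Submodule k (Module.End k M)} (h : X ≤ Y) {n : ℕ} (hn : Y ^ n = ⊥) :
    X ^ n = ⊥ := eq_bot_iff.2 (hn ▸ pow_le_pow_left' h n)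

theorem pow_le_self_of_mul_le {L : Submodule k (Module.End k M)} (hL : L * L ≤ L) : ∀ n, L ^ (n + 1) ≤ L
  | 0 => (pow_one L).le
  | n + 1 => by rw [pow_succ]; exact (mul_le_mul_left (pow_le_self_of_mul_le hL n) _).trans hL

/-- The join of two nilpotent algebras, the second normalising the first. -/
theorem exists_nilpotent_join {X Y : Submodule k (Module.End k M)} {n : ℕ} (hXX : X * X ≤ X) (hYY : Y * Y ≤ Y)
    (hX : X ^ n = ⊥) (hY : Y ^ n = ⊥) (hYX : Y * X ≤ X * Y ⊔ X) :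
    ∃ (Z : Submodule k (Module.End k M)) (N : ℕ), Z * Z ≤ Z ∧ Z ^ N = ⊥ ∧ X ≤ Z ∧ Y ≤ Z := by
  obtain ⟨E, hE⟩ : ∃ E, E = (1 : Submodule k (Module.End k M)) ⊔ Y := ⟨_, rfl⟩
  have hEE : E * E ≤ E := by
    rw [hE, Submodule.sup_mul, Submodule.mul_sup, Submodule.mul_sup, one_mul, one_mul, mul_one]
    exact sup_le (sup_le le_sup_left le_sup_right) (sup_le le_sup_right (hYY.trans le_sup_right))
  have hXE : X * Y ⊔ X ≤ X * E := by
    rw [hE, Submodule.mul_sup, mul_one, sup_comm]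
  have hEX : E * X ≤ X * E := by
    conv_lhs => rw [hE, Submodule.sup_mul, one_mul]
    exact sup_le (le_sup_right.trans hXE) (hYX.trans hXE)
  have hXEY : X * E * Y ≤ X * E := by
    rw [mul_assoc]
    exact mul_le_mul_right ((mul_le_mul_right (hE ▸ le_sup_right : Y ≤ E) _).trans hEE) _
  have hXEE : ∀ Q, Q * E * (X * E) ≤ Q * X * E := fun Q => by
    calc Q * E * (X * E) = Q * (E * X) * E := by simp only [mul_assoc]
      _ ≤ Q * (X * E) * E := mul_le_mul_left (mul_le_mul_right hEX _) _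
      _ = Q * X * (E * E) := by simp only [mul_assoc]
      _ ≤ Q * X * E := mul_le_mul_right hEE _
  have hXX' : X * E * (X * E) ≤ X * E := (hXEE X).trans (mul_le_mul_left hXX _)
  have hYXE : Y * (X * E) ≤ X * E := by
    refine (mul_le_mul_left (hE ▸ le_sup_right : Y ≤ E) _).trans ?_
    rw [← mul_assoc]
    refine (mul_le_mul_left hEX _).trans ?_
    rw [mul_assoc]
    exact mul_le_mul_right hEE _
  refine ⟨X * E ⊔ Y, n * n, ?_, ?_, (le_sup_right.trans hXE).trans le_sup_left, le_sup_right⟩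
  · rw [Submodule.sup_mul, Submodule.mul_sup, Submodule.mul_sup]
    exact sup_le (sup_le (hXX'.trans le_sup_left) (hXEY.trans le_sup_left))
      (sup_le (hYXE.trans le_sup_left) (hYY.trans le_sup_right))
  · rcases Nat.eq_zero_or_pos n with rfl | hn
    · simpa using hX
    obtain ⟨m, rfl⟩ : ∃ m, n = m + 1 := ⟨n - 1, by omega⟩
    have h1 : ∀ j, (X * E ⊔ Y) ^ (j + 1) ≤ Y ^ (j + 1) ⊔ X * E := by
      intro j
      induction j with
      | zero => rw [pow_one, pow_one, sup_comm]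
      | succ j ih =>
        rw [pow_succ]
        refine (mul_le_mul_left ih _).trans ?_
        rw [Submodule.sup_mul, Submodule.mul_sup, Submodule.mul_sup, ← pow_succ]
        exact sup_le (sup_le (((mul_le_mul_left (pow_le_self_of_mul_le hYY j) _).trans hYXE).trans le_sup_right)
          le_sup_left) (sup_le (hXX'.trans le_sup_right) (hXEY.trans le_sup_right))
    have h2 : ∀ j, (X * E) ^ (j + 1) ≤ X ^ (j + 1) * E := by
      intro j
      induction j with
      | zero => rw [pow_one, pow_one]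
      | succ j ih =>
        rw [pow_succ]
        exact (mul_le_mul_left ih _).trans ((hXEE _).trans (by rw [← pow_succ]))
    rw [pow_mul]
    refine eq_bot_iff.2 ((pow_le_pow_left' ((h1 m).trans (by rw [hY, bot_sup_eq])) _).trans ?_)
    exact (h2 m).trans (by rw [hX, Submodule.bot_mul])

variable [FiniteDimensional k M]

/-- A unipotent subfamily of `W` containing every member that acts inside its algebra. -/
def IsClosedIn (W P : Set (Subgroup (LinearMap.GeneralLinearGroup k M))) : Prop :=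
  P ⊆ W ∧ IsUnipotentOn (supW P) ∧ ∀ A ∈ W, (∀ a ∈ A, (a : Module.End k M) - 1 ∈ lam (supW P)) → A ∈ P

/-- A maximal unipotent subfamily. -/
def IsMaxIn (W P : Set (Subgroup (LinearMap.GeneralLinearGroup k M))) : Prop :=
  IsClosedIn W P ∧ ∀ Q ⊆ W, IsUnipotentOn (supW Q) → P ⊆ Q → Q ⊆ P

theorem exists_isMaxIn {W P : Set (Subgroup (LinearMap.GeneralLinearGroup k M))} (hPW : P ⊆ W)
    (hP : IsUnipotentOn (supW P)) : ∃ Q, IsMaxIn W Q ∧ P ⊆ Q := by
  classical
  let p : ℕ → Prop := fun d => ∃ Q ⊆ W, P ⊆ Q ∧ IsUnipotentOn (supW Q) ∧ Module.finrank k (lam (supW Q)) = d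
  have hb : ∀ d, p d → d ≤ Module.finrank k (Module.End k M) := by
    rintro d ⟨Q, -, -, -, rfl⟩
    exact Submodule.finrank_le _
  have hp : p (Module.finrank k (lam (supW P))) := ⟨P, hPW, subset_rfl, hP, rfl⟩
  obtain ⟨Q₀, hQ₀W, hPQ₀, hQ₀, hd⟩ := Nat.findGreatest_spec (P := p) (hb _ hp) hp
  set Q : Set (Subgroup (LinearMap.GeneralLinearGroup k M)) :=
    {A | A ∈ W ∧ ∀ a ∈ A, (a : Module.End k M) - 1 ∈ lam (supW Q₀)} with hQdef
  have hsub : Q₀ ⊆ Q := fun A hA => ⟨hQ₀W hA, fun a ha => mem_lam (le_supW hA ha)⟩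
  have hlam : lam (supW Q) = lam (supW Q₀) :=
    le_antisymm (lam_supW_le (lam_mul_le _) fun A hA => hA.2) (lam_mono (biSup_mono fun _ h => hsub h))
  have hQu : IsUnipotentOn (supW Q) := (unipotent_iff _).2 (by rw [hlam]; exact (unipotent_iff _).1 hQ₀)
  refine ⟨Q, ⟨⟨fun A hA => hA.1, hQu, fun A hA h => ⟨hA, hlam ▸ h⟩⟩, fun R hRW hRu hQR A hA => ?_⟩,
    hPQ₀.trans hsub⟩
  have hR : p (Module.finrank k (lam (supW R))) := ⟨R, hRW, (hPQ₀.trans hsub).trans hQR, hRu, rfl⟩
  have hle := Nat.le_findGreatest (P := p) (hb _ hR) hR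
  have hmono : lam (supW Q₀) ≤ lam (supW R) := hlam ▸ lam_mono (biSup_mono fun _ h => hQR h)
  have := Submodule.eq_of_le_of_finrank_le hmono (by rw [hd]; exact hle)
  exact ⟨hRW hA, fun a ha => this ▸ mem_lam (le_supW hA ha)⟩

theorem exists_normalizing_member {G : Subgroup (LinearMap.GeneralLinearGroup k M)}
    {W P I : Set (Subgroup (LinearMap.GeneralLinearGroup k M))} (hWG : ∀ A ∈ W, A ≤ G)
    (hWconj : ∀ A ∈ W, ∀ g ∈ G, conjBy A g ∈ W) (hP : IsClosedIn W P) (hI : IsClosedIn W I) (hIP : I ⊆ P)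
    (hne : ¬ P ⊆ I) : ∃ A ∈ P, A ∉ I ∧ ∀ a ∈ A, ∀ B ∈ I, conjBy B a ∈ I := by
  classical
  obtain ⟨n, hn⟩ := (unipotent_iff _).1 hP.2.1
  set Λ := lam (supW P) with hΛ
  set X := lam (supW I) with hX
  have hXΛ : X ≤ Λ := lam_mono (biSup_mono fun _ h => hIP h)
  have hLle : ∀ j, X ⊔ Λ ^ (j + 1) ≤ Λ := fun j => sup_le hXΛ (pow_le_self_of_mul_le (lam_mul_le _) j)
  let q : ℕ → Prop := fun j => ∃ A ∈ P, A ∉ I ∧ ∀ a ∈ A, (a : Module.End k M) - 1 ∈ X ⊔ Λ ^ (j + 1)
  have hq0 : q 0 := by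
    obtain ⟨A, hA, hAI⟩ := Set.not_subset.1 hne
    exact ⟨A, hA, hAI, fun a ha => Submodule.mem_sup_right (by rw [pow_one]; exact mem_lam (le_supW hA ha))⟩
  have hqn : ¬ q n := by
    rintro ⟨A, hA, hAI, h⟩
    refine hAI (hI.2.2 A (hP.1 hA) fun a ha => ?_)
    have := h a ha
    rwa [pow_succ, hn, Submodule.bot_mul, sup_bot_eq] at this
  obtain ⟨j, hj, hj'⟩ : ∃ j, q j ∧ ¬ q (j + 1) := by
    by_contra hcon
    push Not at hcon
    exact hqn (Nat.rec hq0 hcon n)
  obtain ⟨A, hA, hAI, hAL⟩ := hj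
  refine ⟨A, hA, hAI, fun a ha B hB => ?_⟩
  by_contra hBI
  refine hj' ⟨conjBy B a, ?_, hBI, ?_⟩
  · refine hP.2.2 _ (hWconj B (hI.1 hB) a (hWG A (hP.1 hA) ha)) ?_
    rintro _ ⟨b, hb, rfl⟩
    exact mem_lam (mul_mem (mul_mem (le_supW hA ha) (le_supW (hIP hB) hb)) (inv_mem (le_supW hA ha)))
  · rintro _ ⟨b, hb, rfl⟩
    set u := (a : Module.End k M) - 1 with hu
    set u' := ((a⁻¹ : LinearMap.GeneralLinearGroup k M) : Module.End k M) - 1 with hu'
    set x := (b : Module.End k M) - 1 with hx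
    have e : ((a * b * a⁻¹ : LinearMap.GeneralLinearGroup k M) : Module.End k M) - 1 =
        x + u * x + x * u' + u * x * u' := by
      have h0 : (a : Module.End k M) * ((a⁻¹ : LinearMap.GeneralLinearGroup k M) : Module.End k M) = 1 :=
        Units.mul_inv a
      rw [Units.val_mul, Units.val_mul]
      simp only [hu, hu', hx, mul_sub, sub_mul, mul_one, one_mul, h0]
      abel
    show ((a * b * a⁻¹ : LinearMap.GeneralLinearGroup k M) : Module.End k M) - 1 ∈ _
    have hxX : x ∈ X := mem_lam (le_supW hB hb)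
    have hmul : ∀ {p r}, p ∈ X ⊔ Λ ^ (j + 1) → r ∈ X ⊔ Λ ^ (j + 1) → p * r ∈ X ⊔ Λ ^ (j + 1 + 1) := by
      intro p r hp hr
      refine (?_ : (X ⊔ Λ ^ (j + 1)) * (X ⊔ Λ ^ (j + 1)) ≤ _) (Submodule.mul_mem_mul hp hr)
      rw [Submodule.sup_mul, Submodule.mul_sup, Submodule.mul_sup]
      refine sup_le (sup_le ((lam_mul_le _).trans le_sup_left) (le_trans ?_ le_sup_right))
        (sup_le (le_trans ?_ le_sup_right) (le_trans ?_ le_sup_right))
      · rw [pow_succ' Λ (j + 1)]; exact mul_le_mul_left hXΛ _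
      · rw [pow_succ Λ (j + 1)]; exact mul_le_mul_right hXΛ _
      · rw [pow_succ Λ (j + 1)]; exact mul_le_mul_right (pow_le_self_of_mul_le (lam_mul_le _) j) _
    have hdown : X ⊔ Λ ^ (j + 1 + 1) ≤ X ⊔ Λ ^ (j + 1) := by
      refine sup_le_sup_left ?_ _
      rw [pow_succ, pow_succ, mul_assoc]
      exact mul_le_mul_right (lam_mul_le _) _
    have hx' : x ∈ X ⊔ Λ ^ (j + 1) := Submodule.mem_sup_left hxX
    rw [e]
    exact add_mem (add_mem (add_mem (Submodule.mem_sup_left hxX) (hmul (hAL a ha) hx'))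
      (hmul hx' (hAL _ (inv_mem ha)))) (hmul (hdown (hmul (hAL a ha) hx')) (hAL _ (inv_mem ha)))

theorem unipotent_of_pairs {G : Subgroup (LinearMap.GeneralLinearGroup k M)}
    {W : Set (Subgroup (LinearMap.GeneralLinearGroup k M))} (hWG : ∀ A ∈ W, A ≤ G)
    (hWW : ∀ A ∈ W, ∀ B ∈ W, IsUnipotentOn (A ⊔ B)) (hWconj : ∀ A ∈ W, ∀ g ∈ G, conjBy A g ∈ W) :
    IsUnipotentOn (supW W) := by
  classical
  by_contra hW
  obtain ⟨P₀, hP₀, -⟩ := exists_isMaxIn (W := W) (P := ∅) (Set.empty_subset _)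
    ((unipotent_iff _).2 ⟨1, by rw [pow_one, eq_bot_iff]; exact lam_supW_le (by simp) (by simp)⟩)
  have hdiff : ∃ Q, IsMaxIn W Q ∧ Q ≠ P₀ := by
    by_contra hcon
    push Not at hcon
    apply hW
    have hall : W ⊆ P₀ := fun A hA => by
      obtain ⟨Q, hQ, hAQ⟩ := exists_isMaxIn (W := W) (P := {A}) (Set.singleton_subset_iff.2 hA)
        (by simpa [supW] using hWW A hA A hA)
      exact hcon Q hQ ▸ hAQ rfl
    rw [Set.Subset.antisymm hall hP₀.1.1]
    exact hP₀.1.2.1
  have hclosed : ∀ {P Q}, IsClosedIn W P → IsClosedIn W Q → IsClosedIn W (P ∩ Q) := by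
    intro P Q hP hQ
    refine ⟨fun A hA => hP.1 hA.1, ?_, fun A hA h => ⟨hP.2.2 A hA fun a ha => ?_, hQ.2.2 A hA fun a ha => ?_⟩⟩
    · obtain ⟨n, hn⟩ := (unipotent_iff _).1 hP.2.1
      exact (unipotent_iff _).2 ⟨n, pow_eq_bot_of_le (lam_mono (biSup_mono fun _ h => h.1)) hn⟩
    · exact lam_mono (biSup_mono fun _ h => h.1) (h a ha)
    · exact lam_mono (biSup_mono fun _ h => h.2) (h a ha)
  let p : ℕ → Prop := fun d => ∃ P Q, IsMaxIn W P ∧ IsMaxIn W Q ∧ P ≠ Q ∧
    Module.finrank k (lam (supW (P ∩ Q))) = d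
  have hb : ∀ d, p d → d ≤ Module.finrank k (Module.End k M) := by
    rintro d ⟨P, Q, -, -, -, rfl⟩
    exact Submodule.finrank_le _
  obtain ⟨Q₁, hQ₁, hne₁⟩ := hdiff
  have hp : p (Module.finrank k (lam (supW (Q₁ ∩ P₀)))) := ⟨Q₁, P₀, hQ₁, hP₀, hne₁, rfl⟩
  obtain ⟨P, Q, hP, hQ, hPQ, hd⟩ := Nat.findGreatest_spec (P := p) (hb _ hp) hp
  set I := P ∩ Q with hIdef
  have hI : IsClosedIn W I := hclosed hP.1 hQ.1
  obtain ⟨A, hA, hAI, hAn⟩ := exists_normalizing_member hWG hWconj hP.1 hI Set.inter_subset_left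
    (fun h => hPQ (Set.Subset.antisymm (fun x hx => (h hx).2) (hP.2 Q hQ.1.1 hQ.1.2.1 fun x hx => (h hx).2)))
  obtain ⟨B, hB, hBI, hBn⟩ := exists_normalizing_member hWG hWconj hQ.1 hI Set.inter_subset_right
    (fun h => hPQ (Set.Subset.antisymm (hQ.2 P hP.1.1 hP.1.2.1 fun x hx => (h hx).1) fun x hx => (h hx).1))
  set J := supW I with hJ
  have hnorm : A ⊔ B ≤ Subgroup.normalizer (J : Set (LinearMap.GeneralLinearGroup k M)) := by
    have hone : ∀ C : Subgroup (LinearMap.GeneralLinearGroup k M), (∀ a ∈ C, ∀ D ∈ I, conjBy D a ∈ I) →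
        C ≤ Subgroup.normalizer (J : Set (LinearMap.GeneralLinearGroup k M)) := by
      intro C hC
      have hmap : ∀ a ∈ C, J.map (MulAut.conj a).toMonoidHom ≤ J := fun a ha => by
        rw [hJ, supW, Subgroup.map_iSup]
        refine iSup_le fun D => ?_
        rw [Subgroup.map_iSup]
        exact iSup_le fun hD => le_supW (hC a ha D hD)
      intro a ha
      rw [Subgroup.mem_normalizer_iff]
      intro h
      refine ⟨fun hh => hmap a ha ⟨h, hh, rfl⟩, fun hh => ?_⟩
      have := hmap a⁻¹ (inv_mem ha) ⟨_, hh, rfl⟩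
      simp only [MulEquiv.coe_toMonoidHom, MulAut.conj_apply, inv_inv] at this
      rwa [show a⁻¹ * (a * h * a⁻¹) * a = h by group] at this
    exact sup_le (hone A hAn) (hone B hBn)
  obtain ⟨n₁, hn₁⟩ := (unipotent_iff _).1 hI.2.1
  obtain ⟨n₂, hn₂⟩ := (unipotent_iff _).1 (hWW A (hP.1.1 hA) B (hQ.1.1 hB))
  have hYX : lam (A ⊔ B) * lam J ≤ lam J * lam (A ⊔ B) ⊔ lam J := by
    rw [lam, lam, Submodule.span_mul_span, Submodule.span_le]
    rintro _ ⟨_, ⟨c, hc, rfl⟩, _, ⟨j, hj, rfl⟩, rfl⟩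
    have hj' : c * j * c⁻¹ ∈ J := (Subgroup.mem_normalizer_iff.1 (hnorm hc) j).1 hj
    show ((c : Module.End k M) - 1) * ((j : Module.End k M) - 1) ∈ lam J * lam (A ⊔ B) ⊔ lam J
    have e : ((c : Module.End k M) - 1) * ((j : Module.End k M) - 1) =
        (((c * j * c⁻¹ : LinearMap.GeneralLinearGroup k M) : Module.End k M) - 1) * ((c : Module.End k M) - 1) +
          ((((c * j * c⁻¹ : LinearMap.GeneralLinearGroup k M) : Module.End k M) - 1) - ((j : Module.End k M) - 1)) := by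
      have h0 : ((c * j * c⁻¹ : LinearMap.GeneralLinearGroup k M) : Module.End k M) * (c : Module.End k M) =
          (c : Module.End k M) * (j : Module.End k M) := by
        rw [← Units.val_mul, ← Units.val_mul, inv_mul_cancel_right]
      simp only [mul_sub, sub_mul, mul_one, one_mul, h0]
      abel
    rw [e]
    exact add_mem (Submodule.mem_sup_left (Submodule.mul_mem_mul (mem_lam hj') (mem_lam hc)))
      (Submodule.mem_sup_right (sub_mem (mem_lam hj') (mem_lam hj)))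
  have hmono : ∀ {L : Submodule k (Module.End k M)} {a b : ℕ}, a ≤ b → L ^ a = ⊥ → L ^ b = ⊥ := by
    intro L a b h hL
    rw [← Nat.add_sub_cancel' h, pow_add, hL, Submodule.bot_mul]
  obtain ⟨Z, N, hZZ, hZN, hJZ, hABZ⟩ := exists_nilpotent_join (lam_mul_le J) (lam_mul_le (A ⊔ B))
    (hmono (le_max_left n₁ n₂) hn₁) (hmono (le_max_right n₁ n₂) hn₂) hYX
  have hR : IsUnipotentOn (supW (I ∪ {A, B})) := by
    refine (unipotent_iff _).2 ⟨N, pow_eq_bot_of_le (lam_supW_le hZZ ?_) hZN⟩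
    rintro C (hC | rfl | rfl) c hc
    · exact hJZ (mem_lam (le_supW hC hc))
    · exact hABZ (mem_lam (Subgroup.mem_sup_left hc))
    · exact hABZ (mem_lam (Subgroup.mem_sup_right hc))
  obtain ⟨R, hRmax, hRsub⟩ := exists_isMaxIn (W := W) (P := I ∪ {A, B}) (by
    rintro C (hC | rfl | rfl)
    · exact hI.1 hC
    · exact hP.1.1 hA
    · exact hQ.1.1 hB) hR
  have hAR : A ∈ R := hRsub (Or.inr (Or.inl rfl))
  have hBR : B ∈ R := hRsub (Or.inr (Or.inr rfl))
  have hp' : p (Module.finrank k (lam (supW (P ∩ R)))) :=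
    ⟨P, R, hP, hRmax, fun e => hBI (show B ∈ P ∩ Q from ⟨e ▸ hBR, hB⟩), rfl⟩
  have hle := Nat.le_findGreatest (P := p) (hb _ hp') hp'
  have hmonoI : lam (supW I) ≤ lam (supW (P ∩ R)) :=
    lam_mono (biSup_mono fun _ h => ⟨h.1, hRsub (Or.inl h)⟩)
  have heq := Submodule.eq_of_le_of_finrank_le hmonoI (by rw [hd]; exact hle)
  exact hAI (hI.2.2 A (hP.1.1 hA) fun a ha => heq ▸ mem_lam (le_supW (show A ∈ P ∩ R from ⟨hA, hAR⟩) ha))

end CfsgLib.QP

namespace CfsgLib.QP

open Cfsg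

variable {k : Type u} [Field k] {M : Type v} [AddCommGroup M] [Module k M]

theorem conjBy_supW_eq {G : Subgroup (LinearMap.GeneralLinearGroup k M)}
    {W : Set (Subgroup (LinearMap.GeneralLinearGroup k M))} (hWconj : ∀ A ∈ W, ∀ g ∈ G, conjBy A g ∈ W)
    {g : LinearMap.GeneralLinearGroup k M} (hg : g ∈ G) : conjBy (supW W) g = supW W := by
  have hmap : ∀ a ∈ G, conjBy (supW W) a ≤ supW W := fun a ha => by
    rw [conjBy, supW, Subgroup.map_iSup]
    refine iSup_le fun D => ?_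
    rw [Subgroup.map_iSup]
    exact iSup_le fun hD => le_supW (hWconj D hD a ha)
  refine le_antisymm (hmap g hg) fun x hx => ?_
  exact ⟨g⁻¹ * x * g, hmap g⁻¹ (inv_mem hg) ⟨x, hx, by simp⟩, by
    simp only [MulEquiv.coe_toMonoidHom, MulAut.conj_apply]; group⟩

end CfsgLib.QP
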