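import Cfsg.Agent.QuadPairs.Bracket
import Cfsg.Agent.QuadPairs.Kolchin

set_option autoImplicit false
set_option linter.unusedSectionVars false

/-!
In a quadratic pair every minimal root endomorphism has an opposite.
-/

universe u v

namespace CfsgLib.QP

open Cfsg

variable {k : Type u} [Field k] {M : Type v} [AddCommGroup M] [Module k M] [FiniteDimensional k M]
  {G : Subgroup (LinearMap.GeneralLinearGroup k M)}

theorem exists_fixed_ne_zero {H : Subgroup (LinearMap.GeneralLinearGroup k M)} (h : IsUnipotentOn H)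
    {m : M} (hm : m ≠ 0) : ∃ v ≠ 0, ∀ g ∈ H, ((g : Module.End k M) - 1) v = 0 := by
  obtain ⟨n, hn⟩ := (unipotent_iff H).1 h
  by_contra hcon
  push Not at hcon
  have hex : ∀ j, ∃ y ∈ lam H ^ j, y m ≠ 0 := by
    intro j
    induction j with
    | zero => exact ⟨1, by rw [pow_zero]; exact Submodule.one_le.1 le_rfl, hm⟩
    | succ j ih =>
      obtain ⟨y, hy, hym⟩ := ih
      obtain ⟨g, hg, hgy⟩ := hcon (y m) hym
      exact ⟨((g : Module.End k M) - 1) * y, by
        rw [pow_succ']; exact Submodule.mul_mem_mul (mem_lam hg) hy, hgy⟩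
  obtain ⟨y, hy, hym⟩ := hex n
  rw [hn, Submodule.mem_bot] at hy
  exact hym (by rw [hy]; rfl)

/-- An element of an irreducible group lying in a normal unipotent subgroup is trivial. -/
theorem eq_one_of_normal_unipotent (hirr : IsIrreducibleFor G) {H : Subgroup (LinearMap.GeneralLinearGroup k M)}
    (hu : IsUnipotentOn H) (hn : ∀ g ∈ G, conjBy H g = H) {x : LinearMap.GeneralLinearGroup k M}
    (hx : x ∈ H) : x = 1 := by
  let F : Submodule k M := ⨅ g ∈ H, LinearMap.ker ((g : Module.End k M) - 1)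
  obtain ⟨m, hm⟩ := hirr.1
  obtain ⟨v, hv0, hv⟩ := exists_fixed_ne_zero hu hm
  have hinv : ∀ g ∈ G, ∀ w ∈ F, (g : M →ₗ[k] M) w ∈ F := by
    intro g hg w hw
    simp only [F, Submodule.mem_iInf, LinearMap.mem_ker] at hw ⊢
    intro y hy
    rw [← hn g hg] at hy
    obtain ⟨z, hz, rfl⟩ := hy
    simp only [MulEquiv.coe_toMonoidHom, MulAut.conj_apply]
    rw [conj_one_add g z (N := (z : Module.End k M) - 1) (c := (1 : k)) (by rw [one_smul, add_sub_cancel]),
      one_smul, add_sub_cancel_left]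
    show conjEnd g ((z : Module.End k M) - 1) ((g : Module.End k M) w) = 0
    rw [conjEnd_apply, hw z hz, map_zero]
  rcases hirr.2 F hinv with h | h
  · refine absurd ?_ hv0
    have : v ∈ F := by
      simp only [F, Submodule.mem_iInf, LinearMap.mem_ker]
      exact hv
    rw [h, Submodule.mem_bot] at this
    exact this
  · refine Units.ext (sub_eq_zero.1 (LinearMap.ext fun w => ?_))
    have : w ∈ F := h ▸ Submodule.mem_top
    simp only [F, Submodule.mem_iInf, LinearMap.mem_ker] at this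
    simpa using this x hx

theorem hasOpposites (h2 : (2 : k) ≠ 0) (h3 : Nat.card k ≠ 3) (hirr : IsIrreducibleFor G) : HasOpposites G := by
  intro S hS
  by_contra hcon
  push Not at hcon
  obtain ⟨σ, -, hσS⟩ := hS.toIsRoot.exists_elem
  subst hσS
  have hval : ∀ g, ((g * σ * g⁻¹ : LinearMap.GeneralLinearGroup k M) : Module.End k M) - 1 =
      conjEnd g ((σ : Module.End k M) - 1) := fun g => by
    rw [conj_one_add g σ (N := (σ : Module.End k M) - 1) (c := (1 : k)) (by rw [one_smul, add_sub_cancel]),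
      one_smul, add_sub_cancel_left]
  have hmin : ∀ g ∈ G, IsMinRoot G (((g * σ * g⁻¹ : LinearMap.GeneralLinearGroup k M) : Module.End k M) - 1) :=
    fun g hg => (hval g).symm ▸ hS.conj hg
  set W : Set (Subgroup (LinearMap.GeneralLinearGroup k M)) :=
    {A | ∃ g ∈ G, A = sameActionSubgroup G (g * σ * g⁻¹)} with hW
  have hWG : ∀ A ∈ W, A ≤ G := by
    rintro _ ⟨g, hg, rfl⟩
    exact sameActionSubgroup_le (hmin g hg)
  have hWW : ∀ A ∈ W, ∀ B ∈ W, IsUnipotentOn (A ⊔ B) := by
    rintro _ ⟨g, hg, rfl⟩ _ ⟨g', hg', rfl⟩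
    refine isUnipotentOn_of_not_opposite (hmin g hg) (hmin g' hg') h2 h3 ?_ le_rfl
    have h0 := hcon (conjEnd (g⁻¹ * g') ((σ : Module.End k M) - 1)) (hS.conj (mul_mem (inv_mem hg) hg'))
    have := congrArg (conjEnd g) h0
    rw [← conjEnd_mul, ← conjEnd_mul, conjEnd_conjEnd, mul_inv_cancel_left, conjEnd_zero] at this
    rw [hval, hval]
    exact this
  have hWconj : ∀ A ∈ W, ∀ g ∈ G, conjBy A g ∈ W := by
    rintro _ ⟨g, hg, rfl⟩ g' hg'
    exact ⟨g' * g, mul_mem hg' hg, by
      rw [sameActionSubgroup_conj (hmin g hg) hg', mul_inv_rev]; simp only [mul_assoc]⟩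
  have hσmem : σ ∈ supW W := by
    refine le_supW (A := sameActionSubgroup G σ) (show _ ∈ W from ⟨1, one_mem G, by simp⟩) ?_
    exact (mem_sameActionSubgroup hS).2 (mem_rootSpace_self hS.toIsRoot)
  have := eq_one_of_normal_unipotent hirr (unipotent_of_pairs hWG hWW hWconj)
    (fun g hg => conjBy_supW_eq hWconj hg) hσmem
  exact hS.ne (by rw [this, Units.val_one, sub_self])

end CfsgLib.QP
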