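import Cfsg.Prelude.Def_RootSubgroups

set_option autoImplicit false
set_option linter.unusedSectionVars false

/-!
Groups generated by elements `1 + N`, `N` in a family of endomorphisms all of whose products of a fixed
length vanish, act unipotently.
-/

universe u v

namespace CfsgLib.QP

section

variable {k : Type u} [Field k] {R : Type v} [Ring R] [Algebra k R]

/-- The span of the products of at least `L` members of `N`. -/
def wordSpan (k : Type u) [Field k] [Algebra k R] (N : Set R) (L : ℕ) : Submodule k R :=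
  Submodule.span k {w | ∃ l : List R, (∀ x ∈ l, x ∈ N) ∧ L ≤ l.length ∧ w = l.prod}

theorem wordSpan_anti {N : Set R} {a b : ℕ} (h : a ≤ b) : wordSpan k N b ≤ wordSpan k N a :=
  Submodule.span_mono fun _ ⟨l, hl, hL, e⟩ => ⟨l, hl, h.trans hL, e⟩

theorem mem_wordSpan_one {N : Set R} {x : R} (hx : x ∈ N) : x ∈ wordSpan k N 1 :=
  Submodule.subset_span ⟨[x], by simpa using hx, le_rfl, by simp⟩

theorem wordSpan_mul {N : Set R} {a b : ℕ} {x y : R} (hx : x ∈ wordSpan k N a) (hy : y ∈ wordSpan k N b) :
    x * y ∈ wordSpan k N (a + b) := by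
  induction hx using Submodule.span_induction with
  | mem x hx =>
    induction hy using Submodule.span_induction with
    | mem y hy =>
      obtain ⟨l, hl, hlL, rfl⟩ := hx
      obtain ⟨l', hl', hlL', rfl⟩ := hy
      exact Submodule.subset_span ⟨l ++ l', fun z hz => (List.mem_append.1 hz).elim (hl z) (hl' z),
        by rw [List.length_append]; omega, by rw [List.prod_append]⟩
    | zero => rw [mul_zero]; exact zero_mem _
    | add u v _ _ hu hv => rw [mul_add]; exact add_mem hu hv
    | smul c u _ hu => rw [mul_smul_comm]; exact Submodule.smul_mem _ c hu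
  | zero => rw [zero_mul]; exact zero_mem _
  | add u v _ _ hu hv => rw [add_mul]; exact add_mem hu hv
  | smul c u _ hu => rw [smul_mul_assoc]; exact Submodule.smul_mem _ c hu

theorem sub_one_mem_wordSpan {N : Set R} {gens : Set Rˣ}
    (hg : ∀ g ∈ gens, (g : R) - 1 ∈ wordSpan k N 1 ∧ ((g⁻¹ : Rˣ) : R) - 1 ∈ wordSpan k N 1)
    {g : Rˣ} (h : g ∈ Subgroup.closure gens) : (g : R) - 1 ∈ wordSpan k N 1 := by
  suffices (g : R) - 1 ∈ wordSpan k N 1 ∧ ((g⁻¹ : Rˣ) : R) - 1 ∈ wordSpan k N 1 from this.1
  have key : ∀ x y : R, x - 1 ∈ wordSpan k N 1 → y - 1 ∈ wordSpan k N 1 → x * y - 1 ∈ wordSpan k N 1 := by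
    intro x y hx hy
    rw [show x * y - 1 = (x - 1) + (y - 1) + (x - 1) * (y - 1) by noncomm_ring]
    exact add_mem (add_mem hx hy) (wordSpan_anti (by omega) (wordSpan_mul hx hy))
  induction h using Subgroup.closure_induction with
  | mem x hx => exact hg x hx
  | one => simp
  | mul x y _ _ hx hy =>
    refine ⟨?_, ?_⟩
    · rw [Units.val_mul]; exact key _ _ hx.1 hy.1
    · rw [mul_inv_rev, Units.val_mul]; exact key _ _ hy.2 hx.2
  | inv x _ hx => exact ⟨hx.2, by rw [inv_inv]; exact hx.1⟩

theorem wordSpan_eq_bot {N : Set R} {n : ℕ}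
    (hn : ∀ l : List R, (∀ x ∈ l, x ∈ N) → l.length = n → l.prod = 0) {L : ℕ} (hL : n ≤ L) :
    wordSpan k N L = ⊥ := by
  rw [wordSpan, Submodule.span_eq_bot]
  rintro w ⟨l, hl, hlen, rfl⟩
  rw [← List.take_append_drop n l, List.prod_append,
    hn (l.take n) (fun x hx => hl x (List.mem_of_mem_take hx)) (by rw [List.length_take]; omega), zero_mul]

theorem list_prod_mem_wordSpan {N : Set R} {l : List R} (hl : ∀ x ∈ l, x ∈ wordSpan k N 1) :
    l.prod ∈ wordSpan k N l.length := by
  induction l with
  | nil => exact Submodule.subset_span ⟨[], by simp, le_rfl, rfl⟩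
  | cons a l ih =>
    rw [List.prod_cons, List.length_cons, add_comm]
    exact wordSpan_mul (hl a (List.mem_cons_self)) (ih fun x hx => hl x (List.mem_cons_of_mem _ hx))

end

section

variable {k : Type u} [Field k] {M : Type v} [AddCommGroup M] [Module k M]

theorem isUnipotentOn_of_words {gens : Set (LinearMap.GeneralLinearGroup k M)}
    {N : Set (Module.End k M)} {n : ℕ}
    (hn : ∀ l : List (Module.End k M), (∀ x ∈ l, x ∈ N) → l.length = n → l.prod = 0)
    (hg : ∀ g ∈ gens, (g : Module.End k M) - 1 ∈ wordSpan k N 1 ∧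
      ((g⁻¹ : LinearMap.GeneralLinearGroup k M) : Module.End k M) - 1 ∈ wordSpan k N 1)
    {H : Subgroup (LinearMap.GeneralLinearGroup k M)} (hH : H ≤ Subgroup.closure gens) :
    Cfsg.IsUnipotentOn H := by
  refine ⟨n, fun l hl hlen => ?_⟩
  simp only [List.pure_def, List.bind_eq_flatMap, List.flatMap_singleton', ← List.map_eq_flatMap, List.map_map]
  have h := list_prod_mem_wordSpan (k := k) (N := N)
    (l := l.map fun g : LinearMap.GeneralLinearGroup k M => (g : Module.End k M) - 1) (by
      intro x hx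
      obtain ⟨g, hgl, rfl⟩ := List.mem_map.1 hx
      exact sub_one_mem_wordSpan hg (hH (hl g hgl)))
  rw [List.length_map, hlen, wordSpan_eq_bot hn le_rfl, Submodule.mem_bot] at h
  exact h

/-- A form of `IsUnipotentOn` without the coercion of lists. -/
theorem IsUnipotentOn.prod_eq_zero {H : Subgroup (LinearMap.GeneralLinearGroup k M)}
    (h : Cfsg.IsUnipotentOn H) : ∃ n, ∀ l : List (LinearMap.GeneralLinearGroup k M), (∀ g ∈ l, g ∈ H) →
      l.length = n → (l.map fun g : LinearMap.GeneralLinearGroup k M => (g : Module.End k M) - 1).prod = 0 := by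
  obtain ⟨n, hn⟩ := h
  refine ⟨n, fun l hl hlen => ?_⟩
  have := hn l hl hlen
  simp only [List.pure_def, List.bind_eq_flatMap, ← List.map_eq_flatMap, List.map_map] at this
  exact this

end

end CfsgLib.QP
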