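import Cfsg.Prelude.Def_RootSubgroups
import Cfsg.Agent.QuadPairs.Unipotent

set_option autoImplicit false
set_option linter.unusedSectionVars false

/-!
Quadratic elements as square-zero endomorphisms, minimal ones, and their root spaces.
-/

universe u v

namespace CfsgLib.QP

open Cfsg

variable {k : Type u} [Field k] {M : Type v} [AddCommGroup M] [Module k M]
  {G : Subgroup (LinearMap.GeneralLinearGroup k M)} {S T N : Module.End k M}

/-- All `1 + c N` lie in `G`. -/
def HasFam (G : Subgroup (LinearMap.GeneralLinearGroup k M)) (N : Module.End k M) : Prop :=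
  ∀ c : k, ∃ g ∈ G, (g : Module.End k M) = 1 + c • N

theorem hasFam_zero : HasFam G (0 : Module.End k M) := fun c => ⟨1, one_mem G, by simp⟩

theorem HasFam.smul (h : HasFam G N) (a : k) : HasFam G (a • N) := fun c => by
  obtain ⟨g, hg, e⟩ := h (c * a)
  exact ⟨g, hg, by rw [e, mul_smul]⟩

theorem HasFam.add (hS : HasFam G S) (hT : HasFam G T) (h : S * T = 0) : HasFam G (S + T) := fun c => by
  obtain ⟨g, hg, e⟩ := hS c
  obtain ⟨g', hg', e'⟩ := hT c
  refine ⟨g * g', mul_mem hg hg', ?_⟩
  rw [Units.val_mul, e, e', mul_add, add_mul, add_mul, one_mul, one_mul, mul_one,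
    smul_mul_smul_comm, h, smul_zero, add_zero, smul_add, add_assoc]

/-- Conjugation of an endomorphism by a linear automorphism. -/
def conjEnd (g : LinearMap.GeneralLinearGroup k M) (N : Module.End k M) : Module.End k M :=
  (g : Module.End k M) * N * ((g⁻¹ : LinearMap.GeneralLinearGroup k M) : Module.End k M)

theorem conj_one_add (g x : LinearMap.GeneralLinearGroup k M) {N : Module.End k M} {c : k}
    (hx : (x : Module.End k M) = 1 + c • N) :
    ((g * x * g⁻¹ : LinearMap.GeneralLinearGroup k M) : Module.End k M) = 1 + c • conjEnd g N := by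
  rw [Units.val_mul, Units.val_mul, hx, mul_add, add_mul, mul_one, Units.mul_inv, mul_smul_comm,
    smul_mul_assoc]
  rfl

theorem HasFam.conj (h : HasFam G N) {g : LinearMap.GeneralLinearGroup k M} (hg : g ∈ G) :
    HasFam G (conjEnd g N) := fun c => by
  obtain ⟨x, hx, e⟩ := h c
  exact ⟨g * x * g⁻¹, mul_mem (mul_mem hg hx) (inv_mem hg), conj_one_add g x e⟩

theorem conjEnd_mul (g : LinearMap.GeneralLinearGroup k M) (A B : Module.End k M) :
    conjEnd g A * conjEnd g B = conjEnd g (A * B) := by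
  simp only [conjEnd, mul_assoc]
  rw [← mul_assoc ((g⁻¹ : LinearMap.GeneralLinearGroup k M) : Module.End k M) (g : Module.End k M),
    Units.inv_mul, one_mul]

theorem conjEnd_conjEnd (g h : LinearMap.GeneralLinearGroup k M) (A : Module.End k M) :
    conjEnd g (conjEnd h A) = conjEnd (g * h) A := by
  simp only [conjEnd, mul_inv_rev, Units.val_mul, mul_assoc]

theorem conjEnd_one (A : Module.End k M) : conjEnd 1 A = A := by simp [conjEnd]

theorem conjEnd_zero (g : LinearMap.GeneralLinearGroup k M) : conjEnd g 0 = 0 := by simp [conjEnd]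

theorem conjEnd_apply (g : LinearMap.GeneralLinearGroup k M) (A : Module.End k M) (m : M) :
    conjEnd g A ((g : Module.End k M) m) = (g : Module.End k M) (A m) := by
  show ((g : Module.End k M) * A * _ * (g : Module.End k M)) m = _
  rw [mul_assoc _ _ (g : Module.End k M), Units.inv_mul, mul_one]
  rfl

theorem conjEnd_eq_zero {g : LinearMap.GeneralLinearGroup k M} {A : Module.End k M}
    (h : conjEnd g A = 0) : A = 0 := by
  have := congrArg (conjEnd g⁻¹) h
  rwa [conjEnd_conjEnd, inv_mul_cancel, conjEnd_one, conjEnd_zero] at this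

theorem range_conjEnd (g : LinearMap.GeneralLinearGroup k M) (A : Module.End k M) :
    LinearMap.range (conjEnd g A) = (LinearMap.range A).map (g : Module.End k M) := by
  ext x
  simp only [Submodule.mem_map, LinearMap.mem_range]
  constructor
  · rintro ⟨m, rfl⟩
    exact ⟨_, ⟨_, rfl⟩, rfl⟩
  · rintro ⟨_, ⟨m, rfl⟩, rfl⟩
    exact ⟨_, conjEnd_apply g A m⟩

theorem ker_conjEnd (g : LinearMap.GeneralLinearGroup k M) (A : Module.End k M) :
    LinearMap.ker (conjEnd g A) = (LinearMap.ker A).map (g : Module.End k M) := by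
  ext x
  simp only [Submodule.mem_map, LinearMap.mem_ker]
  have hx : x = (g : Module.End k M) (((g⁻¹ : LinearMap.GeneralLinearGroup k M) : Module.End k M) x) := by
    rw [← Module.End.mul_apply, Units.mul_inv]; rfl
  constructor
  · intro h
    refine ⟨_, ?_, hx.symm⟩
    rw [hx, conjEnd_apply] at h
    have := congrArg ((g⁻¹ : LinearMap.GeneralLinearGroup k M) : Module.End k M) h
    rwa [← Module.End.mul_apply, Units.inv_mul, map_zero] at this
  · rintro ⟨m, hm, rfl⟩
    rw [conjEnd_apply, hm, map_zero]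

/-- `1 + S` is quadratic with scalar family in `G`. -/
structure IsRoot (G : Subgroup (LinearMap.GeneralLinearGroup k M)) (S : Module.End k M) : Prop where
  sq : S * S = 0
  ne : S ≠ 0
  fam : HasFam G S

/-- The commutator rank. -/
noncomputable def rk (S : Module.End k M) : ℕ := Module.finrank k (LinearMap.range S)

/-- A root endomorphism of minimal rank. -/
structure IsMinRoot (G : Subgroup (LinearMap.GeneralLinearGroup k M)) (S : Module.End k M) : Prop
    extends IsRoot G S where
  min : ∀ T, IsRoot G T → rk S ≤ rk T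

theorem mem_quadratic_iff {σ : LinearMap.GeneralLinearGroup k M} :
    σ ∈ quadraticElements G ↔ IsRoot G ((σ : Module.End k M) - 1) := by
  constructor
  · rintro ⟨hσ, ⟨hsq, hne⟩, hfam⟩
    refine ⟨hsq, hne, fun c => ?_⟩
    have hu : (1 + c • ((σ : Module.End k M) - 1)) * (1 - c • ((σ : Module.End k M) - 1)) = 1 ∧
        (1 - c • ((σ : Module.End k M) - 1)) * (1 + c • ((σ : Module.End k M) - 1)) = 1 := by
      generalize (σ : Module.End k M) - 1 = T at hsq ⊢
      constructor <;> simp [mul_sub, add_mul, sub_mul, mul_add, smul_mul_smul_comm, hsq]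
    exact ⟨⟨_, _, hu.1, hu.2⟩, hfam ⟨c, rfl⟩, rfl⟩
  · intro h
    refine ⟨?_, ⟨h.sq, h.ne⟩, ?_⟩
    · obtain ⟨g, hg, e⟩ := h.fam 1
      rw [one_smul, add_sub_cancel] at e
      rwa [← Units.ext e]
    · rintro τ ⟨c, hc⟩
      obtain ⟨g, hg, e⟩ := h.fam c
      show τ ∈ G
      rwa [show τ = g from Units.ext (hc.trans e.symm)]

theorem IsRoot.exists_elem (h : IsRoot G S) :
    ∃ σ ∈ quadraticElements G, (σ : Module.End k M) - 1 = S := by
  obtain ⟨g, hg, e⟩ := h.fam 1
  rw [one_smul] at e
  have : (g : Module.End k M) - 1 = S := by rw [e, add_sub_cancel_left]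
  exact ⟨g, mem_quadratic_iff.2 (this.symm ▸ h), this⟩

theorem mem_minimal_iff {σ : LinearMap.GeneralLinearGroup k M} :
    σ ∈ minimalQuadraticElements G ↔ IsMinRoot G ((σ : Module.End k M) - 1) := by
  constructor
  · rintro ⟨hσ, hmin⟩
    refine ⟨mem_quadratic_iff.1 hσ, fun T hT => ?_⟩
    obtain ⟨τ, hτ, e⟩ := hT.exists_elem
    have := hmin τ hτ
    unfold commutatorRank at this
    rw [← e]; exact this
  · intro h
    exact ⟨mem_quadratic_iff.2 h.toIsRoot, fun τ hτ => h.min _ (mem_quadratic_iff.1 hτ)⟩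

variable [FiniteDimensional k M]

theorem rk_conj (g : LinearMap.GeneralLinearGroup k M) (S : Module.End k M) :
    rk (conjEnd g S) = rk S := by
  rw [rk, rk, range_conjEnd]
  exact ((LinearMap.range S).equivMapOfInjective _
    (Module.End.isUnit_iff _ |>.1 g.isUnit).1).finrank_eq.symm

theorem IsMinRoot.conj (h : IsMinRoot G S) {g : LinearMap.GeneralLinearGroup k M} (hg : g ∈ G) :
    IsMinRoot G (conjEnd g S) :=
  ⟨⟨by rw [conjEnd_mul, h.sq, conjEnd_zero], fun e => h.ne (conjEnd_eq_zero e), h.fam.conj hg⟩,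
    fun T hT => (rk_conj g S).symm ▸ h.min T hT⟩

/-- A square-zero endomorphism with family in `G` and kernel containing that of a minimal one has the
same kernel, unless it is zero. -/
theorem IsMinRoot.ker_eq (h : IsMinRoot G S) (hN : N * N = 0) (hfam : HasFam G N)
    (hker : LinearMap.ker S ≤ LinearMap.ker N) (hne : N ≠ 0) :
    LinearMap.ker N = LinearMap.ker S ∧ rk N = rk S := by
  have h1 : rk S ≤ rk N := h.min N ⟨hN, hne, hfam⟩
  have e1 := LinearMap.finrank_range_add_finrank_ker S
  have e2 := LinearMap.finrank_range_add_finrank_ker N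
  unfold rk at h1 ⊢
  have h2 := Submodule.finrank_mono hker
  exact ⟨(Submodule.eq_of_le_of_finrank_le hker (by omega)).symm, by omega⟩

/-- The root space of `S`. -/
def rootSpace (G : Subgroup (LinearMap.GeneralLinearGroup k M)) {S : Module.End k M} (hS : S * S = 0) :
    Submodule k (Module.End k M) where
  carrier := {N | LinearMap.ker S ≤ LinearMap.ker N ∧ LinearMap.range N ≤ LinearMap.range S ∧ HasFam G N}
  zero_mem' := ⟨by simp, by simp, hasFam_zero⟩
  add_mem' := fun {A B} hA hB => by
    refine ⟨fun m hm => ?_, ?_, hA.2.2.add hB.2.2 ?_⟩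
    · simp [LinearMap.mem_ker.1 (hA.1 hm), LinearMap.mem_ker.1 (hB.1 hm)]
    · rintro _ ⟨m, rfl⟩
      exact add_mem (hA.2.1 ⟨m, rfl⟩) (hB.2.1 ⟨m, rfl⟩)
    · ext m
      obtain ⟨x, hx⟩ := hB.2.1 ⟨m, rfl⟩
      show A (B m) = 0
      rw [← hx]
      exact hA.1 (show S x ∈ LinearMap.ker S by rw [LinearMap.mem_ker, ← Module.End.mul_apply, hS]; rfl)
  smul_mem' := fun c A hA => ⟨fun m hm => by simp [LinearMap.mem_ker.1 (hA.1 hm)],
    fun x ⟨m, hm⟩ => hA.2.1 (hm ▸ ⟨c • m, by simp⟩), hA.2.2.smul c⟩

theorem mem_rootSpace_self (h : IsRoot G S) : S ∈ rootSpace G h.sq := ⟨le_rfl, le_rfl, h.fam⟩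

theorem mul_eq_zero_of_mem {hS : S * S = 0} {A B : Module.End k M} (hA : A ∈ rootSpace G hS)
    (hB : B ∈ rootSpace G hS) : A * B = 0 := by
  ext m
  obtain ⟨x, hx⟩ := hB.2.1 ⟨m, rfl⟩
  show A (B m) = 0
  rw [← hx]
  exact hA.1 (show S x ∈ LinearMap.ker S by rw [LinearMap.mem_ker, ← Module.End.mul_apply, hS]; rfl)

theorem IsMinRoot.of_mem_rootSpace (h : IsMinRoot G S) (hN : N ∈ rootSpace G h.sq) (hne : N ≠ 0) :
    IsMinRoot G N ∧ LinearMap.ker N = LinearMap.ker S ∧ LinearMap.range N = LinearMap.range S := by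
  have hsq : N * N = 0 := mul_eq_zero_of_mem hN hN
  obtain ⟨hk, hr⟩ := h.ker_eq hsq hN.2.2 hN.1 hne
  exact ⟨⟨⟨hsq, hne, hN.2.2⟩, fun T hT => hr ▸ h.min T hT⟩, hk,
    Submodule.eq_of_le_of_finrank_le hN.2.1 (le_of_eq hr.symm)⟩

theorem rootSpace_eq {hS : S * S = 0} {hT : T * T = 0} (h1 : LinearMap.ker T = LinearMap.ker S)
    (h2 : LinearMap.range T = LinearMap.range S) :
    rootSpace G hT = rootSpace G hS := by
  ext N
  show (_ ∧ _ ∧ _) ↔ (_ ∧ _ ∧ _)
  rw [h1, h2]

/-- Membership in `E(σ)`. -/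
theorem mem_sameActionSubgroup {σ : LinearMap.GeneralLinearGroup k M}
    (h : IsMinRoot G ((σ : Module.End k M) - 1)) {x : LinearMap.GeneralLinearGroup k M} :
    x ∈ sameActionSubgroup G σ ↔ (x : Module.End k M) - 1 ∈ rootSpace G h.sq := by
  set V := rootSpace G h.sq with hV
  constructor
  · intro hx
    suffices (x : Module.End k M) - 1 ∈ V ∧ ((x⁻¹ : LinearMap.GeneralLinearGroup k M) : Module.End k M) - 1 ∈ V
      from this.1
    induction hx using Subgroup.closure_induction with
    | mem y hy =>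
      obtain ⟨hy, hk, hr⟩ := hy
      have hy' := mem_minimal_iff.1 hy
      have hmem : (y : Module.End k M) - 1 ∈ V := ⟨hk.ge, hr.le, hy'.fam⟩
      refine ⟨hmem, ?_⟩
      have e : ((y⁻¹ : LinearMap.GeneralLinearGroup k M) : Module.End k M) = 1 - ((y : Module.End k M) - 1) := by
        calc ((y⁻¹ : LinearMap.GeneralLinearGroup k M) : Module.End k M)
            = ((y⁻¹ : LinearMap.GeneralLinearGroup k M) : Module.End k M) *
                ((y : Module.End k M) * (1 - ((y : Module.End k M) - 1))) := by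
              rw [show (y : Module.End k M) * (1 - ((y : Module.End k M) - 1)) =
                (1 + ((y : Module.End k M) - 1)) * (1 - ((y : Module.End k M) - 1)) by rw [add_sub_cancel],
                add_mul, one_mul, mul_sub, mul_one, hy'.sq, sub_zero, sub_add_cancel, mul_one]
          _ = 1 - ((y : Module.End k M) - 1) := by rw [← mul_assoc, Units.inv_mul, one_mul]
      rw [e, show 1 - ((y : Module.End k M) - 1) - 1 = -((y : Module.End k M) - 1) by abel]
      exact neg_mem hmem
    | one => simp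
    | mul a b _ _ ha hb =>
      have key : ∀ A B : Module.End k M, A - 1 ∈ V → B - 1 ∈ V → A * B - 1 ∈ V := by
        intro A B hA hB
        have := mul_eq_zero_of_mem hA hB
        rw [show A * B - 1 = (A - 1) + (B - 1) + (A - 1) * (B - 1) by noncomm_ring, this, add_zero]
        exact add_mem hA hB
      refine ⟨?_, ?_⟩
      · rw [Units.val_mul]; exact key _ _ ha.1 hb.1
      · rw [mul_inv_rev, Units.val_mul]; exact key _ _ hb.2 ha.2
    | inv a _ ha => exact ⟨ha.2, by rw [inv_inv]; exact ha.1⟩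
  · intro hx
    by_cases h0 : (x : Module.End k M) - 1 = 0
    · have : x = 1 := Units.ext (sub_eq_zero.1 h0)
      rw [this]; exact one_mem _
    · obtain ⟨hm, hk, hr⟩ := h.of_mem_rootSpace hx h0
      exact Subgroup.subset_closure ⟨mem_minimal_iff.2 hm, hk, hr⟩

theorem sameActionSubgroup_le {σ : LinearMap.GeneralLinearGroup k M}
    (h : IsMinRoot G ((σ : Module.End k M) - 1)) : sameActionSubgroup G σ ≤ G := by
  intro x hx
  obtain ⟨g, hg, e⟩ := ((mem_sameActionSubgroup h).1 hx).2.2 1
  rw [one_smul, add_sub_cancel] at e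
  rwa [← Units.ext e]

theorem exists_mem_of_rootSpace {σ : LinearMap.GeneralLinearGroup k M}
    (h : IsMinRoot G ((σ : Module.End k M) - 1)) {N : Module.End k M} (hN : N ∈ rootSpace G h.sq) :
    ∃ x ∈ sameActionSubgroup G σ, (x : Module.End k M) = 1 + N := by
  obtain ⟨g, -, e⟩ := hN.2.2 1
  rw [one_smul] at e
  refine ⟨g, (mem_sameActionSubgroup h).2 ?_, e⟩
  rwa [e, add_sub_cancel_left]

theorem isMulCommutative_sameAction {σ : LinearMap.GeneralLinearGroup k M}
    (h : IsMinRoot G ((σ : Module.End k M) - 1)) : IsMulCommutative ↥(sameActionSubgroup G σ) := by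
  refine ⟨⟨fun a b => Subtype.ext (Units.ext ?_)⟩⟩
  have ha := (mem_sameActionSubgroup h).1 a.2
  have hb := (mem_sameActionSubgroup h).1 b.2
  have e1 := mul_eq_zero_of_mem ha hb
  have e2 := mul_eq_zero_of_mem hb ha
  simp only [Subgroup.coe_mul, Units.val_mul]
  rw [mul_sub, mul_one, sub_mul, one_mul] at e1 e2
  linear_combination (norm := abel) e1 - e2

theorem sameActionSubgroup_conj {σ g : LinearMap.GeneralLinearGroup k M}
    (h : IsMinRoot G ((σ : Module.End k M) - 1)) (hg : g ∈ G) :
    conjBy (sameActionSubgroup G σ) g = sameActionSubgroup G (g * σ * g⁻¹) := by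
  have he : ((g * σ * g⁻¹ : LinearMap.GeneralLinearGroup k M) : Module.End k M) - 1 =
      conjEnd g ((σ : Module.End k M) - 1) := by
    rw [conj_one_add g σ (N := (σ : Module.End k M) - 1) (c := 1) (by rw [one_smul, add_sub_cancel]),
      one_smul, add_sub_cancel_left]
  have h' : IsMinRoot G (((g * σ * g⁻¹ : LinearMap.GeneralLinearGroup k M) : Module.End k M) - 1) :=
    he ▸ h.conj hg
  ext x
  rw [mem_sameActionSubgroup h']
  constructor
  · rintro ⟨y, hy, rfl⟩
    obtain ⟨hk, hr, hf⟩ := (mem_sameActionSubgroup h).1 hy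
    show ((g * y * g⁻¹ : LinearMap.GeneralLinearGroup k M) : Module.End k M) - 1 ∈ _
    rw [conj_one_add g y (N := (y : Module.End k M) - 1) (c := 1) (by rw [one_smul, add_sub_cancel]),
      one_smul, add_sub_cancel_left]
    refine ⟨?_, ?_, hf.conj hg⟩
    · rw [he, ker_conjEnd, ker_conjEnd]; exact Submodule.map_mono hk
    · rw [he, range_conjEnd, range_conjEnd]; exact Submodule.map_mono hr
  · intro hx
    refine ⟨g⁻¹ * x * g, (mem_sameActionSubgroup h).2 ?_, by
      simp only [MulEquiv.coe_toMonoidHom, MulAut.conj_apply]; group⟩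
    have e2 : ((g⁻¹ * x * g : LinearMap.GeneralLinearGroup k M) : Module.End k M) - 1 =
        conjEnd g⁻¹ ((x : Module.End k M) - 1) := by
      have := conj_one_add g⁻¹ x (N := (x : Module.End k M) - 1) (c := 1) (by rw [one_smul, add_sub_cancel])
      rw [inv_inv] at this
      rw [this, one_smul, add_sub_cancel_left]
    rw [e2]
    obtain ⟨hk, hr, hf⟩ := hx
    have hS : (σ : Module.End k M) - 1 = conjEnd g⁻¹ (((g * σ * g⁻¹ : LinearMap.GeneralLinearGroup k M) : Module.End k M) - 1) := by
      rw [he, conjEnd_conjEnd, inv_mul_cancel, conjEnd_one]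
    refine ⟨?_, ?_, hf.conj (inv_mem hg)⟩
    · rw [hS, ker_conjEnd, ker_conjEnd]; exact Submodule.map_mono hk
    · rw [hS, range_conjEnd, range_conjEnd]; exact Submodule.map_mono hr

theorem sameActionSubgroup_eq {σ τ : LinearMap.GeneralLinearGroup k M}
    (hσ : IsMinRoot G ((σ : Module.End k M) - 1)) (hτ : IsMinRoot G ((τ : Module.End k M) - 1))
    (hk : LinearMap.ker ((τ : Module.End k M) - 1) = LinearMap.ker ((σ : Module.End k M) - 1))
    (hr : LinearMap.range ((τ : Module.End k M) - 1) = LinearMap.range ((σ : Module.End k M) - 1)) :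
    sameActionSubgroup G τ = sameActionSubgroup G σ := by
  ext x
  rw [mem_sameActionSubgroup hτ, mem_sameActionSubgroup hσ, rootSpace_eq hk hr]

end CfsgLib.QP
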