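import Cfsg.Agent.QuadPairs.Corner
import Cfsg.Agent.QuadPairs.Root

set_option autoImplicit false
set_option linter.unusedSectionVars false

/-!
The dichotomy for a pair of root endomorphisms and the algebra of an opposite pair.
-/

universe u v

namespace CfsgLib.QP

open Cfsg Polynomial

section Words

variable {k : Type u} [Field k] {R : Type v} [Ring R] [Algebra k R] {S T : R}

theorem conj_step (hS : S * S = 0) (hT : T * T = 0) (h5 : S * (T * (S * (T * S))) = 0) (t : k) :
    (1 + S) * (1 + t • T) * (1 - S) * (1 - t • T) * S * ((1 + t • T) * (1 + S) * (1 - t • T) * (1 - S)) =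
      S + (2 * t) • (S * (T * S)) + (t * t) • (T * (S * (T * S)) - S * (T * (S * T))) := by
  have eS : ∀ w, S * (S * w) = 0 := fun w => by rw [← mul_assoc, hS, zero_mul]
  have eT : ∀ w, T * (T * w) = 0 := fun w => by rw [← mul_assoc, hT, zero_mul]
  have e5 : ∀ w, S * (T * (S * (T * (S * w)))) = 0 := fun w => by
    simpa only [mul_assoc, zero_mul] using congrArg (· * w) h5
  simp only [mul_add, add_mul, mul_sub, sub_mul, smul_mul_assoc, mul_smul_comm, smul_smul, mul_assoc,
    one_mul, mul_one, hS, hT, h5, eS, eT, e5, smul_zero, mul_zero, zero_mul, add_zero, zero_add, sub_zero,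
    zero_sub, neg_zero, smul_add, smul_sub]
  module

theorem conj_anticomm (hS : S * S = 0) (hT : T * T = 0) :
    S * ((1 + T) * S * (1 - T)) + (1 + T) * S * (1 - T) * S =
      -((S * T + T * S) * (S * T + T * S)) := by
  have eS : ∀ w, S * (S * w) = 0 := fun w => by rw [← mul_assoc, hS, zero_mul]
  have eT : ∀ w, T * (T * w) = 0 := fun w => by rw [← mul_assoc, hT, zero_mul]
  simp only [mul_add, add_mul, mul_sub, sub_mul, mul_assoc, one_mul, mul_one, hS, hT, eS, eT, mul_zero,
    zero_mul, add_zero, zero_add, sub_zero, zero_sub, neg_zero, neg_add_rev]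
  abel

theorem aeval_mul_sq (hS : S * S = 0) (p : k[X]) :
    (aeval (S * T + T * S) p * S) * (aeval (S * T + T * S) p * S) = 0 := by
  rw [mul_assoc, ← mul_assoc S, ← (commute_aeval (commute_z_S hS) p).eq, mul_assoc _ S, hS, mul_zero,
    mul_zero]

theorem z_mul_S (hS : S * S = 0) : (S * T + T * S) * S = S * T * S := by
  rw [add_mul, mul_assoc T, hS, mul_zero, add_zero]

end Words

variable {k : Type u} [Field k] {M : Type v} [AddCommGroup M] [Module k M]
  {G : Subgroup (LinearMap.GeneralLinearGroup k M)} {S T : Module.End k M}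

theorem fam_mem (h : HasFam G S) (hS : S * S = 0) (c : k) : fam hS c ∈ G := by
  obtain ⟨g, hg, e⟩ := h c
  rwa [show fam hS c = g from Units.ext ((fam_val hS c).trans e.symm)]

theorem pairGrp_le (hS : S * S = 0) (hT : T * T = 0) (hfS : HasFam G S) (hfT : HasFam G T) :
    pairGrp (k := k) hS hT ≤ G := by
  rw [pairGrp, Subgroup.closure_le]
  rintro _ (⟨c, rfl⟩ | ⟨c, rfl⟩)
  · exact fam_mem hfS hS c
  · exact fam_mem hfT hT c

theorem scalarFamily_eq {σ : LinearMap.GeneralLinearGroup k M}
    (h : ((σ : Module.End k M) - 1) * ((σ : Module.End k M) - 1) = 0) :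
    scalarFamily σ = Set.range (fam (k := k) h) := by
  ext τ
  constructor
  · rintro ⟨c, hc⟩
    exact ⟨c, Units.ext ((fam_val h c).trans hc.symm)⟩
  · rintro ⟨c, rfl⟩
    exact ⟨c, fam_val h c⟩

variable [FiniteDimensional k M]

theorem IsMinRoot.injective_of_ne (hS : IsMinRoot G S) {N : Module.End k M} (hfam : HasFam G (N * S))
    (hsq : (N * S) * (N * S) = 0) (hne : N * S ≠ 0) :
    LinearMap.ker (N * S) = LinearMap.ker S :=
  (hS.ker_eq hsq hfam (fun m hm => by
    rw [LinearMap.mem_ker] at hm ⊢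
    rw [Module.End.mul_apply, hm, map_zero]) hne).1

theorem step_one (hS : IsMinRoot G S) (h2 : (2 : k) ≠ 0) (hT : T * T = 0) (hfT : HasFam G T)
    (h5 : S * (T * (S * (T * S))) = 0) : S * T * S = 0 := by
  obtain ⟨A, hA⟩ : ∃ A, A = S * (T * S) := ⟨_, rfl⟩
  obtain ⟨Q, hQ⟩ : ∃ Q, Q = T * (S * (T * S)) - S * (T * (S * T)) := ⟨_, rfl⟩
  have eS : ∀ w, S * (S * w) = 0 := fun w => by rw [← mul_assoc, hS.sq, zero_mul]
  have eT : ∀ w, T * (T * w) = 0 := fun w => by rw [← mul_assoc, hT, zero_mul]
  have e5 : ∀ w, S * (T * (S * (T * (S * w)))) = 0 := fun w => by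
    simpa only [mul_assoc, zero_mul] using congrArg (· * w) h5
  have hfamA : HasFam G (S * (T * S)) := by
    intro c
    have key : ∀ t r : k, ∃ g ∈ G, (g : Module.End k M) = 1 + r • ((2 * t) • A + (t * t) • Q) := by
      intro t r
      have hw := mul_mem (mul_mem (mul_mem (fam_mem hS.fam hS.sq 1) (fam_mem hfT hT t))
        (inv_mem (fam_mem hS.fam hS.sq 1))) (inv_mem (fam_mem hfT hT t))
      set w := fam hS.sq (1 : k) * fam hT t * (fam hS.sq (1 : k))⁻¹ * (fam hT t)⁻¹ with hwdef
      refine ⟨w * fam hS.sq r * w⁻¹ * (fam hS.sq r)⁻¹,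
        mul_mem (mul_mem (mul_mem hw (fam_mem hS.fam hS.sq r)) (inv_mem hw)) (inv_mem (fam_mem hS.fam hS.sq r)), ?_⟩
      have hW : (w : Module.End k M) = (1 + S) * (1 + t • T) * (1 - S) * (1 - t • T) := by
        rw [hwdef]
        simp only [Units.val_mul, fam_val, fam_inv_val, one_smul]
      have hW' : ((w⁻¹ : (Module.End k M)ˣ) : Module.End k M) = (1 + t • T) * (1 + S) * (1 - t • T) * (1 - S) := by
        rw [hwdef]
        simp only [_root_.mul_inv_rev, inv_inv, Units.val_mul, fam_val, fam_inv_val, one_smul, mul_assoc]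
      have e1 : (w : Module.End k M) * (1 + r • S) * ((w⁻¹ : (Module.End k M)ˣ) : Module.End k M) =
          1 + r • (S + (2 * t) • A + (t * t) • Q) := by
        rw [mul_add, mul_one, add_mul, Units.mul_inv, mul_smul_comm, smul_mul_assoc, hW, hW', hA, hQ,
          conj_step hS.sq hT h5]
      rw [Units.val_mul, Units.val_mul, Units.val_mul, fam_val, fam_inv_val, e1, hA, hQ]
      simp only [mul_add, add_mul, mul_sub, sub_mul, smul_mul_assoc, mul_smul_comm, smul_smul, mul_assoc,
        one_mul, mul_one, hS.sq, h5, eS, smul_zero, mul_zero, add_zero, zero_add, sub_zero, smul_add,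
        smul_sub]
      module
    obtain ⟨g₁, hg₁, e₁⟩ := key 1 (c / 4)
    obtain ⟨g₂, hg₂, e₂⟩ := key (-1) (-(c / 4))
    refine ⟨g₁ * g₂, mul_mem hg₁ hg₂, ?_⟩
    rw [Units.val_mul, e₁, e₂, hA, hQ]
    have h4 : (4 : k) ≠ 0 := by
      have : (4 : k) = 2 * 2 := by norm_num
      rw [this]; exact mul_ne_zero h2 h2
    simp only [mul_add, add_mul, mul_sub, sub_mul, smul_mul_assoc, mul_smul_comm, smul_smul, mul_assoc,
      one_mul, mul_one, hS.sq, hT, h5, eS, eT, e5, smul_zero, mul_zero, add_zero, zero_add, sub_zero,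
      smul_add, smul_sub]
    match_scalars <;> field_simp <;> ring
  by_contra hne
  rw [mul_assoc] at hne
  have hsq : (S * (T * S)) * (S * (T * S)) = 0 := by simp only [mul_assoc, eS, mul_zero]
  have hk := (hS.ker_eq hsq hfamA (fun m hm => by
    rw [LinearMap.mem_ker] at hm ⊢
    simp [Module.End.mul_apply, hm]) hne).1
  apply hne
  ext m
  show S ((T * S) m) = 0
  rw [← LinearMap.mem_ker, ← hk, LinearMap.mem_ker, ← Module.End.mul_apply]
  have : S * (T * S) * (T * S) = 0 := by simp only [mul_assoc, h5]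
  rw [this]
  rfl

theorem not_nilpotent_index (hS : IsMinRoot G S) (h2 : (2 : k) ≠ 0) :
    ∀ (m : ℕ) (T : Module.End k M), T * T = 0 → HasFam G T →
      (S * T + T * S) ^ m * S ≠ 0 → (S * T + T * S) ^ (m + 1) * S = 0 → m = 0 := by
  intro m
  induction m using Nat.strong_induction_on with
  | _ m ih =>
  intro T hT hfT hm hm1
  rcases Nat.lt_or_ge m 2 with hlt | hge
  · by_contra h0
    obtain rfl : m = 1 := by omega
    have hz2 : (S * T + T * S) ^ 2 * S = S * (T * (S * (T * S))) := by
      rw [sq, mul_assoc, z_mul_S hS.sq, ← mul_assoc, ← mul_assoc, z_mul_S hS.sq]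
      simp only [mul_assoc]
    rw [hz2] at hm1
    rw [pow_one, z_mul_S hS.sq] at hm
    exact hm (step_one hS h2 hT hfT hm1)
  · exfalso
    set g := fam hT (1 : k)
    set T' := conjEnd g S with hT'
    have hT'' : T' = (1 + T) * S * (1 - T) := by
      rw [hT', conjEnd, fam_val, fam_inv_val, one_smul]
    have hsq : T' * T' = 0 := by rw [hT', conjEnd_mul, hS.sq, conjEnd_zero]
    have hz : S * T' + T' * S = -((S * T + T * S) * (S * T + T * S)) := hT'' ▸ conj_anticomm hS.sq hT
    have hpow : ∀ i, (S * T' + T' * S) ^ i * S = (-1 : Module.End k M) ^ i * ((S * T + T * S) ^ (2 * i) * S) := by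
      intro i
      rw [hz, neg_pow, pow_mul, sq, mul_assoc]
    have hzero : ∀ j, m + 1 ≤ j → (S * T + T * S) ^ j * S = 0 := fun j hj => by
      obtain ⟨d, rfl⟩ : ∃ d, j = d + (m + 1) := ⟨j - (m + 1), by omega⟩
      rw [pow_add, mul_assoc, hm1, mul_zero]
    have h1 : (S * T' + T' * S) ^ (m / 2) * S ≠ 0 := by
      rw [hpow]
      intro e
      have hu : IsUnit ((-1 : Module.End k M) ^ (m / 2)) := (isUnit_one.neg).pow _
      have e' := hu.mul_right_eq_zero.1 e
      apply hm
      have hd : m = (m - 2 * (m / 2)) + 2 * (m / 2) := by omega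
      rw [hd, pow_add, mul_assoc, e', mul_zero]
    have h2' : (S * T' + T' * S) ^ (m / 2 + 1) * S = 0 := by
      rw [hpow, hzero _ (by omega), mul_zero]
    have := ih (m / 2) (Nat.div_lt_self (by omega) one_lt_two) T' hsq
      (hS.fam.conj (fam_mem hfT hT 1)) h1 h2'
    omega

/-- The dichotomy for a minimal root endomorphism and any root endomorphism. -/
theorem pair_dichotomy (hS : IsMinRoot G S) (h2 : (2 : k) ≠ 0) (h3 : Nat.card k ≠ 3) (hT : T * T = 0)
    (hfT : HasFam G T) :
    S * T * S = 0 ∨ ((S * T * S ≠ 0 ∧ LinearMap.ker (S * T * S) = LinearMap.ker S) ∧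
      ∀ p : k[X], aeval (S * T + T * S) p * S = 0 ∨
        LinearMap.ker (aeval (S * T + T * S) p * S) = LinearMap.ker S) := by
  classical
  obtain ⟨N, hN, hmem⟩ := exists_mem_pairGrp h2 h3 hS.sq hT
  set z := S * T + T * S with hz
  have hfam : ∀ r : k[X], HasFam G (aeval z (r * X ^ N) * S) := by
    intro r c
    obtain ⟨g, hg, e⟩ := hmem (C c * r)
    refine ⟨g, pairGrp_le hS.sq hT hS.fam hfT hg, ?_⟩
    rw [e, mul_assoc (C c), map_mul, aeval_C, mul_assoc, ← Algebra.smul_def]
  by_cases hzN : z ^ N * S = 0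
  · left
    have hex : ∃ m, z ^ (m + 1) * S = 0 := ⟨N, by rw [pow_succ', mul_assoc, hzN, mul_zero]⟩
    have hm : z ^ Nat.find hex * S ≠ 0 := by
      rcases h : Nat.find hex with _ | n
      · rw [pow_zero, one_mul]; exact hS.ne
      · exact Nat.find_min hex (show n < Nat.find hex by omega)
    have h0 := not_nilpotent_index hS h2 _ T hT hfT hm (Nat.find_spec hex)
    have h1 := Nat.find_spec hex
    rw [h0, zero_add, pow_one, z_mul_S hS.sq] at h1
    exact h1
  · right
    have hall : ∀ p : k[X], aeval z p * S = 0 ∨ LinearMap.ker (aeval z p * S) = LinearMap.ker S := by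
      intro p
      by_cases h : aeval z (p * X ^ N) * S = 0
      · left
        have hk := hS.injective_of_ne (by simpa using hfam 1)
          (by simpa using aeval_mul_sq (T := T) hS.sq (X ^ N : k[X])) hzN
        ext m
        show (aeval z p) (S m) = 0
        have hm : (aeval z p * S) m = S ((aeval z p) m) := by
          rw [(commute_aeval (commute_z_S hS.sq) p).eq]; rfl
        rw [← Module.End.mul_apply, hm]
        refine LinearMap.mem_ker.1 (hk ▸ LinearMap.mem_ker.2 ?_)
        show (z ^ N * S) ((aeval z p) m) = 0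
        rw [← Module.End.mul_apply, mul_assoc, ← (commute_aeval (commute_z_S hS.sq) p).eq, ← mul_assoc]
        have : z ^ N * aeval z p * S = 0 := by
          rw [show z ^ N = aeval z (X ^ N : k[X]) by simp, ← map_mul, mul_comm, h]
        rw [this]; rfl
      · right
        have hk := hS.injective_of_ne (hfam p) (aeval_mul_sq hS.sq _) h
        refine le_antisymm ?_ ?_
        · intro m hm
          rw [← hk, LinearMap.mem_ker, mul_comm p, map_mul, mul_assoc, Module.End.mul_apply,
            LinearMap.mem_ker.1 hm, map_zero]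
        · intro m hm
          rw [LinearMap.mem_ker] at hm ⊢
          rw [Module.End.mul_apply, hm, map_zero]
    have hne : S * T * S ≠ 0 := by
      rw [← z_mul_S hS.sq, ← hz]
      intro e
      apply hzN
      obtain ⟨n, rfl⟩ : ∃ n, N = n + 1 := ⟨N - 1, by omega⟩
      rw [pow_succ, mul_assoc, e, mul_zero]
    refine ⟨⟨hne, ?_⟩, hall⟩
    have hX := hall X
    rw [aeval_X, z_mul_S hS.sq] at hX
    exact hX.resolve_left hne

theorem opposite_symm (hS : IsMinRoot G S) (hT : IsMinRoot G T) (h2 : (2 : k) ≠ 0) (h3 : Nat.card k ≠ 3)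
    (h : S * T * S ≠ 0) : T * S * T ≠ 0 := by
  intro e
  obtain ⟨⟨-, hk⟩, -⟩ := (pair_dichotomy hS h2 h3 hT.sq hT.fam).resolve_left h
  apply h
  ext m
  show S ((T * S) m) = 0
  rw [← LinearMap.mem_ker, ← hk, LinearMap.mem_ker, ← Module.End.mul_apply]
  have : S * T * S * (T * S) = S * (T * S * T) * S := by simp only [mul_assoc]
  rw [this, e, mul_zero, zero_mul]
  rfl

/-- The corner field of an opposite pair. -/
theorem exists_corner_field (hS : IsMinRoot G S) (hT : IsMinRoot G T) (h2 : (2 : k) ≠ 0)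
    (h3 : Nat.card k ≠ 3) (h : S * T * S ≠ 0) :
    ∃ (K : Type u) (_ : Field K) (_ : Algebra k K) (_ : FiniteDimensional k K) (D : CornerData k K S T),
      Algebra.adjoin k {D.α} = ⊤ ∧ D.ι 1 * S = S ∧ D.ι 1 * T = T ∧
      (∀ a, D.ι a * S = 0 → a = 0) ∧ (∀ a, D.ι a * T = 0 → a = 0) ∧
      ∃ w : Module.End k M, D.ι 1 = (S * T + T * S) * w := by
  classical
  obtain ⟨⟨-, hkz⟩, hall⟩ := (pair_dichotomy hS h2 h3 hT.sq hT.fam).resolve_left h
  obtain ⟨⟨-, hkzT⟩, -⟩ := (pair_dichotomy hT h2 h3 hS.sq hS.fam).resolve_left (opposite_symm hS hT h2 h3 h)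
  set z := S * T + T * S with hz
  have hzS : z * S = S * T * S := z_mul_S hS.sq
  have hzT : z * T = T * S * T := by rw [hz, add_comm]; exact z_mul_S hT.sq
  let I : Ideal k[X] :=
    { carrier := {p | aeval z p * S = 0}
      zero_mem' := by simp
      add_mem' := fun {a b} ha hb => by
        show aeval z (a + b) * S = 0
        rw [map_add, add_mul, ha, hb, add_zero]
      smul_mem' := fun a b hb => by
        show aeval z (a * b) * S = 0
        rw [map_mul, mul_assoc, hb, mul_zero] }
  have hmemI : ∀ p, p ∈ I ↔ aeval z p * S = 0 := fun p => Iff.rfl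
  have hI1 : I ≠ ⊤ := fun e => hS.ne (by
    have := (hmemI 1).1 (e ▸ Submodule.mem_top)
    rwa [map_one, one_mul] at this)
  have hprime : I.IsPrime := by
    refine ⟨hI1, fun {a b} hab => ?_⟩
    rcases hall a with ha | ha
    · exact Or.inl ha
    refine Or.inr ?_
    ext m
    show (aeval z b) (S m) = 0
    have hb : (aeval z b * S) m = S ((aeval z b) m) := by
      rw [(commute_aeval (commute_z_S hS.sq) b).eq]; rfl
    rw [← Module.End.mul_apply, hb]
    refine LinearMap.mem_ker.1 (ha ▸ LinearMap.mem_ker.2 ?_)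
    rw [← Module.End.mul_apply, mul_assoc, ← (commute_aeval (commute_z_S hS.sq) b).eq, ← mul_assoc, ← map_mul,
      (hmemI _).1 hab]
    rfl
  have hI0 : I ≠ ⊥ := by
    intro e
    have hint : IsIntegral k z := Algebra.IsIntegral.isIntegral z
    have : minpoly k z ∈ I := by rw [hmemI, minpoly.aeval, zero_mul]
    rw [e, Submodule.mem_bot] at this
    exact minpoly.ne_zero hint this
  have hmax : I.IsMaximal := hprime.isMaximal hI0
  -- the same polynomials kill `T`
  have hIT : ∀ p ∈ I, aeval z p * T = 0 := by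
    intro p hp
    have e0 : z * (aeval z p * T) = 0 := by
      rw [← mul_assoc, show z * aeval z p = aeval z p * z from (commute_aeval (Commute.refl z) p).eq.symm,
        mul_assoc, hzT, ← mul_assoc, ← mul_assoc, (commute_aeval (commute_z_T hT.sq) p).eq, mul_assoc T,
        (hmemI p).1 hp, mul_zero, zero_mul]
    ext m
    show (aeval z p) (T m) = 0
    have hb : (aeval z p * T) m = T ((aeval z p) m) := by
      rw [(commute_aeval (commute_z_T hT.sq) p).eq]; rfl
    rw [← Module.End.mul_apply, hb]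
    refine LinearMap.mem_ker.1 (hkzT ▸ LinearMap.mem_ker.2 ?_)
    rw [← hzT, ← Module.End.mul_apply, mul_assoc, ← (commute_aeval (commute_z_T hT.sq) p).eq, e0]
    rfl
  have hX : (X : k[X]) ∉ I := fun e => h (by rw [← hzS]; have := (hmemI _).1 e; rwa [aeval_X] at this)
  obtain ⟨p, q, hqI, hpq⟩ := hmax.exists_inv hX
  set e := aeval z p * z with he
  have hes : ∀ V : Module.End k M, aeval z q * V = 0 → e * V = V := by
    intro V hV
    have := congrArg (fun w => aeval z w * V) hpq
    simp only [map_add, map_mul, aeval_X, map_one, add_mul, one_mul, hV, add_zero] at this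
    exact this
  have heS : e * S = S := hes S ((hmemI q).1 hqI)
  have heT : e * T = T := hes T (hIT q hqI)
  have hkill : ∀ w ∈ I, aeval z w * e = 0 := by
    intro w hw
    rw [he, ← mul_assoc, ← map_mul, mul_comm w p, map_mul, mul_assoc, hz, mul_add, ← mul_assoc, ← mul_assoc,
      (hmemI w).1 hw, hIT w hw, zero_mul, zero_mul, add_zero, mul_zero]
  have hee : e * e = e := by
    have hqe := hkill q hqI
    exact hes e hqe
  let mk := Ideal.Quotient.mk I
  have hmk : Function.Surjective mk := Ideal.Quotient.mk_surjective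
  obtain ⟨ι, hι⟩ : ∃ ι : (k[X] ⧸ I) → Module.End k M, ∀ w, ι (mk w) = aeval z w * e := by
    refine ⟨fun a => aeval z (Function.surjInv hmk a) * e, fun w => ?_⟩
    have hd : Function.surjInv hmk (mk w) - w ∈ I := Ideal.Quotient.eq.1 (Function.surjInv_eq hmk (mk w))
    show aeval z _ * e = _
    rw [← sub_eq_zero, ← sub_mul, ← map_sub, hkill _ hd]
  have hι1 : ι 1 = e := by rw [← map_one mk, hι, map_one, one_mul]
  let _ : Field (k[X] ⧸ I) := Ideal.Quotient.field I
  have hce : ∀ w : k[X], Commute (aeval z w) e := by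
    intro w
    rw [he, show aeval z p * z = aeval z (p * X) by rw [map_mul, aeval_X]]
    exact Commute.map (Commute.all _ _) (aeval z : k[X] →ₐ[k] Module.End k M)
  let D : CornerData k (k[X] ⧸ I) S T :=
    { ι := ι
      α := mk X
      β := mk p
      hS := hS.sq
      hT := hT.sq
      map_add := fun a b => by
        obtain ⟨u, rfl⟩ := hmk a
        obtain ⟨w, rfl⟩ := hmk b
        rw [← map_add, hι, hι, hι, map_add, add_mul]
      map_mul := fun a b => by
        obtain ⟨u, rfl⟩ := hmk a
        obtain ⟨w, rfl⟩ := hmk b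
        rw [← map_mul, hι, hι, hι, map_mul, mul_assoc (aeval z u) e, ← mul_assoc e, ← (hce w).eq,
          mul_assoc (aeval z w) e, hee, mul_assoc]
      comm := fun a => by
        obtain ⟨u, rfl⟩ := hmk a
        rw [hι, he, show aeval z p * z = aeval z (p * X) by rw [map_mul, aeval_X], ← map_mul]
        exact ⟨commute_aeval (commute_z_S hS.sq) _, commute_aeval (commute_z_T hT.sq) _⟩
      mul_z := fun a => by
        obtain ⟨u, rfl⟩ := hmk a
        show _ * z = ι (mk u * mk X)
        have hc := hce X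
        rw [aeval_X] at hc
        rw [← map_mul, hι, hι, map_mul, aeval_X, mul_assoc, ← hc.eq, mul_assoc]
      αβ := by
        show mk X * mk p = 1
        rw [← map_mul, ← map_one mk, Ideal.Quotient.eq, show X * p - 1 = -q by linear_combination hpq]
        exact neg_mem hqI
      map_alg := fun c => by
        show ι (mk (C c)) = _
        rw [hι, hι1, aeval_C, ← Algebra.smul_def] }
  have hfin : FiniteDimensional k (k[X] ⧸ I) := by
    have hint : IsIntegral k z := Algebra.IsIntegral.isIntegral z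
    have hm := minpoly.ne_zero hint
    have h1 : Ideal.span {minpoly k z} ≤ I := by
      rw [Ideal.span_singleton_le_iff_mem, hmemI, minpoly.aeval, zero_mul]
    have : Module.Finite k (k[X] ⧸ Ideal.span {minpoly k z}) := (AdjoinRoot.powerBasis hm).finite
    exact Module.Finite.of_surjective (Ideal.Quotient.factorₐ k h1).toLinearMap
      (Ideal.Quotient.factor_surjective h1)
  refine ⟨k[X] ⧸ I, inferInstance, inferInstance, hfin, D, ?_, ?_, ?_, ?_, ?_, ⟨aeval z p, ?_⟩⟩
  · show Algebra.adjoin k {(Ideal.Quotient.mkₐ k I) X} = ⊤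
    rw [← Set.image_singleton, ← AlgHom.map_adjoin, Polynomial.adjoin_X, Algebra.map_top, AlgHom.range_eq_top]
    exact Ideal.Quotient.mkₐ_surjective k I
  · show ι 1 * S = S
    rw [hι1, heS]
  · show ι 1 * T = T
    rw [hι1, heT]
  · intro a ha
    obtain ⟨w, rfl⟩ := hmk a
    have ha' : ι (mk w) * S = 0 := ha
    rw [hι, mul_assoc, heS] at ha'
    exact Ideal.Quotient.eq_zero_iff_mem.2 ha'
  · intro a ha
    obtain ⟨w, rfl⟩ := hmk a
    have ha' : ι (mk w) * T = 0 := ha
    rw [hι, mul_assoc, heT] at ha'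
    by_contra hw
    obtain ⟨p', q', hq', hpq'⟩ := hmax.exists_inv (fun hm => hw (Ideal.Quotient.eq_zero_iff_mem.2 hm))
    have := congrArg (fun x => aeval z x * T) hpq'
    simp only [map_add, map_mul, map_one, add_mul, one_mul, mul_assoc, ha', mul_zero, hIT q' hq', add_zero] at this
    exact hT.ne this.symm
  · show ι 1 = z * aeval z p
    rw [hι1, he]
    have hc : Commute (aeval z p) (aeval z (X : k[X])) := Commute.map (Commute.all _ _) (aeval z : k[X] →ₐ[k] Module.End k M)
    rw [aeval_X] at hc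
    exact hc.eq

/-- The pair group is the image of `SL₂` over the corner field. -/
theorem pairGrp_eq_range {K : Type u} [Field K] [Algebra k K] [FiniteDimensional k K]
    (D : CornerData k K S T) (h2 : (2 : k) ≠ 0) (h3 : Nat.card k ≠ 3) (hadj : Algebra.adjoin k {D.α} = ⊤)
    (heS : D.ι 1 * S = S) (heT : D.ι 1 * T = T) :
    pairGrp (k := k) D.hS D.hT = D.homU.range := by
  classical
  have hα : IsUnit D.α := IsUnit.of_mul_eq_one D.β D.αβ
  have hfull := gen_contains h2 h3 hα hadj
  have htop : gen k D.α = ⊤ := by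
    rw [eq_top_iff, ← CfsgLib.SL2Pair.sup_eq_top]
    refine sup_le (fun x hx => ?_) (fun x hx => ?_)
    · obtain ⟨c, rfl⟩ := CfsgLib.SL2Pair.mem_lower.1 hx
      exact (hfull c).2
    · obtain ⟨c, rfl⟩ := CfsgLib.SL2Pair.mem_upper.1 hx
      exact (hfull c).1
  rw [MonoidHom.range_eq_map, ← htop, gen, MonoidHom.map_closure, pairGrp]
  congr 1
  ext g
  simp only [Set.image_union, Set.mem_union, Set.mem_range, Set.mem_image, Set.mem_ofPred_eq]
  refine or_congr ⟨?_, ?_⟩ ⟨?_, ?_⟩
  · rintro ⟨c, rfl⟩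
    exact ⟨_, ⟨c, rfl⟩, Units.ext (by rw [D.homU_up_alg, heS, fam_val])⟩
  · rintro ⟨_, ⟨c, rfl⟩, rfl⟩
    exact ⟨c, Units.ext (by rw [D.homU_up_alg, heS, fam_val])⟩
  · rintro ⟨c, rfl⟩
    exact ⟨_, ⟨c, rfl⟩, Units.ext (by rw [D.homU_low_alg, heT, fam_val])⟩
  · rintro ⟨_, ⟨c, rfl⟩, rfl⟩
    exact ⟨c, Units.ext (by rw [D.homU_low_alg, heT, fam_val])⟩

theorem homU_injective {K : Type u} [Field K] [Algebra k K]
    (D : CornerData k K S T) (heS : D.ι 1 * S = S) (heT : D.ι 1 * T = T)
    (hkS : ∀ a, D.ι a * S = 0 → a = 0) (hkT : ∀ a, D.ι a * T = 0 → a = 0) : Function.Injective D.homU := by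
  rw [injective_iff_map_eq_one]
  intro g hg
  have hg' : (1 - D.ι 1) + D.Φ g.1 = 1 := by rw [← D.homU_val, hg]; rfl
  have hΦ : D.Φ g.1 = D.ι 1 := by linear_combination (norm := abel) hg'
  have eS : ∀ w, S * (S * w) = 0 := fun w => by rw [← mul_assoc, D.hS, zero_mul]
  have eT : ∀ w, T * (T * w) = 0 := fun w => by rw [← mul_assoc, D.hT, zero_mul]
  have cS : ∀ a w, S * (D.ι a * w) = D.ι a * (S * w) := fun a w => by
    rw [← mul_assoc, ← (D.comm a).1.eq, mul_assoc]
  have cT : ∀ a w, T * (D.ι a * w) = D.ι a * (T * w) := fun a w => by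
    rw [← mul_assoc, ← (D.comm a).2.eq, mul_assoc]
  have hSTS : ∀ a, D.ι a * (S * (T * S)) = D.ι (a * D.α) * S := fun a => by
    rw [← D.mul_z, mul_assoc, z_mul_S D.hS, mul_assoc S]
  have hTST : ∀ a, D.ι a * (T * (S * T)) = D.ι (a * D.α) * T := fun a => by
    rw [← D.mul_z, mul_assoc, add_comm, z_mul_S D.hT, mul_assoc T]
  have hαu : D.α ≠ 0 := left_ne_zero_of_mul_eq_one D.αβ
  have hβu : D.β ≠ 0 := right_ne_zero_of_mul_eq_one D.αβ
  have h10 : g.1 1 0 = 0 := by
    have h1 := congrArg (fun w => S * w * S) hΦ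
    simp only [CornerData.Φ, mul_add, add_mul, mul_assoc, cS, eS, D.hS, mul_zero, zero_add, add_zero,
      hSTS] at h1
    exact (mul_eq_zero.1 (hkS _ h1)).resolve_right (mul_ne_zero hβu hαu)
  have h01 : g.1 0 1 = 0 := by
    have h1 := congrArg (fun w => T * w * T) hΦ
    simp only [CornerData.Φ, mul_add, add_mul, mul_assoc, cT, eT, D.hT, mul_zero, zero_add, add_zero,
      hTST] at h1
    exact (mul_eq_zero.1 (hkT _ h1)).resolve_right hαu
  have h11 : g.1 1 1 = 1 := by
    have h1 := congrArg (fun w => w * T) hΦ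
    simp only [CornerData.Φ, add_mul, mul_assoc, h01, h10, zero_mul, D.map_zero, D.hT, mul_zero, add_zero] at h1
    have := hkT (g.1 1 1 - 1) (by rw [← D.map_sub, sub_mul, h1, sub_self])
    exact sub_eq_zero.1 this
  have hdet := g.2
  rw [Matrix.det_fin_two, h01, h10, h11] at hdet
  simp only [mul_one, mul_zero, sub_zero] at hdet
  apply Subtype.ext
  ext i j
  fin_cases i <;> fin_cases j <;> simp [h01, h10, h11, hdet]

end CfsgLib.QP
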