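import Cfsg.Agent.QuadPairs.RootSet

set_option autoImplicit false
set_option linter.unusedSectionVars false

/-!
Groups without unipotent normal subgroups, and roots of such groups.
-/

universe u v

namespace CfsgLib.QP

open Cfsg commutatorElement

variable {k : Type u} [Field k] {M : Type v} [AddCommGroup M] [Module k M]

/-- No non-trivial normal subgroup of `H` acts unipotently. -/
def RadFree (H : Subgroup (LinearMap.GeneralLinearGroup k M)) : Prop :=
  ∀ I : Subgroup (LinearMap.GeneralLinearGroup k M), I ≤ H → IsUnipotentOn I →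
    (∀ h ∈ H, conjBy I h = I) → I = ⊥

theorem conjEnd_one_sub (g x : LinearMap.GeneralLinearGroup k M) :
    ((g * x * g⁻¹ : LinearMap.GeneralLinearGroup k M) : Module.End k M) - 1 = conjEnd g ((x : Module.End k M) - 1) := by
  rw [conj_one_add g x (N := (x : Module.End k M) - 1) (c := (1 : k)) (by rw [one_smul, add_sub_cancel]),
    one_smul, add_sub_cancel_left]

theorem conjEnd_add (g : LinearMap.GeneralLinearGroup k M) (A B : Module.End k M) :
    conjEnd g (A + B) = conjEnd g A + conjEnd g B := by simp only [conjEnd, mul_add, add_mul]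

theorem conjEnd_sub (g : LinearMap.GeneralLinearGroup k M) (A B : Module.End k M) :
    conjEnd g (A - B) = conjEnd g A - conjEnd g B := by simp only [conjEnd, mul_sub, sub_mul]

theorem conjEnd_smul (g : LinearMap.GeneralLinearGroup k M) (c : k) (A : Module.End k M) :
    conjEnd g (c • A) = c • conjEnd g A := by simp only [conjEnd, mul_smul_comm, smul_mul_assoc]

theorem isUnipotentOn_conjBy {I : Subgroup (LinearMap.GeneralLinearGroup k M)} (h : IsUnipotentOn I)
    (g : LinearMap.GeneralLinearGroup k M) : IsUnipotentOn (conjBy I g) := by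
  obtain ⟨n, hn⟩ := IsUnipotentOn.prod_eq_zero h
  refine ⟨n, fun l hl hlen => ?_⟩
  simp only [List.pure_def, List.bind_eq_flatMap, ← List.map_eq_flatMap, List.map_map]
  have key : ∀ l : List (LinearMap.GeneralLinearGroup k M),
      (l.map fun x : LinearMap.GeneralLinearGroup k M => (x : Module.End k M) - 1).prod =
        conjEnd g (((l.map fun x => g⁻¹ * x * g).map
          fun x : LinearMap.GeneralLinearGroup k M => (x : Module.End k M) - 1).prod) := by
    intro l
    induction l with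
    | nil => simp [conjEnd]
    | cons a l ih =>
      rw [List.map_cons, List.prod_cons, List.map_cons, List.map_cons, List.prod_cons, ← conjEnd_mul, ← ih,
        ← conjEnd_one_sub g (g⁻¹ * a * g), show g * (g⁻¹ * a * g) * g⁻¹ = a by group]
  refine (key l).trans ?_
  rw [hn (l.map fun x => g⁻¹ * x * g) (fun x hx => ?_) (by rw [List.length_map, hlen]), conjEnd_zero]
  obtain ⟨y, hy, rfl⟩ := List.mem_map.1 hx
  obtain ⟨z, hz, rfl⟩ := hl y hy
  simp only [MulEquiv.coe_toMonoidHom, MulAut.conj_apply]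
  rwa [show g⁻¹ * (g * z * g⁻¹) * g = z by group]

theorem isUnipotentOn_mono {I J : Subgroup (LinearMap.GeneralLinearGroup k M)} (hIJ : I ≤ J)
    (h : IsUnipotentOn J) : IsUnipotentOn I := by
  obtain ⟨n, hn⟩ := (unipotent_iff J).1 h
  exact (unipotent_iff I).2 ⟨n, pow_eq_bot_of_le (lam_mono hIJ) hn⟩

theorem isUnipotentOn_sup {A B : Subgroup (LinearMap.GeneralLinearGroup k M)} (hA : IsUnipotentOn A)
    (hB : IsUnipotentOn B) (hn : ∀ b ∈ B, conjBy A b = A) : IsUnipotentOn (A ⊔ B) := by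
  obtain ⟨n₁, hn₁⟩ := (unipotent_iff A).1 hA
  obtain ⟨n₂, hn₂⟩ := (unipotent_iff B).1 hB
  have hmono : ∀ {L : Submodule k (Module.End k M)} {a b : ℕ}, a ≤ b → L ^ a = ⊥ → L ^ b = ⊥ := by
    intro L a b h hL
    rw [← Nat.add_sub_cancel' h, pow_add, hL, Submodule.bot_mul]
  have hYX : lam B * lam A ≤ lam A * lam B ⊔ lam A := by
    rw [lam, lam, Submodule.span_mul_span, Submodule.span_le]
    rintro _ ⟨_, ⟨c, hc, rfl⟩, _, ⟨j, hj, rfl⟩, rfl⟩
    have hj' : c * j * c⁻¹ ∈ A := hn c hc ▸ CfsgLib.RankOne.conj_mem_conjBy hj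
    show ((c : Module.End k M) - 1) * ((j : Module.End k M) - 1) ∈ lam A * lam B ⊔ lam A
    have e : ((c : Module.End k M) - 1) * ((j : Module.End k M) - 1) =
        (((c * j * c⁻¹ : LinearMap.GeneralLinearGroup k M) : Module.End k M) - 1) * ((c : Module.End k M) - 1) +
          ((((c * j * c⁻¹ : LinearMap.GeneralLinearGroup k M) : Module.End k M) - 1) - ((j : Module.End k M) - 1)) := by
      have h0 : ((c * j * c⁻¹ : LinearMap.GeneralLinearGroup k M) : Module.End k M) * (c : Module.End k M) =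
          (c : Module.End k M) * (j : Module.End k M) := by
        rw [← Units.val_mul, ← Units.val_mul, inv_mul_cancel_right]
      simp only [mul_sub, sub_mul, mul_one, one_mul, h0]
      abel
    rw [e]
    exact add_mem (Submodule.mem_sup_left (Submodule.mul_mem_mul (mem_lam hj') (mem_lam hc)))
      (Submodule.mem_sup_right (sub_mem (mem_lam hj') (mem_lam hj)))
  obtain ⟨Z, N, hZZ, hZN, hAZ, hBZ⟩ := exists_nilpotent_join (lam_mul_le A) (lam_mul_le B)
    (hmono (le_max_left n₁ n₂) hn₁) (hmono (le_max_right n₁ n₂) hn₂) hYX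
  have hle : lam (supW ({A, B} : Set (Subgroup (LinearMap.GeneralLinearGroup k M)))) ≤ Z := lam_supW_le hZZ (by
    rintro C (rfl | rfl) c hc
    · exact hAZ (mem_lam hc)
    · exact hBZ (mem_lam hc))
  rw [supW, iSup_pair] at hle
  exact (unipotent_iff _).2 ⟨N, pow_eq_bot_of_le hle hZN⟩

variable [FiniteDimensional k M] {G H X : Subgroup (LinearMap.GeneralLinearGroup k M)}

theorem radFree_of_irreducible (hirr : IsIrreducibleFor G) : RadFree G := fun I _ hu hn =>
  (Subgroup.eq_bot_iff_forall I).2 fun _ hx => eq_one_of_normal_unipotent hirr hu hn hx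

theorem RadFree.of_normal (hH : RadFree H) (hle : X ≤ H) (hn : ∀ h ∈ H, conjBy X h = X) : RadFree X := by
  intro I hIX hu hI
  set W : Set (Subgroup (LinearMap.GeneralLinearGroup k M)) :=
    {J | J ≤ X ∧ IsUnipotentOn J ∧ ∀ x ∈ X, conjBy J x = J} with hW
  have hWH : ∀ J ∈ W, J ≤ H := fun J hJ => hJ.1.trans hle
  have hWW : ∀ J ∈ W, ∀ J' ∈ W, IsUnipotentOn (J ⊔ J') := fun J hJ J' hJ' =>
    isUnipotentOn_sup hJ.2.1 hJ'.2.1 fun b hb => hJ.2.2 b (hJ'.1 hb)
  have hWconj : ∀ J ∈ W, ∀ h ∈ H, conjBy J h ∈ W := by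
    intro J hJ h hh
    refine ⟨hn h hh ▸ Subgroup.map_mono hJ.1, isUnipotentOn_conjBy hJ.2.1 h, fun x hx => ?_⟩
    rw [CfsgLib.RankOne.conjBy_conjBy]
    have hx' : h⁻¹ * x * h ∈ X := by
      rw [← CfsgLib.RankOne.mem_conjBy, hn h hh]; exact hx
    rw [show x * h = h * (h⁻¹ * x * h) by group, ← CfsgLib.RankOne.conjBy_conjBy, hJ.2.2 _ hx']
  have := hH (supW W) (iSup₂_le hWH) (unipotent_of_pairs hWH hWW hWconj) fun h hh => conjBy_supW_eq hWconj hh
  exact eq_bot_iff.2 (this ▸ le_supW (show I ∈ W from ⟨hIX, hu, hI⟩))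

theorem HasFam.conj_of_normalizes {N : Module.End k M} (h : HasFam H N) {g : LinearMap.GeneralLinearGroup k M}
    (hg : conjBy H g = H) : HasFam H (conjEnd g N) := fun c => by
  obtain ⟨x, hx, e⟩ := h c
  exact ⟨g * x * g⁻¹, hg ▸ CfsgLib.RankOne.conj_mem_conjBy hx, conj_one_add g x e⟩

theorem IsRoot.conj_of_normalizes {N : Module.End k M} (h : IsRoot H N) {g : LinearMap.GeneralLinearGroup k M}
    (hg : conjBy H g = H) : IsRoot H (conjEnd g N) :=
  ⟨by rw [conjEnd_mul, h.sq, conjEnd_zero], fun e => h.ne (conjEnd_eq_zero e), h.fam.conj_of_normalizes hg⟩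

theorem IsMinRoot.conj_of_normalizes {N : Module.End k M} (h : IsMinRoot H N)
    {g : LinearMap.GeneralLinearGroup k M} (hg : conjBy H g = H) : IsMinRoot H (conjEnd g N) :=
  ⟨h.toIsRoot.conj_of_normalizes hg, fun T hT => (rk_conj g N).symm ▸ h.min T hT⟩

theorem sameActionSubgroup_conj_of_normalizes {σ g : LinearMap.GeneralLinearGroup k M}
    (h : IsMinRoot H ((σ : Module.End k M) - 1)) (hg : conjBy H g = H) :
    conjBy (sameActionSubgroup H σ) g = sameActionSubgroup H (g * σ * g⁻¹) := by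
  have he := conjEnd_one_sub g σ
  have h' : IsMinRoot H (((g * σ * g⁻¹ : LinearMap.GeneralLinearGroup k M) : Module.End k M) - 1) :=
    he ▸ h.conj_of_normalizes hg
  have hg' : conjBy H g⁻¹ = H := by
    conv_lhs => rw [← hg, CfsgLib.RankOne.conjBy_conjBy, inv_mul_cancel, CfsgLib.RankOne.conjBy_one]
  ext x
  rw [mem_sameActionSubgroup h', CfsgLib.RankOne.mem_conjBy, mem_sameActionSubgroup h]
  have e2 : ((g⁻¹ * x * g : LinearMap.GeneralLinearGroup k M) : Module.End k M) - 1 =
      conjEnd g⁻¹ ((x : Module.End k M) - 1) := by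
    have := conjEnd_one_sub g⁻¹ x
    rwa [inv_inv] at this
  rw [e2]
  set N := (x : Module.End k M) - 1
  constructor
  · rintro ⟨hk, hr, hf⟩
    have hN : N = conjEnd g (conjEnd g⁻¹ N) := by rw [conjEnd_conjEnd, mul_inv_cancel, conjEnd_one]
    refine ⟨?_, ?_, hN ▸ hf.conj_of_normalizes hg⟩
    · rw [he, hN, ker_conjEnd, ker_conjEnd]; exact Submodule.map_mono hk
    · rw [he, range_conjEnd g ((σ : Module.End k M) - 1), hN, range_conjEnd g]; exact Submodule.map_mono hr
  · rintro ⟨hk, hr, hf⟩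
    have hS : (σ : Module.End k M) - 1 =
        conjEnd g⁻¹ (((g * σ * g⁻¹ : LinearMap.GeneralLinearGroup k M) : Module.End k M) - 1) := by
      rw [he, conjEnd_conjEnd, inv_mul_cancel, conjEnd_one]
    refine ⟨?_, ?_, hf.conj_of_normalizes hg'⟩
    · rw [hS, ker_conjEnd, ker_conjEnd]; exact Submodule.map_mono hk
    · rw [hS, range_conjEnd, range_conjEnd]; exact Submodule.map_mono hr

theorem RadFree.hasOpposites (h2 : (2 : k) ≠ 0) (h3 : Nat.card k ≠ 3) (hH : RadFree H) : HasOpposites H := by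
  intro S hS
  by_contra hcon
  push Not at hcon
  obtain ⟨σ, -, hσS⟩ := hS.toIsRoot.exists_elem
  subst hσS
  have hmin : ∀ g ∈ H, IsMinRoot H (((g * σ * g⁻¹ : LinearMap.GeneralLinearGroup k M) : Module.End k M) - 1) :=
    fun g hg => (conjEnd_one_sub g σ).symm ▸ hS.conj hg
  set W : Set (Subgroup (LinearMap.GeneralLinearGroup k M)) :=
    {A | ∃ g ∈ H, A = sameActionSubgroup H (g * σ * g⁻¹)} with hW
  have hWH : ∀ A ∈ W, A ≤ H := by
    rintro _ ⟨g, hg, rfl⟩
    exact sameActionSubgroup_le (hmin g hg)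
  have hWW : ∀ A ∈ W, ∀ B ∈ W, IsUnipotentOn (A ⊔ B) := by
    rintro _ ⟨g, hg, rfl⟩ _ ⟨g', hg', rfl⟩
    refine isUnipotentOn_of_not_opposite (hmin g hg) (hmin g' hg') h2 h3 ?_ le_rfl
    have h0 := hcon (conjEnd (g⁻¹ * g') ((σ : Module.End k M) - 1)) (hS.conj (mul_mem (inv_mem hg) hg'))
    have := congrArg (conjEnd g) h0
    rw [← conjEnd_mul, ← conjEnd_mul, conjEnd_conjEnd, mul_inv_cancel_left, conjEnd_zero] at this
    rw [conjEnd_one_sub, conjEnd_one_sub]
    exact this
  have hWconj : ∀ A ∈ W, ∀ g ∈ H, conjBy A g ∈ W := by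
    rintro _ ⟨g, hg, rfl⟩ g' hg'
    exact ⟨g' * g, mul_mem hg' hg, by
      rw [sameActionSubgroup_conj (hmin g hg) hg', mul_inv_rev]; simp only [mul_assoc]⟩
  have hσmem : σ ∈ supW W := by
    refine le_supW (A := sameActionSubgroup H σ) (show _ ∈ W from ⟨1, one_mem H, by simp⟩) ?_
    exact (mem_sameActionSubgroup hS).2 (mem_rootSpace_self hS.toIsRoot)
  rw [hH (supW W) (iSup₂_le hWH) (unipotent_of_pairs hWH hWW hWconj) (fun h hh => conjBy_supW_eq hWconj hh),
    Subgroup.mem_bot] at hσmem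
  exact hS.ne (by rw [hσmem, Units.val_one, sub_self])

end CfsgLib.QP
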