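import Cfsg.Agent.QuadPairs.Commutators
import Cfsg.Agent.RootSubgroups.RankOne
import Mathlib.SetTheory.Cardinal.Finite

set_option autoImplicit false
set_option linter.unusedSectionVars false

/-!
The root groups of a quadratic pair as abstract root subgroups of the group they generate.
-/

universe u v

namespace CfsgLib.QP

open Cfsg commutatorElement

section Transfer

variable {H : Type*} [Group H] {X A B : Subgroup H}

theorem map_subtype_subgroupOf (h : A ≤ X) : (A.subgroupOf X).map X.subtype = A :=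
  Subgroup.map_subgroupOf_eq_of_le h

theorem map_conjBy (A : Subgroup X) (g : X) : (conjBy A g).map X.subtype = conjBy (A.map X.subtype) (g : H) := by
  rw [conjBy, conjBy, Subgroup.map_map, Subgroup.map_map]
  congr 1

theorem subgroupOf_commutator (hA : A ≤ X) (hB : B ≤ X) :
    ⁅A.subgroupOf X, B.subgroupOf X⁆ = ⁅A, B⁆.subgroupOf X := by
  have hle : ⁅A, B⁆ ≤ X := Subgroup.commutator_le.2 fun a ha b hb =>
    mul_mem (mul_mem (mul_mem (hA ha) (hB hb)) (inv_mem (hA ha))) (inv_mem (hB hb))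
  apply Subgroup.map_injective X.subtype_injective
  rw [Subgroup.map_commutator, map_subtype_subgroupOf hA, map_subtype_subgroupOf hB, map_subtype_subgroupOf hle]

theorem isRankOnePair_subgroupOf (hA : A ≤ X) (hB : B ≤ X) (h : IsRankOnePair A B) :
    IsRankOnePair (A.subgroupOf X) (B.subgroupOf X) := by
  have hcond : ∀ {P Q : Subgroup H}, P ≤ X → Q ≤ X → RankOneCondition P Q →
      RankOneCondition (P.subgroupOf X) (Q.subgroupOf X) := by
    intro P Q hP hQ hPQ a ha ha1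
    obtain ⟨b, hb, hb1, he⟩ := hPQ a ha (fun e => ha1 (Subtype.ext e))
    refine ⟨⟨b, hQ hb⟩, hb, fun e => hb1 (congrArg Subtype.val e), ?_⟩
    apply Subgroup.map_injective X.subtype_injective
    rw [map_conjBy, map_conjBy, map_subtype_subgroupOf hP, map_subtype_subgroupOf hQ]
    exact he
  refine ⟨fun e => h.ne ?_, ?_, ?_, hcond hA hB h.cond_left, hcond hB hA h.cond_right⟩
  · rw [← map_subtype_subgroupOf hA, e, map_subtype_subgroupOf hB]
  · have := h.nilpotent_left
    exact Group.nilpotent_of_mulEquiv (Subgroup.subgroupOfEquivOfLe hA).symm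
  · have := h.nilpotent_right
    exact Group.nilpotent_of_mulEquiv (Subgroup.subgroupOfEquivOfLe hB).symm

theorem rootCommutatorCase_subgroupOf {S : Set (Subgroup H)} (hA : A ≤ X) (hB : B ≤ X)
    (h : RootCommutatorCase S A B) :
    RootCommutatorCase ((fun C : Subgroup H => C.subgroupOf X) '' S) (A.subgroupOf X) (B.subgroupOf X) := by
  obtain ⟨h1, h2, h3, h4⟩ := h
  rw [RootCommutatorCase, subgroupOf_commutator hA hB]
  have hle : ⁅A, B⁆ ≤ X := Subgroup.commutator_le.2 fun a ha b hb =>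
    mul_mem (mul_mem (mul_mem (hA ha) (hB hb)) (inv_mem (hA ha))) (inv_mem (hB hb))
  have hsup : (A.subgroupOf X ⊔ B.subgroupOf X).map X.subtype = A ⊔ B := by
    rw [Subgroup.map_sup, map_subtype_subgroupOf hA, map_subtype_subgroupOf hB]
  refine ⟨⟨_, h1, rfl⟩, fun c hc x hx => Subtype.ext (h2 c hc x ?_), fun a ha ha1 => ?_, fun b hb hb1 => ?_⟩
  · rw [← hsup]; exact ⟨x, hx, rfl⟩
  · apply Subgroup.map_injective X.subtype_injective
    rw [MonoidHom.map_closure, map_subtype_subgroupOf hle, ← h3 a ha (fun e => ha1 (Subtype.ext e))]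
    congr 1
    ext y
    constructor
    · rintro ⟨-, ⟨b, hb, rfl⟩, rfl⟩
      exact ⟨b, hb, rfl⟩
    · rintro ⟨b, hb, rfl⟩
      exact ⟨_, ⟨⟨b, hB hb⟩, hb, rfl⟩, rfl⟩
  · apply Subgroup.map_injective X.subtype_injective
    rw [MonoidHom.map_closure, map_subtype_subgroupOf hle, ← h4 b hb (fun e => hb1 (Subtype.ext e))]
    congr 1
    ext y
    constructor
    · rintro ⟨-, ⟨a, ha, rfl⟩, rfl⟩
      exact ⟨a, ha, rfl⟩
    · rintro ⟨a, ha, rfl⟩
      exact ⟨_, ⟨⟨a, hA ha⟩, ha, rfl⟩, rfl⟩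

/-- The members of a family, seen inside a subgroup `X` that they generate, form a root subgroup set as
soon as the axioms hold in the ambient group. -/
theorem isRootSubgroupSet_subgroupOf {S : Set (Subgroup H)} (hX : (⨆ A ∈ S, A) = X)
    (hc : ∀ A ∈ S, IsMulCommutative A) (hne : ∀ A ∈ S, A ≠ ⊥) (hconj : ∀ A ∈ S, ∀ g ∈ X, conjBy A g ∈ S)
    (hpair : ∀ A ∈ S, ∀ B ∈ S, ⁅A, B⁆ = ⊥ ∨ IsRankOnePair A B ∨ RootCommutatorCase S A B) :
    IsRootSubgroupSet ((fun A : Subgroup H => A.subgroupOf X) '' S) := by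
  have hle : ∀ A ∈ S, A ≤ X := fun A hA => hX ▸ le_iSup₂ (f := fun A (_ : A ∈ S) => A) A hA
  refine ⟨?_, ?_, ?_, ?_, ?_⟩
  · rintro _ ⟨A, hA, rfl⟩
    have := hc A hA
    refine ⟨⟨fun a b => Subtype.ext (Subtype.ext ?_)⟩⟩
    have h := this.is_comm.comm (⟨a.1.1, a.2⟩ : A) ⟨b.1.1, b.2⟩
    exact congrArg (fun t : A => (t : H)) h
  · rintro _ ⟨A, hA, rfl⟩ e
    apply hne A hA
    rw [← map_subtype_subgroupOf (hle A hA)]
    simp only at e
    rw [e, Subgroup.map_bot]
  · apply Subgroup.map_injective X.subtype_injective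
    rw [Subgroup.map_iSup, ← MonoidHom.range_eq_map, Subgroup.range_subtype]
    apply le_antisymm
    · refine iSup_le fun A => ?_
      rw [Subgroup.map_iSup]
      exact iSup_le fun _ => Subgroup.map_subtype_le _
    · conv_lhs => rw [← hX]
      refine iSup₂_le fun A hA => le_iSup_of_le (A.subgroupOf X) ?_
      rw [Subgroup.map_iSup]
      exact le_iSup_of_le ⟨A, hA, rfl⟩ (map_subtype_subgroupOf (hle A hA)).ge
  · rintro _ ⟨A, hA, rfl⟩ g
    refine ⟨conjBy A g, hconj A hA g g.2, ?_⟩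
    apply Subgroup.map_injective X.subtype_injective
    rw [map_subtype_subgroupOf (hle _ (hconj A hA g g.2)), map_conjBy, map_subtype_subgroupOf (hle A hA)]
  · rintro _ ⟨A, hA, rfl⟩ _ ⟨B, hB, rfl⟩
    rcases hpair A hA B hB with h | h | h
    · exact Or.inl (by rw [subgroupOf_commutator (hle A hA) (hle B hB), h, Subgroup.bot_subgroupOf])
    · exact Or.inr (Or.inl (isRankOnePair_subgroupOf (hle A hA) (hle B hB) h))
    · exact Or.inr (Or.inr (rootCommutatorCase_subgroupOf (hle A hA) (hle B hB) h))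

theorem not_isRankOnePair_of_commute (hAB : ⁅A, B⁆ = ⊥) : ¬ IsRankOnePair A B := by
  intro h
  have hc : ∀ a ∈ A, ∀ b ∈ B, a * b = b * a := fun a ha b hb => by
    rw [← commute_iff_eq, ← commutatorElement_eq_one_iff_commute, ← Subgroup.mem_bot, ← hAB]
    exact Subgroup.commutator_mem_commutator ha hb
  obtain ⟨a, ha, ha1⟩ := CfsgLib.RankOne.exists_ne_one_left h
  obtain ⟨b, hb, -, he⟩ := h.cond_left a ha ha1
  apply h.ne
  have hA : conjBy A b⁻¹ = A := CfsgLib.RankOne.conjBy_eq_self_iff.2 (Subgroup.mem_normalizer_iff.2 fun x =>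
    ⟨fun hx => by rw [← hc x hx _ (inv_mem hb), mul_inv_cancel_right]; exact hx, fun hx => by
      have := hc _ hx b hb
      rw [inv_inv] at hx this
      rw [show x = b * (b⁻¹ * x * b) * b⁻¹ by group, ← this, mul_inv_cancel_right]; exact hx⟩)
  have hB : conjBy B a⁻¹ = B := CfsgLib.RankOne.conjBy_eq_self_iff.2 (Subgroup.mem_normalizer_iff.2 fun x =>
    ⟨fun hx => by rw [hc _ (inv_mem ha) x hx, mul_inv_cancel_right]; exact hx, fun hx => by
      have := hc a ha _ hx
      rw [inv_inv] at hx this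
      rw [show x = a * (a⁻¹ * x * a) * a⁻¹ by group, this, mul_inv_cancel_right]; exact hx⟩)
  rw [← hA, he, hB]

theorem not_isRankOnePair_of_central (hA : IsMulCommutative A) (hc : ∀ c ∈ ⁅A, B⁆, ∀ x ∈ A ⊔ B, c * x = x * c) :
    ¬ IsRankOnePair A B := by
  intro h
  obtain ⟨a, ha, ha1⟩ := CfsgLib.RankOne.exists_ne_one_left h
  obtain ⟨b, hb, -, he⟩ := h.cond_left a ha ha1
  refine not_isRankOnePair_of_commute ?_ h
  rw [eq_bot_iff, Subgroup.commutator_le]
  intro x hx y hy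
  have hy' : a⁻¹ * y * a⁻¹⁻¹ ∈ conjBy A b⁻¹ := he ▸ CfsgLib.RankOne.conj_mem_conjBy hy
  rw [CfsgLib.RankOne.mem_conjBy, inv_inv, inv_inv] at hy'
  set z := b * (a⁻¹ * y * a) * b⁻¹ with hz
  have hcz : z⁻¹ * b⁻¹ * z⁻¹⁻¹ * b⁻¹⁻¹ ∈ ⁅A, B⁆ :=
    Subgroup.commutator_mem_commutator (inv_mem hy') (inv_mem hb)
  have e : a⁻¹ * y * a = z * (z⁻¹ * b⁻¹ * z⁻¹⁻¹ * b⁻¹⁻¹) := by rw [hz]; group
  have hax : a * x * a⁻¹ = x := by
    have := congrArg Subtype.val (hA.is_comm.comm (⟨a, ha⟩ : A) ⟨x, hx⟩)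
    simp only [Subgroup.coe_mul] at this
    rw [this, mul_inv_cancel_right]
  have hzx : z * x = x * z := congrArg Subtype.val (hA.is_comm.comm (⟨z, hy'⟩ : A) ⟨x, hx⟩)
  have hcx := hc _ hcz x (Subgroup.mem_sup_left hx)
  have h1 : x * (a⁻¹ * y * a) = (a⁻¹ * y * a) * x := by
    rw [e, ← mul_assoc, ← hzx, mul_assoc, ← hcx, ← mul_assoc]
  have h2 : x * y = y * x := by
    calc x * y = (a * x * a⁻¹) * y := by rw [hax]
      _ = a * (x * (a⁻¹ * y * a)) * a⁻¹ := by group
      _ = a * ((a⁻¹ * y * a) * x) * a⁻¹ := by rw [h1]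
      _ = y * (a * x * a⁻¹) := by group
      _ = y * x := by rw [hax]
  rw [Subgroup.mem_bot, commutatorElement_eq_one_iff_commute]
  exact h2

end Transfer

section Sigma

variable {k : Type u} [Field k] {M : Type v} [AddCommGroup M] [Module k M] [FiniteDimensional k M]
  {G : Subgroup (LinearMap.GeneralLinearGroup k M)}

theorem conjBy_mem_quadraticRootSubgroups {A : Subgroup (LinearMap.GeneralLinearGroup k M)}
    (hA : A ∈ quadraticRootSubgroups G) {g : LinearMap.GeneralLinearGroup k M} (hg : g ∈ G) :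
    conjBy A g ∈ quadraticRootSubgroups G := by
  obtain ⟨σ, hσ, rfl⟩ := hA
  have h := mem_minimal_iff.1 hσ
  refine ⟨g * σ * g⁻¹, mem_minimal_iff.2 ?_, sameActionSubgroup_conj h hg⟩
  rw [conj_one_add g σ (N := (σ : Module.End k M) - 1) (c := (1 : k)) (by rw [one_smul, add_sub_cancel]),
    one_smul, add_sub_cancel_left]
  exact h.conj hg

theorem le_of_mem_quadraticRootSubgroups {A : Subgroup (LinearMap.GeneralLinearGroup k M)}
    (hA : A ∈ quadraticRootSubgroups G) : A ≤ G := by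
  obtain ⟨σ, hσ, rfl⟩ := hA
  exact sameActionSubgroup_le (mem_minimal_iff.1 hσ)

theorem sigma_supW_le : (⨆ A ∈ quadraticRootSubgroups G, A) ≤ G :=
  iSup₂_le fun _ hA => le_of_mem_quadraticRootSubgroups hA

/-- Trichotomy for two root groups. -/
theorem sigma_pair (h2 : (2 : k) ≠ 0) (h3 : Nat.card k ≠ 3) (hopp : HasOpposites G)
    {σ τ : LinearMap.GeneralLinearGroup k M}
    (hσ : IsMinRoot G ((σ : Module.End k M) - 1)) (hτ : IsMinRoot G ((τ : Module.End k M) - 1)) :
    (((σ : Module.End k M) - 1) * ((τ : Module.End k M) - 1) * ((σ : Module.End k M) - 1) = 0 ∧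
      (⁅sameActionSubgroup G σ, sameActionSubgroup G τ⁆ = ⊥ ∨
        RootCommutatorCase (quadraticRootSubgroups G) (sameActionSubgroup G σ) (sameActionSubgroup G τ)) ∧
      ¬ IsRankOnePair (sameActionSubgroup G σ) (sameActionSubgroup G τ)) ∨
    (((σ : Module.End k M) - 1) * ((τ : Module.End k M) - 1) * ((σ : Module.End k M) - 1) ≠ 0 ∧
      IsRankOnePair (sameActionSubgroup G σ) (sameActionSubgroup G τ)) := by
  by_cases hne : ((σ : Module.End k M) - 1) * ((τ : Module.End k M) - 1) * ((σ : Module.End k M) - 1) = 0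
  · refine Or.inl ⟨hne, ?_⟩
    have hp := uniPair_of hσ hτ h2 h3 hne
    by_cases h0 : br ((σ : Module.End k M) - 1) ((τ : Module.End k M) - 1) = 0
    · have hb := commutator_eq_bot hσ hτ h2 h3 hopp hp h0
      exact ⟨Or.inl hb, not_isRankOnePair_of_commute hb⟩
    · obtain ⟨r1, r2, r3, -, r5, -⟩ := unipotent_pair_commutator hσ hτ h2 h3 hopp hp h0
      have hc : ∀ c ∈ ⁅sameActionSubgroup G σ, sameActionSubgroup G τ⁆,
          ∀ x ∈ sameActionSubgroup G σ ⊔ sameActionSubgroup G τ, c * x = x * c := fun c hc x hx => by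
        rw [← commute_iff_eq, ← commutatorElement_eq_one_iff_commute, ← Subgroup.mem_bot, ← r5]
        exact Subgroup.commutator_mem_commutator (Subgroup.commutator_mono le_sup_left le_sup_right hc) hx
      exact ⟨Or.inr ⟨r1, hc, r2, r3⟩, not_isRankOnePair_of_central (isMulCommutative_sameAction hσ) hc⟩
  · exact Or.inr ⟨hne, (isSpecialRankOnePair hσ hτ h2 h3 hne).1⟩

theorem sigma_not_isolated (h2 : (2 : k) ≠ 0) (h3 : Nat.card k ≠ 3) (hopp : HasOpposites G)
    {A : Subgroup (LinearMap.GeneralLinearGroup k M)} (hA : A ∈ quadraticRootSubgroups G) :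
    ∃ B ∈ quadraticRootSubgroups G, IsRankOnePair A B := by
  obtain ⟨σ, hσ, rfl⟩ := hA
  obtain ⟨T, hT, hne⟩ := hopp _ (mem_minimal_iff.1 hσ)
  obtain ⟨τ, -, rfl⟩ := hT.toIsRoot.exists_elem
  exact ⟨_, ⟨τ, mem_minimal_iff.2 hT, rfl⟩, (isSpecialRankOnePair (mem_minimal_iff.1 hσ) hT h2 h3 hne).1⟩

theorem three_lt_card {K : Type u} [Field K] [Algebra k K] (h2 : (2 : k) ≠ 0) (h3 : Nat.card k ≠ 3) :
    3 < ENat.card K := by
  refine lt_of_lt_of_le ?_ (ENat.card_le_card_of_injective (algebraMap k K).injective)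
  rcases finite_or_infinite k with hk | hk
  · rw [ENat.card_eq_coe_natCard]
    have h1 : 1 < Nat.card k := Finite.one_lt_card
    have h2' : Nat.card k ≠ 2 := by
      intro e
      have := Fintype.ofFinite k
      rw [Nat.card_eq_fintype_card] at e
      exact h2 (by exact_mod_cast e ▸ (Nat.cast_card_eq_zero k))
    exact_mod_cast (by omega : 3 < Nat.card k)
  · rw [ENat.card_eq_top_of_infinite]
    exact ENat.natCast_lt_top 3

theorem exists_psl2 {σ τ : LinearMap.GeneralLinearGroup k M}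
    (hσ : IsMinRoot G ((σ : Module.End k M) - 1)) (hτ : IsMinRoot G ((τ : Module.End k M) - 1))
    (h2 : (2 : k) ≠ 0) (h3 : Nat.card k ≠ 3)
    (hne : ((σ : Module.End k M) - 1) * ((τ : Module.End k M) - 1) * ((σ : Module.End k M) - 1) ≠ 0) :
    ∃ A₀ B₀ : Subgroup (LinearMap.GeneralLinearGroup k M), A₀ ≤ sameActionSubgroup G σ ∧
      B₀ ≤ sameActionSubgroup G τ ∧
      ∃ (K : Type u) (_ : Field K), 3 < ENat.card K ∧ IsPSL2PairOver K A₀ B₀ := by
  obtain ⟨K, _, _, _, D, hadj, heS, heT, hkS, hkT, -⟩ := exists_corner_field hσ hτ h2 h3 hne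
  have hrange := pairGrp_eq_range D h2 h3 hadj heS heT
  have hG : D.homU.range ≤ G := hrange ▸ pairGrp_le D.hS D.hT hσ.fam hτ.fam
  refine ⟨(upperUnipotentSL2 K).map D.homU, (lowerUnipotentSL2 K).map D.homU, ?_, ?_, K, inferInstance,
    three_lt_card h2 h3, D.homU, ?_, ?_, rfl, rfl⟩
  · rintro _ ⟨g, hg, rfl⟩
    obtain ⟨a, rfl⟩ := CfsgLib.SL2Pair.mem_upper.1 hg
    refine (mem_sameActionSubgroup hσ).2 ⟨?_, ?_, fun c => ⟨D.homU (up (algebraMap k K c * a)), hG ⟨_, rfl⟩, ?_⟩⟩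
    · rw [show CfsgLib.SL2Pair.up a = up a from rfl, D.homU_up, add_sub_cancel_left]
      exact LinearMap.ker_le_ker_comp _ _
    · rw [show CfsgLib.SL2Pair.up a = up a from rfl, D.homU_up, add_sub_cancel_left, (D.comm a).1.eq]
      exact LinearMap.range_comp_le_range _ _
    · rw [show CfsgLib.SL2Pair.up a = up a from rfl, D.homU_up, D.homU_up, add_sub_cancel_left, D.map_mul,
        D.map_alg, smul_mul_assoc, ← D.map_mul, one_mul, smul_mul_assoc]
  · rintro _ ⟨g, hg, rfl⟩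
    obtain ⟨x, rfl⟩ := CfsgLib.SL2Pair.mem_lower.1 hg
    have hval : (D.homU (CfsgLib.SL2Pair.low x) : Module.End k M) =
        1 + D.ι (x * D.β) * ((τ : Module.End k M) - 1) := by
      rw [← D.homU_low, mul_assoc, mul_comm D.β, D.αβ, mul_one]
      rfl
    refine (mem_sameActionSubgroup hτ).2 ⟨?_, ?_, fun c =>
      ⟨D.homU (low (algebraMap k K c * (x * D.β) * D.α)), hG ⟨_, rfl⟩, ?_⟩⟩
    · rw [hval, add_sub_cancel_left]
      exact LinearMap.ker_le_ker_comp _ _
    · rw [hval, add_sub_cancel_left, (D.comm _).2.eq]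
      exact LinearMap.range_comp_le_range _ _
    · rw [hval, D.homU_low, add_sub_cancel_left, D.map_mul, D.map_alg, smul_mul_assoc, ← D.map_mul, one_mul,
        smul_mul_assoc]
  · rw [MonoidHom.range_eq_map, ← CfsgLib.SL2Pair.sup_eq_top, Subgroup.map_sup, sup_comm]
  · rw [(MonoidHom.ker_eq_bot_iff _).2 (homU_injective D heS heT hkS hkT)]
    exact bot_le

end Sigma

end CfsgLib.QP
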