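import Cfsg.Agent.QuadPairs.Pair

set_option autoImplicit false
set_option linter.unusedSectionVars false

/-!
Unipotent and special rank one pairs of root groups.
-/

universe u v

namespace CfsgLib.QP

open Cfsg

variable {k : Type u} [Field k] {M : Type v} [AddCommGroup M] [Module k M] [FiniteDimensional k M]
  {G : Subgroup (LinearMap.GeneralLinearGroup k M)} {S T : Module.End k M}

theorem opposite_of_mem (hS : IsMinRoot G S) (hT : IsMinRoot G T) (h2 : (2 : k) ≠ 0) (h3 : Nat.card k ≠ 3)
    (h : S * T * S ≠ 0) {A B : Module.End k M} (hA : A ∈ rootSpace G hS.sq) (hA0 : A ≠ 0)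
    (hB : B ∈ rootSpace G hT.sq) (hB0 : B ≠ 0) : A * B * A ≠ 0 := by
  obtain ⟨⟨-, hk⟩, -⟩ := (pair_dichotomy hS h2 h3 hT.sq hT.fam).resolve_left h
  obtain ⟨hAm, hAk, hAr⟩ := hS.of_mem_rootSpace hA hA0
  obtain ⟨hBm, hBk, hBr⟩ := hT.of_mem_rootSpace hB hB0
  -- `T` maps the range of `S` onto the range of `T`
  have hTX : LinearMap.range (T * S) = LinearMap.range T := by
    refine Submodule.eq_of_le_of_finrank_le (LinearMap.range_comp_le_range S T) ?_
    have hker : LinearMap.ker (T * S) = LinearMap.ker S := by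
      refine le_antisymm (fun m hm => ?_) (fun m hm => ?_)
      · rw [← hk, LinearMap.mem_ker, mul_assoc, Module.End.mul_apply, LinearMap.mem_ker.1 hm, map_zero]
      · rw [LinearMap.mem_ker, Module.End.mul_apply, LinearMap.mem_ker.1 hm, map_zero]
    have e1 := LinearMap.finrank_range_add_finrank_ker (T * S)
    have e2 := LinearMap.finrank_range_add_finrank_ker S
    rw [hker] at e1
    have := hT.min S hS.toIsRoot
    unfold rk at this
    omega
  intro e
  apply hA0
  ext m
  obtain ⟨m', hm'⟩ : B (A m) ∈ LinearMap.range (T * S) := by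
    rw [hTX, ← hBr]; exact ⟨_, rfl⟩
  have h0 : A ((T * S) m') = 0 := by rw [hm']; exact LinearMap.congr_fun e m
  have h1 : (S * T * S) m' = 0 := by
    rw [← LinearMap.mem_ker, hAk, LinearMap.mem_ker, Module.End.mul_apply] at h0
    rw [mul_assoc, Module.End.mul_apply]; exact h0
  have h2' : S m' = 0 := by
    rw [← LinearMap.mem_ker, hk] at h1; exact h1
  have h4 : B (A m) = 0 := by rw [← hm', Module.End.mul_apply, h2', map_zero]
  obtain ⟨x, hx⟩ : A m ∈ LinearMap.range S := hAr ▸ ⟨m, rfl⟩
  have h5 : T (S x) = 0 := by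
    rw [← LinearMap.mem_ker, ← hBk, LinearMap.mem_ker, hx]; exact h4
  have h6 : (S * T * S) x = 0 := by rw [mul_assoc, Module.End.mul_apply, Module.End.mul_apply, h5, map_zero]
  show A m = 0
  rw [← hx, ← LinearMap.mem_ker, ← hk]
  exact h6

theorem triple_eq_zero (hS : IsMinRoot G S) (hT : IsMinRoot G T) (h2 : (2 : k) ≠ 0) (h3 : Nat.card k ≠ 3)
    (h : S * T * S = 0) {A B A' : Module.End k M} (hA : A ∈ rootSpace G hS.sq)
    (hB : B ∈ rootSpace G hT.sq) (hA' : A' ∈ rootSpace G hS.sq) : A * B * A' = 0 := by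
  by_cases hA0 : A = 0
  · simp [hA0]
  by_cases hB0 : B = 0
  · simp [hB0]
  obtain ⟨hAm, hAk, hAr⟩ := hS.of_mem_rootSpace hA hA0
  obtain ⟨hBm, hBk, hBr⟩ := hT.of_mem_rootSpace hB hB0
  have hABA : A * B * A = 0 := by
    by_contra hne
    refine opposite_of_mem hAm hBm h2 h3 hne (A := S) (B := T) ?_ hS.ne ?_ hT.ne h
    · rw [rootSpace_eq (hS := hS.sq) hAk hAr]; exact mem_rootSpace_self hS.toIsRoot
    · rw [rootSpace_eq (hS := hT.sq) hBk hBr]; exact mem_rootSpace_self hT.toIsRoot
  ext m
  obtain ⟨x, hx⟩ : A' m ∈ LinearMap.range A := hAr.symm ▸ hA'.2.1 ⟨m, rfl⟩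
  show A (B (A' m)) = 0
  rw [← hx]
  exact LinearMap.congr_fun hABA x

theorem isUnipotentOn_of_not_opposite {σ τ : LinearMap.GeneralLinearGroup k M}
    (hσ : IsMinRoot G ((σ : Module.End k M) - 1)) (hτ : IsMinRoot G ((τ : Module.End k M) - 1))
    (h2 : (2 : k) ≠ 0) (h3 : Nat.card k ≠ 3)
    (h : ((σ : Module.End k M) - 1) * ((τ : Module.End k M) - 1) * ((σ : Module.End k M) - 1) = 0)
    {H : Subgroup (LinearMap.GeneralLinearGroup k M)}
    (hH : H ≤ sameActionSubgroup G σ ⊔ sameActionSubgroup G τ) : IsUnipotentOn H := by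
  set A := sameActionSubgroup G σ with hA
  set B := sameActionSubgroup G τ with hB
  have h' : ((τ : Module.End k M) - 1) * ((σ : Module.End k M) - 1) * ((τ : Module.End k M) - 1) = 0 := by
    by_contra hne
    exact opposite_symm hτ hσ h2 h3 hne h
  refine isUnipotentOn_of_words
    (gens := (A : Set (LinearMap.GeneralLinearGroup k M)) ∪ (B : Set (LinearMap.GeneralLinearGroup k M)))
    (N := (rootSpace G hσ.sq : Set (Module.End k M)) ∪ (rootSpace G hτ.sq : Set (Module.End k M)))
    (n := 3) ?_ ?_ (hH.trans (by rw [Subgroup.closure_union, Subgroup.closure_eq, Subgroup.closure_eq]))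
  · intro l hl hlen
    match l, hlen with
    | [a, b, c], _ =>
      simp only [List.prod_cons, List.prod_nil, mul_one]
      have ha : _ ∨ _ := hl a (by simp)
      have hb : _ ∨ _ := hl b (by simp)
      have hc : _ ∨ _ := hl c (by simp)
      rcases ha with ha | ha <;> rcases hb with hb | hb
      · rw [← mul_assoc, mul_eq_zero_of_mem ha hb, zero_mul]
      · rcases hc with hc | hc
        · rw [← mul_assoc]; exact triple_eq_zero hσ hτ h2 h3 h ha hb hc
        · rw [mul_eq_zero_of_mem hb hc, mul_zero]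
      · rcases hc with hc | hc
        · rw [mul_eq_zero_of_mem hb hc, mul_zero]
        · rw [← mul_assoc]; exact triple_eq_zero hτ hσ h2 h3 h' ha hb hc
      · rw [← mul_assoc, mul_eq_zero_of_mem ha hb, zero_mul]
  · rintro g (hg | hg)
    · exact ⟨mem_wordSpan_one (Or.inl ((mem_sameActionSubgroup hσ).1 hg)),
        mem_wordSpan_one (Or.inl ((mem_sameActionSubgroup hσ).1 (inv_mem hg)))⟩
    · exact ⟨mem_wordSpan_one (Or.inr ((mem_sameActionSubgroup hτ).1 hg)),
        mem_wordSpan_one (Or.inr ((mem_sameActionSubgroup hτ).1 (inv_mem hg)))⟩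

theorem scalarFamily_subset {σ : LinearMap.GeneralLinearGroup k M}
    (hσ : IsMinRoot G ((σ : Module.End k M) - 1)) :
    scalarFamily σ ⊆ (sameActionSubgroup G σ : Set (LinearMap.GeneralLinearGroup k M)) := by
  rintro x ⟨c, hc⟩
  refine (mem_sameActionSubgroup hσ).2 ?_
  have e : (x : Module.End k M) - 1 = c • ((σ : Module.End k M) - 1) := sub_eq_iff_eq_add'.2 hc
  rw [e]
  exact Submodule.smul_mem _ c (mem_rootSpace_self hσ.toIsRoot)

open CfsgLib.QP in
/-- An opposite pair yields a partner `T'` with the Weyl relations. -/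
theorem exists_weyl (hS : IsMinRoot G S) (hT : IsMinRoot G T) (h2 : (2 : k) ≠ 0) (h3 : Nat.card k ≠ 3)
    (h : S * T * S ≠ 0) :
    ∃ T' ∈ rootSpace G hT.sq, T' ≠ 0 ∧ ∀ a b : LinearMap.GeneralLinearGroup k M,
      (a : Module.End k M) = 1 + S → (b : Module.End k M) = 1 + T' →
        a * b * a = b * a * b ∧ conjEnd (a * b * a) S = T' := by
  obtain ⟨K, _, _, _, D, hadj, heS, heT, hkS, hkT, -⟩ := exists_corner_field hS hT h2 h3 h
  set T' := D.ι (-D.β) * T with hT'
  have hrange := pairGrp_eq_range D h2 h3 hadj heS heT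
  have hlow : ∀ c : k, (D.homU (low (algebraMap k K c * -D.β * D.α)) : Module.End k M) = 1 + c • T' := by
    intro c
    rw [D.homU_low, D.map_mul, D.map_alg, hT', smul_mul_assoc, smul_mul_assoc, ← D.map_mul, one_mul]
  have hup : (D.homU (up 1) : Module.End k M) = 1 + S := by
    rw [D.homU_up, heS]
  have hone : -D.β * D.α = -1 := by linear_combination -D.αβ
  refine ⟨T', ⟨fun m hm => ?_, ?_, fun c => ⟨_, pairGrp_le hS.sq hT.sq hS.fam hT.fam
    (show D.homU (low (algebraMap k K c * -D.β * D.α)) ∈ pairGrp (k := k) hS.sq hT.sq from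
      hrange ▸ ⟨_, rfl⟩), hlow c⟩⟩, ?_, ?_⟩
  · rw [LinearMap.mem_ker] at hm ⊢
    rw [hT', Module.End.mul_apply, hm, map_zero]
  · rintro _ ⟨m, rfl⟩
    rw [hT', (D.comm _).2.eq]
    exact ⟨_, rfl⟩
  · intro e
    have hb := hkT (-D.β) e
    rw [hb, zero_mul] at hone
    exact one_ne_zero (by linear_combination hone)
  intro a b ha hb
  have hlow1 : (D.homU (low (-1)) : Module.End k M) = 1 + T' := by
    have := hlow 1
    rwa [map_one, one_mul, hone, one_smul] at this
  have ea : a = D.homU (up 1) := Units.ext (by rw [ha, hup])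
  have eb : b = D.homU (low (-1)) := Units.ext (by rw [hb, hlow1])
  have hbraid : a * b * a = b * a * b := by
    rw [ea, eb, ← map_mul, ← map_mul, ← map_mul, ← map_mul]
    congr 1
    apply Subtype.ext
    ext i j
    fin_cases i <;> fin_cases j <;> simp [Matrix.mul_apply, Fin.sum_univ_two, up_coe, low_coe]
  refine ⟨hbraid, ?_⟩
  have hconj : (a * b * a) * a * (a * b * a)⁻¹ = b := by
    rw [mul_inv_eq_iff_eq_mul]
    calc a * b * a * a = b * a * b * a := by rw [hbraid]
      _ = b * (a * b * a) := by simp only [mul_assoc]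
  have := conj_one_add (a * b * a) a (N := S) (c := (1 : k)) (by rw [one_smul]; exact ha)
  rw [hconj, hb, one_smul] at this
  exact (add_left_cancel this).symm

theorem conj_weyl {α β : LinearMap.GeneralLinearGroup k M} (hα : IsMinRoot G ((α : Module.End k M) - 1))
    (hβ : IsMinRoot G ((β : Module.End k M) - 1)) (h2 : (2 : k) ≠ 0) (h3 : Nat.card k ≠ 3)
    (h : ((α : Module.End k M) - 1) * ((β : Module.End k M) - 1) * ((α : Module.End k M) - 1) ≠ 0)
    {a : LinearMap.GeneralLinearGroup k M} (ha : a ∈ sameActionSubgroup G α) (ha1 : a ≠ 1) :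
    ∃ b ∈ sameActionSubgroup G β, b ≠ 1 ∧
      conjBy (sameActionSubgroup G α) b⁻¹ = conjBy (sameActionSubgroup G β) a⁻¹ ∧
      b⁻¹ * a * b = a⁻¹ * b⁻¹ * a := by
  have hN := (mem_sameActionSubgroup hα).1 ha
  have hN0 : (a : Module.End k M) - 1 ≠ 0 := fun e => ha1 (Units.ext (sub_eq_zero.1 e))
  obtain ⟨hNm, hNk, hNr⟩ := hα.of_mem_rootSpace hN hN0
  have hopp := opposite_of_mem hα hβ h2 h3 h hN hN0 (mem_rootSpace_self hβ.toIsRoot) hβ.ne
  obtain ⟨T', hT', hT0, hweyl⟩ := exists_weyl hNm hβ h2 h3 hopp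
  obtain ⟨c, hc, hce⟩ := exists_mem_of_rootSpace hβ hT'
  obtain ⟨hbr, hconj⟩ := hweyl a c (add_sub_cancel 1 (a : Module.End k M)).symm hce
  have haG : a ∈ G := sameActionSubgroup_le hα ha
  have hcG : c ∈ G := sameActionSubgroup_le hβ hc
  have hw : a * c * a ∈ G := mul_mem (mul_mem haG hcG) haG
  have e1 : conjBy (sameActionSubgroup G α) (a * c * a) = sameActionSubgroup G β := by
    rw [← sameActionSubgroup_eq hα hNm hNk hNr, sameActionSubgroup_conj hNm hw]
    have e : ((a * c * a * a * (a * c * a)⁻¹ : LinearMap.GeneralLinearGroup k M) : Module.End k M) - 1 = T' := by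
      rw [conj_one_add (a * c * a) a (N := (a : Module.End k M) - 1) (c := (1 : k))
        (by rw [one_smul, add_sub_cancel]), one_smul, add_sub_cancel_left, hconj]
    obtain ⟨hm, hk, hr⟩ := hβ.of_mem_rootSpace hT' hT0
    exact sameActionSubgroup_eq hβ (e ▸ hm) (e ▸ hk) (e ▸ hr)
  have hA : conjBy (sameActionSubgroup G α) a = sameActionSubgroup G α := by
    ext x
    constructor
    · rintro ⟨y, hy, rfl⟩
      exact mul_mem (mul_mem ha hy) (inv_mem ha)
    · intro hx
      exact ⟨a⁻¹ * x * a, mul_mem (mul_mem (inv_mem ha) hx) ha, by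
        simp only [MulEquiv.coe_toMonoidHom, MulAut.conj_apply]; group⟩
  have hcomp : ∀ (D : Subgroup (LinearMap.GeneralLinearGroup k M)) g g', conjBy (conjBy D g) g' = conjBy D (g' * g) := by
    intro D g g'
    rw [conjBy, conjBy, conjBy, Subgroup.map_map]
    congr 1
  refine ⟨c⁻¹, inv_mem hc, fun e => hT0 ?_, ?_, ?_⟩
  · rw [inv_eq_one] at e
    rw [e, Units.val_one] at hce
    exact left_eq_add.1 hce
  · rw [← e1, hcomp, show a⁻¹ * (a * c * a) = c * a by group, inv_inv, ← hcomp, hA]
  · rw [inv_inv]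
    have : a * (c * a * c⁻¹) = a * (a⁻¹ * c * a) := by
      calc a * (c * a * c⁻¹) = (a * c * a) * c⁻¹ := by simp only [mul_assoc]
        _ = (c * a * c) * c⁻¹ := by rw [hbr]
        _ = a * (a⁻¹ * c * a) := by group
    exact mul_left_cancel this

theorem eq_one_of_normalizes {α β : LinearMap.GeneralLinearGroup k M} (hα : IsMinRoot G ((α : Module.End k M) - 1))
    (hβ : IsMinRoot G ((β : Module.End k M) - 1)) (h2 : (2 : k) ≠ 0) (h3 : Nat.card k ≠ 3)
    (h : ((α : Module.End k M) - 1) * ((β : Module.End k M) - 1) * ((α : Module.End k M) - 1) ≠ 0)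
    {g : LinearMap.GeneralLinearGroup k M} (hg : g ∈ sameActionSubgroup G β)
    (hn : conjBy (sameActionSubgroup G α) g = sameActionSubgroup G α) : g = 1 := by
  by_contra hg1
  set S := (α : Module.End k M) - 1 with hS
  set N := (g : Module.End k M) - 1 with hNdef
  have hN := (mem_sameActionSubgroup hβ).1 hg
  have hN0 : N ≠ 0 := fun e => hg1 (Units.ext (sub_eq_zero.1 e))
  have hopp : S * N * S ≠ 0 :=
    opposite_of_mem hα hβ h2 h3 h (mem_rootSpace_self hα.toIsRoot) hα.ne hN hN0
  have hmem : g * α * g⁻¹ ∈ sameActionSubgroup G α := by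
    rw [← hn]
    exact ⟨α, (mem_sameActionSubgroup hα).2 (mem_rootSpace_self hα.toIsRoot), rfl⟩
  have h1 := ((mem_sameActionSubgroup hα).1 hmem).2.1
  rw [conj_one_add g α (N := S) (c := (1 : k)) (by rw [one_smul, hS, add_sub_cancel]), one_smul,
    add_sub_cancel_left, range_conjEnd] at h1
  apply hopp
  ext m
  obtain ⟨y, hy⟩ : (g : Module.End k M) (S m) ∈ LinearMap.range S := h1 ⟨S m, ⟨m, rfl⟩, rfl⟩
  have hge : (g : Module.End k M) = 1 + N := by rw [hNdef, add_sub_cancel]
  show S (N (S m)) = 0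
  have : N (S m) = S y - S m := by
    rw [hy, hge, LinearMap.add_apply, Module.End.one_apply, add_sub_cancel_left]
  rw [this, map_sub, ← Module.End.mul_apply, ← Module.End.mul_apply, hα.sq]
  simp

theorem isSpecialRankOnePair {σ τ : LinearMap.GeneralLinearGroup k M} (hσ : IsMinRoot G ((σ : Module.End k M) - 1))
    (hτ : IsMinRoot G ((τ : Module.End k M) - 1)) (h2 : (2 : k) ≠ 0) (h3 : Nat.card k ≠ 3)
    (h : ((σ : Module.End k M) - 1) * ((τ : Module.End k M) - 1) * ((σ : Module.End k M) - 1) ≠ 0) :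
    IsSpecialRankOnePair (sameActionSubgroup G σ) (sameActionSubgroup G τ) := by
  have h' := opposite_symm hσ hτ h2 h3 h
  refine ⟨⟨?_, ?_, ?_, ?_, ?_⟩, ?_⟩
  · intro e
    have hmem : τ ∈ sameActionSubgroup G σ := e ▸ (mem_sameActionSubgroup hτ).2 (mem_rootSpace_self hτ.toIsRoot)
    apply h
    rw [mul_eq_zero_of_mem (mem_rootSpace_self hσ.toIsRoot) ((mem_sameActionSubgroup hσ).1 hmem), zero_mul]
  · have := isMulCommutative_sameAction hσ
    let _ : CommGroup ↥(sameActionSubgroup G σ) :=
      { (inferInstance : Group ↥(sameActionSubgroup G σ)) with mul_comm := fun a b => this.is_comm.comm a b }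
    infer_instance
  · have := isMulCommutative_sameAction hτ
    let _ : CommGroup ↥(sameActionSubgroup G τ) :=
      { (inferInstance : Group ↥(sameActionSubgroup G τ)) with mul_comm := fun a b => this.is_comm.comm a b }
    infer_instance
  · intro a ha ha1
    obtain ⟨b, hb, hb1, hconj, -⟩ := conj_weyl hσ hτ h2 h3 h ha ha1
    exact ⟨b, hb, hb1, hconj⟩
  · intro a ha ha1
    obtain ⟨b, hb, hb1, hconj, -⟩ := conj_weyl hτ hσ h2 h3 h' ha ha1
    exact ⟨b, hb, hb1, hconj⟩
  · intro a ha ha1 b hb _ hab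
    obtain ⟨b₀, hb₀, -, hconj, hsp⟩ := conj_weyl hσ hτ h2 h3 h ha ha1
    have hcomp : ∀ (D : Subgroup (LinearMap.GeneralLinearGroup k M)) g g', conjBy (conjBy D g) g' = conjBy D (g' * g) := by
      intro D g g'
      rw [conjBy, conjBy, conjBy, Subgroup.map_map]
      congr 1
    have hn : conjBy (sameActionSubgroup G σ) (b₀ * b⁻¹) = sameActionSubgroup G σ := by
      rw [← hcomp, hab, ← hconj, hcomp, mul_inv_cancel, conjBy, map_one]
      exact Subgroup.map_id _
    have hbb := mul_inv_eq_one.1 (eq_one_of_normalizes hσ hτ h2 h3 h (mul_mem hb₀ (inv_mem hb)) hn)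
    exact hbb ▸ hsp

theorem involution_and_split {σ τ : LinearMap.GeneralLinearGroup k M} (hσ : IsMinRoot G ((σ : Module.End k M) - 1))
    (hτ : IsMinRoot G ((τ : Module.End k M) - 1)) (h2 : (2 : k) ≠ 0) (h3 : Nat.card k ≠ 3)
    (h : ((σ : Module.End k M) - 1) * ((τ : Module.End k M) - 1) * ((σ : Module.End k M) - 1) ≠ 0) :
    (∃! i : LinearMap.GeneralLinearGroup k M, i ∈ sameActionSubgroup G σ ⊔ sameActionSubgroup G τ ∧ i ≠ 1 ∧ i * i = 1 ∧
        (∀ x ∈ sameActionSubgroup G σ ⊔ sameActionSubgroup G τ, i * x = x * i) ∧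
        (∀ m ∈ commutatorSubmodule (sameActionSubgroup G σ ⊔ sameActionSubgroup G τ), (i : M →ₗ[k] M) m = -m) ∧
        (∀ m ∈ fixedSubmodule (sameActionSubgroup G σ ⊔ sameActionSubgroup G τ), (i : M →ₗ[k] M) m = m)) ∧
      IsCompl (fixedSubmodule (sameActionSubgroup G σ ⊔ sameActionSubgroup G τ))
        (commutatorSubmodule (sameActionSubgroup G σ ⊔ sameActionSubgroup G τ)) := by
  set S := (σ : Module.End k M) - 1 with hS
  set T := (τ : Module.End k M) - 1 with hT
  set A := sameActionSubgroup G σ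
  set B := sameActionSubgroup G τ
  obtain ⟨K, _, _, _, D, hadj, heS, heT, hkS, hkT, -⟩ := exists_corner_field hσ hτ h2 h3 h
  set e := D.ι 1 with he
  have hSe : S * e = S := by rw [← (D.comm 1).1.eq]; exact heS
  have hTe : T * e = T := by rw [← (D.comm 1).2.eq]; exact heT
  have hez : e = D.ι D.β * (S * T + T * S) := by
    rw [he, D.mul_z, mul_comm D.β, D.αβ]
  have hze : e = S * (T * D.ι D.β) + T * (S * D.ι D.β) := by
    rw [hez, mul_add, ← mul_assoc, ← mul_assoc, (D.comm D.β).1.eq, (D.comm D.β).2.eq, mul_assoc, mul_assoc,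
      (D.comm D.β).2.eq, (D.comm D.β).1.eq]
  -- the elements of the pair are supported on the image of `e`
  have hsupp : ∀ x ∈ A ⊔ B, (x : Module.End k M) * e - (x : Module.End k M) = e - 1 ∧
      e * (x : Module.End k M) - (x : Module.End k M) = e - 1 := by
    have hroot : ∀ N, (N ∈ rootSpace G hσ.sq ∨ N ∈ rootSpace G hτ.sq) → N * e = N ∧ e * N = N := by
      intro N hN
      constructor
      · ext m
        show N (e m) = N m
        have hd : N (m - e m) = 0 := by
          rcases hN with hN | hN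
          · refine LinearMap.mem_ker.1 (hN.1 (LinearMap.mem_ker.2 ?_))
            rw [map_sub, ← Module.End.mul_apply, hSe, sub_self]
          · refine LinearMap.mem_ker.1 (hN.1 (LinearMap.mem_ker.2 ?_))
            rw [map_sub, ← Module.End.mul_apply, hTe, sub_self]
        rw [map_sub, sub_eq_zero] at hd
        exact hd.symm
      · ext m
        show e (N m) = N m
        rcases hN with hN | hN
        · obtain ⟨y, hy⟩ := hN.2.1 ⟨m, rfl⟩
          rw [← hy, ← Module.End.mul_apply, heS]
        · obtain ⟨y, hy⟩ := hN.2.1 ⟨m, rfl⟩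
          rw [← hy, ← Module.End.mul_apply, heT]
    let W : Subgroup (LinearMap.GeneralLinearGroup k M) :=
      { carrier := {x | (x : Module.End k M) * (1 - e) = 1 - e ∧ (1 - e) * (x : Module.End k M) = 1 - e}
        one_mem' := by simp
        mul_mem' := fun {x y} hx hy => ⟨by rw [Units.val_mul, mul_assoc, hy.1, hx.1],
          by rw [Units.val_mul, ← mul_assoc, hx.2, hy.2]⟩
        inv_mem' := fun {x} hx => ⟨by conv_lhs => rw [← hx.1, ← mul_assoc, Units.inv_mul, one_mul],
          by conv_lhs => rw [← hx.2, mul_assoc, Units.mul_inv, mul_one]⟩ }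
    have hgen : ∀ x : LinearMap.GeneralLinearGroup k M,
        ((x : Module.End k M) - 1 ∈ rootSpace G hσ.sq ∨ (x : Module.End k M) - 1 ∈ rootSpace G hτ.sq) → x ∈ W := by
      intro x hx
      obtain ⟨h1, h1'⟩ := hroot _ hx
      have ex : (x : Module.End k M) = 1 + ((x : Module.End k M) - 1) := (add_sub_cancel 1 (x : Module.End k M)).symm
      generalize (x : Module.End k M) - 1 = N at h1 h1' ex
      refine ⟨?_, ?_⟩
      · rw [ex, add_mul, one_mul, mul_sub, mul_one, h1, sub_self, add_zero]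
      · rw [ex, mul_add, mul_one, sub_mul, one_mul, h1', sub_self, add_zero]
    intro x hx
    have hxW : x ∈ W := (sup_le (fun y hy => hgen y (Or.inl ((mem_sameActionSubgroup hσ).1 hy)))
      (fun y hy => hgen y (Or.inr ((mem_sameActionSubgroup hτ).1 hy))) : A ⊔ B ≤ W) hx
    obtain ⟨h1, h1'⟩ := hxW
    rw [mul_sub, mul_one] at h1
    rw [sub_mul, one_mul] at h1'
    exact ⟨by linear_combination (norm := abel) -h1, by linear_combination (norm := abel) -h1'⟩
  have hσA : σ ∈ A ⊔ B := Subgroup.mem_sup_left ((mem_sameActionSubgroup hσ).2 (mem_rootSpace_self hσ.toIsRoot))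
  have hτB : τ ∈ A ⊔ B := Subgroup.mem_sup_right ((mem_sameActionSubgroup hτ).2 (mem_rootSpace_self hτ.toIsRoot))
  have hfix : fixedSubmodule (A ⊔ B) = LinearMap.ker e := by
    refine le_antisymm (fun m hm => ?_) (fun m hm => ?_)
    · simp only [fixedSubmodule, Submodule.mem_iInf] at hm
      have h1 : S m = 0 := LinearMap.mem_ker.1 (hm σ hσA)
      have h1' : T m = 0 := LinearMap.mem_ker.1 (hm τ hτB)
      rw [LinearMap.mem_ker, hez]
      simp [Module.End.mul_apply, h1, h1']
    · simp only [fixedSubmodule, Submodule.mem_iInf]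
      intro x hx
      have := LinearMap.congr_fun (hsupp x hx).1 m
      simp [Module.End.mul_apply, LinearMap.mem_ker.1 hm] at this
      rw [LinearMap.mem_ker, LinearMap.sub_apply, Module.End.one_apply]
      exact sub_eq_zero.2 this
  have hee : e * e = e := D.e_idem
  have hcomm : commutatorSubmodule (A ⊔ B) = LinearMap.range e := by
    refine le_antisymm ?_ ?_
    · simp only [commutatorSubmodule, iSup_le_iff]
      rintro x hx _ ⟨m, rfl⟩
      refine ⟨((x : Module.End k M) - 1) m, ?_⟩
      have := LinearMap.congr_fun (hsupp x hx).2 m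
      simp [Module.End.mul_apply] at this ⊢
      linear_combination (norm := abel) this
    · rintro _ ⟨m, rfl⟩
      rw [hze, LinearMap.add_apply, Module.End.mul_apply, Module.End.mul_apply]
      refine add_mem ?_ ?_
      · exact Submodule.mem_iSup_of_mem σ (Submodule.mem_iSup_of_mem hσA ⟨_, rfl⟩)
      · exact Submodule.mem_iSup_of_mem τ (Submodule.mem_iSup_of_mem hτB ⟨_, rfl⟩)
  have hcompl : IsCompl (LinearMap.ker e) (LinearMap.range e) := by
    refine IsCompl.of_eq ?_ ?_
    · rw [eq_bot_iff]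
      rintro m ⟨hm, y, rfl⟩
      simp only [SetLike.mem_coe, LinearMap.mem_ker, ← Module.End.mul_apply, hee] at hm
      exact hm
    · rw [eq_top_iff]
      intro m _
      rw [show m = (m - e m) + e m by abel]
      refine Submodule.add_mem_sup ?_ ⟨m, rfl⟩
      rw [LinearMap.mem_ker, map_sub, ← Module.End.mul_apply, hee, sub_self]
  rw [hfix, hcomm]
  refine ⟨?_, hcompl⟩
  let neg1 : Matrix.SpecialLinearGroup (Fin 2) K := ⟨!![-1, 0; 0, -1], by simp [Matrix.det_fin_two]⟩
  set i := D.homU neg1 with hi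
  have hiv : (i : Module.End k M) = 1 - e - e := by
    rw [hi, D.homU_val]
    show (1 - D.ι 1) + (D.ι (-1) + D.ι ((-1 - -1) * D.β) * (S * T) + D.ι 0 * S + D.ι (0 * D.β) * T) = _
    have hneg : D.ι (-1) = -D.ι 1 := eq_neg_of_add_eq_zero_left (by rw [← D.map_add, neg_add_cancel, D.map_zero])
    simp only [sub_self, zero_mul, D.map_zero, hneg, he]
    abel
  have hiA : i ∈ A ⊔ B := by
    have : i ∈ pairGrp (k := k) D.hS D.hT := by rw [pairGrp_eq_range D h2 h3 hadj heS heT]; exact ⟨_, rfl⟩
    rw [pairGrp, ← scalarFamily_eq, ← scalarFamily_eq] at this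
    refine (Subgroup.closure_le _).2 ?_ this
    rintro x (hx | hx)
    · exact Subgroup.mem_sup_left (scalarFamily_subset hσ hx)
    · exact Subgroup.mem_sup_right (scalarFamily_subset hτ hx)
  have hdbl : ∀ m : M, m = -m → m = 0 := fun m hm => by
    have : (2 : k) • m = 0 := by rw [two_smul]; nth_rewrite 1 [hm]; exact neg_add_cancel m
    exact (smul_eq_zero.1 this).resolve_left h2
  refine ⟨i, ⟨hiA, ?_, ?_, ?_, ?_, ?_⟩, ?_⟩
  · intro h1
    rw [h1, Units.val_one] at hiv
    apply hσ.ne
    have he0 : e = -e := by linear_combination (norm := abel) hiv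
    have : e = 0 := LinearMap.ext fun m => hdbl (e m) (LinearMap.congr_fun he0 m)
    rw [← heS, this, zero_mul]
  · apply Units.ext
    rw [Units.val_mul, hiv, Units.val_one]
    simp only [mul_sub, sub_mul, mul_one, one_mul, hee]
    abel
  · intro x hx
    apply Units.ext
    rw [Units.val_mul, Units.val_mul, hiv]
    obtain ⟨h1, h1'⟩ := hsupp x hx
    simp only [mul_sub, sub_mul, mul_one, one_mul]
    rw [show e * (x : Module.End k M) = (x : Module.End k M) * e by linear_combination (norm := abel) h1' - h1]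
  · rintro _ ⟨m, rfl⟩
    have := LinearMap.congr_fun hiv (e m)
    rw [this]
    simp [← Module.End.mul_apply, hee]
  · intro m hm
    have := LinearMap.congr_fun hiv m
    rw [this]
    simp [LinearMap.mem_ker.1 hm]
  · rintro j ⟨-, -, -, -, hj1, hj2⟩
    apply Units.ext
    apply LinearMap.ext
    intro m
    have hd : m - e m ∈ LinearMap.ker e := by
      rw [LinearMap.mem_ker, map_sub, ← Module.End.mul_apply, hee, sub_self]
    have e1 := hj1 (e m) ⟨m, rfl⟩
    have e2 := hj2 _ hd
    rw [map_sub, e1] at e2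
    rw [hiv]
    simp only [LinearMap.sub_apply, Module.End.one_apply]
    linear_combination (norm := abel) e2

end CfsgLib.QP
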